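import Cfsg.Agent.Lib.OneComposite.Weight
import Cfsg.Agent.Lib.Invol.StronglyEmbedded
import Cfsg.Agent.Lib.Invol.StronglyEmbeddedOrbits
import Cfsg.Agent.S0217

/-!
# Rank at least three: the Sylow 2-normalizer is strongly embedded

The odd cores of the involution centralizers form a soluble signalizer functor whose completion is an
`r`-group normalized by `N(E)`; it is centralized by `E`, so all these cores equal the odd part `X`
of `C(E)`.
-/

set_option autoImplicit false
set_option linter.unusedSectionVars false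
set_option linter.style.haveILetI false

namespace CfsgLib.OneComposite

open Subgroup

universe u

variable {G : Type u} [Group G] [Finite G] {r : ℕ}

theorem not_isCyclic_of_sq {E : Subgroup G} (hE : ∀ x ∈ E, x * x = 1) (h : 2 < Nat.card E) :
    ¬ IsCyclic E := by
  intro hc
  obtain ⟨g, hg⟩ := IsCyclic.exists_ofOrder_eq_natCard (α := E)
  have := Nat.le_of_dvd two_pos (orderOf_dvd_of_pow_eq_one
    (show g ^ 2 = 1 from Subtype.ext (by
      show (g : G) ^ 2 = 1
      rw [pow_two]; exact hE g g.2)))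
  omega

theorem exists_mem_ne_one {E : Subgroup G} (h : 1 < Nat.card E) : ∃ a ∈ E, a ≠ 1 := by
  by_contra hcon
  push Not at hcon
  have : E = ⊥ := eq_bot_iff.2 fun x hx => mem_bot.2 (hcon x hx)
  rw [this, card_bot] at h
  omega

variable (E : Sylow 2 G)

theorem sylow_le_normalizer_coreIn (h : Spec G r) {a : G} (ha : a ∈ (E : Subgroup G)) :
    (E : Subgroup G) ≤ normalizer (coreIn (centralizer ({a} : Set G)) : Set G) :=
  (sylow_le_centralizer E h ha).trans (le_normalizer_coreIn _)

theorem Spec.coreIn_invol_isPGroup (h : Spec G r) {a : G} (ha : orderOf a = 2) :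
    IsPGroup r (coreIn (centralizer ({a} : Set G))) :=
  isPGroup_of_odd_two_prime h.prime h.ne_two (coreIn_odd _) fun y hy =>
    h.invol_centralizer_orders ha y (coreIn_le _ hy)

theorem xCore_le_coreIn (h : Spec G r) {a : G} (ha : a ∈ (E : Subgroup G)) (ha1 : a ≠ 1) :
    xCore E ≤ coreIn (centralizer ({a} : Set G)) :=
  h.odd_le_coreIn E (h.solvable_invol (orderOf_of_sq (h.sylow_sq E ha) ha1))
    (sylow_le_centralizer E h ha)
    ((xCore_le E).trans (centralizer_le (Set.singleton_subset_iff.2 ha))) (xCore_odd E)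
    (le_normalizer.trans (normalizer_le_normalizer_xCore E))

/-- The odd cores of the involution centralizers coincide with `X`. -/
theorem Spec.coreIn_eq_xCore [IsSimpleGroup G] (h : Spec G r) (hna : ¬ IsMulCommutative G)
    (h8 : 8 ≤ Nat.card (E : Subgroup G)) {a : G} (ha : a ∈ (E : Subgroup G)) (ha1 : a ≠ 1) :
    coreIn (centralizer ({a} : Set G)) = xCore E := by
  classical
  haveI : Fact (Nat.Prime 2) := ⟨Nat.prime_two⟩
  set θ : G → Subgroup G := fun b => coreIn (centralizer ({b} : Set G)) with hθ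
  have hsq : ∀ x ∈ (E : Subgroup G), x * x = 1 := fun _ => h.sylow_sq E
  have hθodd : ∀ b, Odd (Nat.card (θ b)) := fun b => coreIn_odd _
  have hbal : ∀ b ∈ (E : Subgroup G), b ≠ 1 → ∀ c ∈ (E : Subgroup G), c ≠ 1 →
      θ b ⊓ centralizer {c} ≤ θ c := by
    intro b hb hb1 c hc hc1
    refine h.odd_le_coreIn E (h.solvable_invol (orderOf_of_sq (hsq c hc) hc1))
      (sylow_le_centralizer E h hc) inf_le_right
      ((hθodd b).of_dvd_nat (card_dvd_of_le inf_le_left)) ?_
    exact Coprime.inf_le_normalizer (sylow_le_normalizer_coreIn E h hb)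
      ((sylow_le_centralizer E h hc).trans le_normalizer)
  have key := Cfsg.Agent.S0217.result (p := 2) (E : Subgroup G)
    (fun x hx y hy => comm_of_sq hsq hx hy) (fun x hx => by rw [pow_two]; exact hsq x hx)
    (by norm_num; omega) θ (fun b _ _ => coreIn_le _)
    (fun b _ _ => fun hd =>
      Nat.not_even_iff_odd.2 (hθodd b) (even_iff_two_dvd.2 hd))
    (fun b hb _ c hc x hx => (mem_normalizer_iff.1 (sylow_le_normalizer_coreIn E h hb hc) x).1 hx)
    (fun b _ _ => FrobSystem.isSolvable_subgroup_of_odd (hθodd b)) hbal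
  set W := ⨆ b : {b : G // b ∈ (E : Subgroup G) ∧ b ≠ 1}, θ b with hW
  obtain ⟨hWodd', hWfix⟩ := key
  have hWodd : Odd (Nat.card W) := Nat.odd_iff.2 (Nat.two_dvd_ne_zero.1 hWodd')
  -- `N(E)` normalizes `W`
  have hWN : normalizer ((E : Subgroup G) : Set G) ≤ normalizer (W : Set G) := by
    intro g hg
    refine CIT.cj_eq_self_iff.1 (eq_of_le_of_card_ge ?_ (CIT.card_cj g _).ge)
    rw [hW, CIT.cj, Subgroup.map_iSup]
    refine iSup_le fun b => ?_
    have hb' : g * (b : G) * g⁻¹ ∈ (E : Subgroup G) := (mem_normalizer_iff.1 hg _).1 b.2.1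
    refine le_trans ?_ (le_iSup (fun b : {b : G // b ∈ (E : Subgroup G) ∧ b ≠ 1} => θ b)
      ⟨g * (b : G) * g⁻¹, hb', fun e => b.2.2 (conj_eq_one_iff.1 e)⟩)
    refine (cj_coreIn_le g _).trans (le_of_eq ?_)
    congr 1
    ext y
    rw [CIT.mem_cj, mem_centralizer_singleton_iff, mem_centralizer_singleton_iff]
    constructor
    · intro e
      calc y * (g * b * g⁻¹) = g * (g⁻¹ * y * g * b) * g⁻¹ := by group
        _ = g * (b * (g⁻¹ * y * g)) * g⁻¹ := by rw [e]
        _ = g * b * g⁻¹ * y := by group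
    · intro e
      calc g⁻¹ * y * g * b = g⁻¹ * (y * (g * b * g⁻¹)) * g := by group
        _ = g⁻¹ * (g * b * g⁻¹ * y) * g := by rw [e]
        _ = b * (g⁻¹ * y * g) := by group
  have hEW : (E : Subgroup G) ≤ normalizer (W : Set G) := le_normalizer.trans hWN
  have hcop : (Nat.card (E : Subgroup G)).Coprime (Nat.card W) := card_coprime_of_sq_odd hsq hWodd
  haveI hab : IsMulCommutative (E : Subgroup G) :=
    ⟨⟨fun x y => Subtype.ext (comm_of_sq hsq x.2 y.2)⟩⟩
  have hnc : ¬ IsCyclic (E : Subgroup G) := not_isCyclic_of_sq hsq (by omega)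
  -- `W` is an `r`-group
  have hWr : IsPGroup r W := by
    refine isPGroup_of_odd_two_prime h.prime h.ne_two hWodd fun y hy hyp => ?_
    haveI : Fact (orderOf y).Prime := ⟨hyp⟩
    obtain ⟨Q, hQs, hQA⟩ := Coprime.exists_invariant_sylow hEW hcop
      (Or.inl (Coprime.isSolvable_of_isMulCommutative hab)) (orderOf y)
    have hdW : orderOf y ∣ Nat.card W := Subgroup.orderOf_dvd_natCard W hy
    obtain ⟨b, hb, hb1, z, hz, hz1⟩ : ∃ b ∈ (E : Subgroup G), b ≠ 1 ∧
        ∃ z ∈ Q ⊓ centralizer ({b} : Set G), z ≠ 1 := by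
      by_contra hall
      push Not at hall
      have hQ : Q ≤ ⊥ := Coprime.le_of_centralizers_le hnc hQA
        (hcop.coprime_dvd_right (card_dvd_of_le hQs.1))
        fun b hb hb1 z hz => mem_bot.2 (hall b hb hb1 z hz)
      have h1 : Nat.card Q = 1 := by rw [le_bot_iff.1 hQ, card_bot]
      rw [hQs.2, Nat.pow_eq_one] at h1
      exact (hyp.factorization_pos_of_dvd Nat.card_pos.ne' hdW).ne' (h1.resolve_left hyp.ne_one)
    obtain ⟨n, hn⟩ := IsPGroup.iff_orderOf.1 hQs.isPGroup ⟨z, hz.1⟩
    rw [← Subgroup.orderOf_coe] at hn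
    have hzodd : Odd (orderOf z) := odd_orderOf_of_mem hWodd (hQs.1 hz.1)
    rcases h.invol_pair (orderOf_of_sq (hsq b hb) hb1) hzodd
        (mem_centralizer_singleton_iff.1 hz.2).symm with e | e
    · exact absurd e hz1
    · refine Or.inr ((Nat.prime_dvd_prime_iff_eq hyp h.prime).1 ?_)
      rw [← e, hn]
      refine dvd_pow_self _ fun n0 => hz1 (orderOf_eq_one_iff.1 ?_)
      rw [hn, n0, pow_zero]
  have hWC : W ≤ xCore E := by
    intro x hx
    refine (h.mem_xCore_iff E ha ha1).2 ⟨?_, odd_orderOf_of_mem hWodd hx⟩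
    exact le_centralizer_iff.1 (h.centralizes_of_simple hna E hWr hWN) hx
  refine le_antisymm ?_ (xCore_le_coreIn E h ha ha1)
  exact (le_iSup (fun b : {b : G // b ∈ (E : Subgroup G) ∧ b ≠ 1} => θ b) ⟨a, ha, ha1⟩).trans hWC

theorem Spec.centralizer_invol_le [IsSimpleGroup G] (h : Spec G r) (hna : ¬ IsMulCommutative G)
    (h8 : 8 ≤ Nat.card (E : Subgroup G)) {a : G} (ha : a ∈ (E : Subgroup G)) (ha1 : a ≠ 1) :
    centralizer ({a} : Set G) ≤ normalizer ((E : Subgroup G) : Set G) :=
  h.le_normalizer_of_core_centralizes E (h.solvable_invol (orderOf_of_sq (h.sylow_sq E ha) ha1))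
    (sylow_le_centralizer E h ha) ((h.coreIn_eq_xCore E hna h8 ha ha1).le.trans (xCore_le E))

/-- The normalizer of `E` is proper. -/
theorem normalizer_ne_top [IsSimpleGroup G] (h : Spec G r) (hna : ¬ IsMulCommutative G)
    (h2 : 1 < Nat.card (E : Subgroup G)) : normalizer ((E : Subgroup G) : Set G) ≠ ⊤ := by
  intro e
  haveI hn : (E : Subgroup G).Normal := normalizer_eq_top_iff.1 e
  rcases hn.eq_bot_or_eq_top with e | e
  · rw [e, card_bot] at h2
    omega
  · exact hna ⟨⟨fun x y => comm_of_sq (fun _ => h.sylow_sq E) (e ▸ mem_top x) (e ▸ mem_top y)⟩⟩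

theorem Spec.stronglyEmbedded [IsSimpleGroup G] (h : Spec G r) (hna : ¬ IsMulCommutative G)
    (h8 : 8 ≤ Nat.card (E : Subgroup G)) :
    Cfsg.IsStronglyEmbedded (normalizer ((E : Subgroup G) : Set G)) := by
  haveI : Fact (Nat.Prime 2) := ⟨Nat.prime_two⟩
  have hsq : ∀ x ∈ (E : Subgroup G), x * x = 1 := fun _ => h.sylow_sq E
  obtain ⟨a, ha, ha1⟩ := exists_mem_ne_one (show 1 < Nat.card (E : Subgroup G) by omega)
  refine (Invol.stronglyEmbedded_iff (normalizer_ne_top E h hna (by omega))
    (Invol.even_card_of_invol_mem (le_normalizer ha) (orderOf_of_sq (hsq a ha) ha1))).2 ?_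
  intro t ht hto g hg
  have htE := CIT.mem_of_two_normalizer ht (CIT.isPGroup_zpowers_invol hto)
  have hgE := CIT.mem_of_two_normalizer hg (CIT.isPGroup_zpowers_invol (Invol.invol_conj hto g))
  obtain ⟨n, hn, hne⟩ := Fusion.abelian_sylow_control E
    ⟨⟨fun x y => Subtype.ext (comm_of_sq hsq x.2 y.2)⟩⟩ htE g hgE
  have hc : n⁻¹ * g ∈ centralizer ({t} : Set G) := by
    rw [mem_centralizer_singleton_iff]
    calc n⁻¹ * g * t = n⁻¹ * (g * t * g⁻¹) * g := by group
      _ = n⁻¹ * (n * t * n⁻¹) * g := by rw [hne]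
      _ = t * (n⁻¹ * g) := by group
  have := mul_mem hn (h.centralizer_invol_le E hna h8 htE (Invol.invol_ne_one hto) hc)
  rwa [mul_inv_cancel_left] at this

/-- The centralizer of a nontrivial element of `X` lies in `N(E)`. -/
theorem Spec.centralizer_x_le [IsSimpleGroup G] (h : Spec G r) (hna : ¬ IsMulCommutative G)
    (h8 : 8 ≤ Nat.card (E : Subgroup G)) {x : G} (hx : x ∈ xCore E) (hx1 : x ≠ 1) :
    centralizer ({x} : Set G) ≤ normalizer ((E : Subgroup G) : Set G) := by
  haveI : Fact (Nat.Prime 2) := ⟨Nat.prime_two⟩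
  have hsq : ∀ x ∈ (E : Subgroup G), x * x = 1 := fun _ => h.sylow_sq E
  obtain ⟨a, ha, ha1⟩ := exists_mem_ne_one (show 1 < Nat.card (E : Subgroup G) by omega)
  have hxo : orderOf x = r := by
    rcases h.invol_pair (orderOf_of_sq (hsq a ha) ha1) (odd_orderOf_of_mem (xCore_odd E) hx)
      (mem_centralizer_iff.1 (xCore_le E hx) a ha) with e | e
    · exact absurd e hx1
    · exact e
  have hle : (E : Subgroup G) ≤ centralizer ({x} : Set G) := fun e he =>
    mem_centralizer_singleton_iff.2 (mem_centralizer_iff.1 (xCore_le E hx) e he)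
  refine h.le_normalizer_of_core_centralizes E (h.solvable_r hxo) hle ?_
  haveI hab : IsMulCommutative (E : Subgroup G) :=
    ⟨⟨fun x y => Subtype.ext (comm_of_sq hsq x.2 y.2)⟩⟩
  set O := coreIn (centralizer ({x} : Set G)) with hO
  have hEO : (E : Subgroup G) ≤ normalizer (O : Set G) := hle.trans (le_normalizer_coreIn _)
  have hON : O ≤ normalizer ((E : Subgroup G) : Set G) :=
    Coprime.le_of_centralizers_le (not_isCyclic_of_sq hsq (by omega)) hEO
      (card_coprime_of_sq_odd hsq (coreIn_odd _))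
      fun b hb hb1 => inf_le_right.trans (h.centralizer_invol_le E hna h8 hb hb1)
  exact fun o ho => Coprime.mem_centralizer_of_mem_normalizer hEO
    (card_coprime_of_sq_odd hsq (coreIn_odd _)) ho (hON ho)

end CfsgLib.OneComposite
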