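import Cfsg.Agent.Lib.OneComposite.Weight
import Cfsg.Agent.Lib.OneComposite.Rank
import Cfsg.Agent.Lib.CIT.Structure
import Cfsg.Agent.Lib.Fusion.Thompson
import Cfsg.Agent.S0205

/-!
# Nonsolvable groups with the spectrum hypothesis

They have no normal subgroup of prime power order, hence a simple normal subgroup with trivial
centralizer.
-/

set_option autoImplicit false
set_option linter.unusedSectionVars false
set_option linter.style.haveILetI false

namespace CfsgLib.OneComposite

open Subgroup

universe u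

variable {G : Type u} [Group G] [Finite G] {r : ℕ}

theorem isSolvable_of_le {H K : Subgroup G} (hle : H ≤ K) (hK : Group.IsSolvable K) : Group.IsSolvable H :=
  haveI := hK
  Group.isSolvable_of_isSolvable_injective (inclusion_injective hle)

theorem isSolvable_of_quotient (N : Subgroup G) [N.Normal] (hN : Group.IsSolvable N)
    (hq : Group.IsSolvable (G ⧸ N)) : Group.IsSolvable G :=
  haveI := hN
  haveI := hq
  Group.isSolvable_of_ker_le_range N.subtype (QuotientGroup.mk' N)
    (by rw [QuotientGroup.ker_mk', range_subtype])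

/-- A group with a Sylow 2-subgroup of order at most two is solvable. -/
theorem isSolvable_of_card_sylow_le_two (E : Sylow 2 G) (hle : Nat.card (E : Subgroup G) ≤ 2) :
    Group.IsSolvable G := by
  haveI : Fact (Nat.Prime 2) := ⟨Nat.prime_two⟩
  have htwo : ∀ x ∈ (E : Subgroup G), ∀ y ∈ (E : Subgroup G), x = 1 ∨ y = 1 ∨ x = y := by
    intro x hx y hy
    by_contra hcon
    push Not at hcon
    have h3 : ({1, x, y} : Set G) ⊆ ((E : Subgroup G) : Set G) := by
      rintro z (rfl | rfl | rfl)
      exacts [one_mem _, hx, hy]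
    have h4 := Set.ncard_le_ncard h3
    rw [Set.ncard_eq_three.2 ⟨1, x, y, Ne.symm hcon.1, Ne.symm hcon.2.1, hcon.2.2, rfl⟩] at h4
    have : ((E : Subgroup G) : Set G).ncard = Nat.card (E : Subgroup G) := (Nat.card_coe_set_eq _).symm
    omega
  have hN : normalizer ((E : Subgroup G) : Set G) ≤ centralizer ((E : Subgroup G) : Set G) := by
    intro n hn
    refine mem_centralizer_iff.2 fun x hx => ?_
    rcases htwo x hx _ ((mem_normalizer_iff.1 hn x).1 hx) with e | e | e
    · rw [e, one_mul, mul_one]
    · rw [conj_eq_one_iff.1 e, one_mul, mul_one]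
    · exact (mul_inv_eq_iff_eq_mul.1 e.symm).symm
  obtain ⟨P, N, hNn, hc⟩ := Fusion.hasNormalPComplement_of_normalizer_le_centralizer E hN
  haveI := hNn
  refine isSolvable_of_quotient N ?_ ?_
  · refine Cfsg.Agent.S0205.result (Nat.odd_iff.2 ?_)
    have h1 := P.not_dvd_index
    rw [hc.index_eq_card] at h1
    omega
  · obtain ⟨k, hk⟩ := P.isPGroup'.exists_card_eq
    have hq : IsPGroup 2 (G ⧸ N) := IsPGroup.of_card (n := k) (by
      rw [← Subgroup.index_eq_card, hc.symm.index_eq_card, hk])
    haveI := hq.isNilpotent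
    infer_instance

/-- A nonsolvable group has a nontrivial perfect normal subgroup. -/
theorem exists_perfect_normal (hs : ¬ Group.IsSolvable G) :
    ∃ K : Subgroup G, K.Normal ∧ K ≠ ⊥ ∧ commutator K = ⊤ := by
  obtain ⟨n, hn⟩ : ∃ n, derivedSeries G (n + 1) = derivedSeries G n := by
    by_contra hcon
    push Not at hcon
    have key : ∀ n, Nat.card (derivedSeries G n) + n ≤ Nat.card G := by
      intro n
      induction n with
      | zero => rw [add_zero]; exact Subgroup.card_le_card_group _
      | succ n ih =>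
        have hlt : Nat.card (derivedSeries G (n + 1)) < Nat.card (derivedSeries G n) := by
          have hle : derivedSeries G (n + 1) ≤ derivedSeries G n :=
            derivedSeries_antitone G (Nat.le_succ n)
          exact lt_of_le_of_ne (Nat.le_of_dvd Nat.card_pos (card_dvd_of_le hle))
            fun e => hcon n (eq_of_le_of_card_ge hle e.ge)
        omega
    have h1 := key (Nat.card G)
    have h2 : 0 < Nat.card (derivedSeries G (Nat.card G)) := Nat.card_pos
    omega
  refine ⟨derivedSeries G n, derivedSeries_normal G n, fun e => hs ((isSolvable_def G).2 ⟨n, e⟩),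
    map_injective (subtype_injective _) ?_⟩
  rw [map_subtype_commutator, ← MonoidHom.range_eq_map, range_subtype, ← derivedSeries_succ, hn]

theorem isSolvable_of_perfect_odd_index {K : Type u} [Group K] [Finite K] (hK : commutator K = ⊤)
    (S : Subgroup K) [S.Normal] (hodd : Odd S.index) : S = ⊤ := by
  haveI : Group.IsSolvable (K ⧸ S) := Cfsg.Agent.S0205.result (Subgroup.index_eq_card S ▸ hodd)
  by_contra hne
  haveI : Nontrivial (K ⧸ S) := QuotientGroup.nontrivial_iff.2 hne
  have h := Group.IsSolvable.commutator_lt_top_of_nontrivial (K ⧸ S)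
  rw [commutator_def, ← Subgroup.map_top_of_surjective _ (QuotientGroup.mk'_surjective S),
    ← map_commutator, ← commutator_def, hK] at h
  exact h.ne rfl

/-- A nonsolvable group with the spectrum hypothesis has no normal subgroup of prime power order. -/
theorem Spec.no_normal_pgroup (h : Spec G r) (hs : ¬ Group.IsSolvable G) {p : ℕ} (hp : p.Prime)
    (W : Subgroup G) [W.Normal] (hW : IsPGroup p W) : W = ⊥ := by
  haveI : Fact p.Prime := ⟨hp⟩
  haveI : Fact (Nat.Prime 2) := ⟨Nat.prime_two⟩
  by_contra hW1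
  obtain ⟨k, hk⟩ := hW.exists_card_eq
  obtain ⟨w, hwo⟩ := exists_prime_orderOf_dvd_card' (G := W) p (hk ▸ dvd_pow_self p fun e => hW1
    (eq_bot_of_card_eq _ (by rw [hk, e, pow_zero])))
  rw [← orderOf_coe] at hwo
  have hle : centralizer (W : Set G) ≤ centralizer ({(w : G)} : Set G) :=
    centralizer_le (Set.singleton_subset_iff.2 w.2)
  by_cases hp2 : p = 2
  · subst hp2
    have hC : Group.IsSolvable (centralizer (W : Set G)) := isSolvable_of_le hle (h.solvable_invol hwo)
    refine hs (isSolvable_of_quotient _ hC (Cfsg.Agent.S0205.result ?_))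
    rw [← Subgroup.index_eq_card]
    obtain ⟨T, hT⟩ := hW.exists_le_sylow
    have hTC : (T : Subgroup G) ≤ centralizer (W : Set G) := fun x hx => mem_centralizer_iff.2 fun y hy =>
      comm_of_sq (fun _ => h.sylow_sq T) (hT hy) hx
    exact Nat.odd_iff.2 (Nat.two_dvd_ne_zero.1 fun hd => T.not_dvd_index (hd.trans (index_dvd_of_le hTC)))
  by_cases hpr : p = r
  · subst hpr
    obtain ⟨K, hK, hK1, hKp⟩ := exists_perfect_normal hs
    haveI := hK
    let T : Sylow 2 K := default
    have hT := h.centralizes_of_perfect K hKp T hW (le_top.trans (normalizer_eq_top_iff.2 inferInstance).ge)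
    set S := (centralizer (W : Set G)).subgroupOf K with hS
    have hTS : (T : Subgroup K) ≤ S := fun x hx => hT (mem_map_of_mem _ hx)
    have hStop : S = ⊤ := isSolvable_of_perfect_odd_index hKp S
      (Nat.odd_iff.2 (Nat.two_dvd_ne_zero.1 fun hd => T.not_dvd_index (hd.trans (index_dvd_of_le hTS))))
    haveI : Group.IsSolvable K :=
      isSolvable_of_le ((subgroupOf_eq_top.1 hStop).trans hle) (h.solvable_r hwo)
    haveI : Nontrivial K := (nontrivial_iff_ne_bot K).2 hK1
    exact (Group.IsSolvable.commutator_lt_top_of_nontrivial K).ne hKp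
  -- involutions invert `W`
  have hinv : ∀ {t : G}, orderOf t = 2 → ∀ v ∈ W, t * v * t⁻¹ = v⁻¹ := fun {t} ht v hv => by
    refine CIT.inverts_of_fpf ht (by rw [normalizer_eq_top]; exact mem_top _) (fun v hv hc => ?_) hv
    by_contra hv1
    obtain ⟨j, hj⟩ := IsPGroup.iff_orderOf.1 hW ⟨v, hv⟩
    rw [Subgroup.orderOf_mk] at hj
    rcases j with _ | j
    · exact hv1 (orderOf_eq_one_iff.1 (hj.trans (pow_zero p)))
    rcases h.invol_pair ht (hj ▸ (hp.odd_of_ne_two hp2).pow) hc with e | e
    · exact hv1 e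
    · rw [e] at hj
      exact hpr ((Nat.prime_dvd_prime_iff_eq hp h.prime).1 (hj ▸ dvd_pow_self p j.succ_ne_zero))
  let T : Sylow 2 G := default
  refine hs (isSolvable_of_card_sylow_le_two T ?_)
  by_contra hlt
  push Not at hlt
  obtain ⟨a, ha, ha1⟩ := exists_mem_ne_one (one_lt_two.trans hlt)
  obtain ⟨b, hb, hb1, hba⟩ : ∃ b ∈ (T : Subgroup G), b ≠ 1 ∧ b ≠ a := by
    by_contra hcon
    push Not at hcon
    have hsub : ((T : Subgroup G) : Set G) ⊆ {1, a} := fun y hy => by
      by_cases hy1 : y = 1
      · exact Or.inl hy1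
      · exact Or.inr (hcon y hy hy1)
    have h2 := (Set.ncard_le_ncard hsub).trans (Set.ncard_insert_le _ _)
    rw [Set.ncard_singleton, show ((T : Subgroup G) : Set G).ncard = Nat.card (T : Subgroup G) from
      (Nat.card_coe_set_eq _).symm] at h2
    omega
  have hab : a * b ≠ 1 := fun e => hba (by
    rw [eq_inv_of_mul_eq_one_right e, inv_eq_of_sq (h.sylow_sq T ha)])
  have hw1 : (w : G) ≠ 1 := fun e => by rw [e, orderOf_one] at hwo; exact hp.ne_one hwo.symm
  have e1 := hinv (orderOf_of_sq (h.sylow_sq T (mul_mem ha hb)) hab) _ w.2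
  rw [mul_inv_rev, show a * b * (w : G) * (b⁻¹ * a⁻¹) = a * (b * w * b⁻¹) * a⁻¹ by group,
    hinv (orderOf_of_sq (h.sylow_sq T hb) hb1) _ w.2,
    hinv (orderOf_of_sq (h.sylow_sq T ha) ha1) _ (inv_mem w.2), inv_inv] at e1
  exact hw1 (eq_one_of_sq_of_odd (hwo ▸ hp.odd_of_ne_two hp2) (mul_eq_one_iff_eq_inv.2 e1))

/-- A nonsolvable group with solvable involution centralizers and without normal subgroups of prime
power order has a simple normal subgroup with trivial centralizer. -/
theorem exists_simple_normal_of_solvable_centralizers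
    (hsolv : ∀ t : G, orderOf t = 2 → Group.IsSolvable (centralizer ({t} : Set G)))
    (hcore : ∀ p : ℕ, p.Prime → ∀ W : Subgroup G, W.Normal → IsPGroup p W → W = ⊥)
    (hs : ¬ Group.IsSolvable G) :
    ∃ N : Subgroup G, N.Normal ∧ IsSimpleGroup N ∧ ¬ IsMulCommutative N ∧
      centralizer (N : Set G) = ⊥ := by
  haveI : Fact (Nat.Prime 2) := ⟨Nat.prime_two⟩
  have hnorm : ∀ R : Subgroup G, R.Normal → Group.IsSolvable R → R = ⊥ := by
    intro R hR hRs
    by_contra hne
    obtain ⟨p, hp, hpc⟩ := CIT.exists_pCore_ne_bot hR hRs hne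
    haveI := Coprime.pCore_normal' (G := G) p
    exact hpc (hcore p hp _ inferInstance (Coprime.pCore_isPGroup p))
  have hinvol : ∀ X : Subgroup G, ¬ Group.IsSolvable X → ∃ t ∈ X, orderOf t = 2 := by
    intro X hX
    have hd : 2 ∣ Nat.card X := by
      by_contra hd
      exact hX (Cfsg.Agent.S0205.result (Nat.odd_iff.2 (Nat.two_dvd_ne_zero.1 hd)))
    obtain ⟨t, ht⟩ := exists_prime_orderOf_dvd_card' (G := X) 2 hd
    exact ⟨t, t.2, by rwa [orderOf_coe]⟩
  haveI : Nontrivial G := by
    by_contra hn
    haveI : Subsingleton G := not_nontrivial_iff_subsingleton.1 hn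
    exact hs inferInstance
  obtain ⟨N, hN, hN1, -, hmin⟩ := Coprime.exists_minimal_normal_le (top_ne_bot (α := Subgroup G))
  haveI := hN
  have hNs : ¬ Group.IsSolvable N := fun h => hN1 (hnorm N hN h)
  haveI : Nontrivial N := (nontrivial_iff_ne_bot N).2 hN1
  obtain ⟨K, hK, hK1, -, hKmin⟩ := Coprime.exists_minimal_normal_le (top_ne_bot (α := Subgroup N))
  haveI := hK
  have hKs : ¬ Group.IsSolvable K := by
    intro h
    obtain ⟨p, hp, hpc⟩ := CIT.exists_pCore_ne_bot hK h hK1
    haveI : (Cfsg.pCore p N).Characteristic := Coprime.pCore_characteristic p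
    exact hpc ((map_eq_bot_iff_of_injective _ N.subtype_injective).1
      (hcore p hp ((Cfsg.pCore p N).map N.subtype) inferInstance ((Coprime.pCore_isPGroup p).map _)))
  set K' : Subgroup G := K.map N.subtype with hK'
  have hK'N : K' ≤ N := map_subtype_le K
  have hK's : ¬ Group.IsSolvable K' := fun h => by
    haveI := h
    exact hKs (Group.isSolvable_of_isSolvable_injective
      (f := (equivMapOfInjective K N.subtype N.subtype_injective).toMonoidHom)
      (equivMapOfInjective K N.subtype N.subtype_injective).injective)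
  obtain ⟨t, ht, hto⟩ := hinvol K' hK's
  have hconj : ∀ g : G, CIT.cj g K' = K' := by
    intro g
    by_contra hne
    have hgN : CIT.cj g K' ≤ N := fun x hx => by
      have h := hN.conj_mem _ (hK'N (CIT.mem_cj.1 hx)) g
      rwa [show g * (g⁻¹ * x * g) * g⁻¹ = x by group] at h
    have hn2 : ∀ n ∈ N, ∀ x ∈ CIT.cj g K', n * x * n⁻¹ ∈ CIT.cj g K' := by
      intro n hn x hx
      rw [CIT.mem_cj] at hx ⊢
      obtain ⟨k, hk, hke⟩ := hx
      have hn' : g⁻¹ * n * g ∈ N := by
        have := hN.conj_mem n hn g⁻¹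
        rwa [inv_inv] at this
      refine ⟨⟨_, hn'⟩ * k * ⟨_, hn'⟩⁻¹, hK.conj_mem k hk _, ?_⟩
      simp only [coe_subtype, map_mul, map_inv] at hke ⊢
      rw [hke]
      group
    have hKn : ∀ n ∈ N, ∀ x ∈ K', n * x * n⁻¹ ∈ K' := by
      rintro n hn _ ⟨k, hk, rfl⟩
      exact ⟨⟨n, hn⟩ * k * ⟨n, hn⟩⁻¹, hK.conj_mem k hk _, by simp⟩
    have hmeet : K' ⊓ CIT.cj g K' = ⊥ := by
      have hn : ((K' ⊓ CIT.cj g K').subgroupOf N).Normal := ⟨fun x hx n => by
        rw [mem_subgroupOf] at hx ⊢
        exact ⟨hKn n n.2 x hx.1, hn2 n n.2 x hx.2⟩⟩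
      rcases hKmin _ hn (fun x hx => by
        rw [mem_subgroupOf] at hx
        obtain ⟨k, hk, hke⟩ := hx.1
        exact (Subtype.ext hke : k = x) ▸ hk) with h | h
      · rw [subgroupOf_eq_bot] at h
        exact (h.eq_bot_of_le (inf_le_left.trans hK'N) :)
      · exfalso
        refine hne (eq_of_le_of_card_ge (fun x hx => ?_) (CIT.card_cj g K').le).symm
        obtain ⟨k, hk, rfl⟩ := hx
        have hk' : k ∈ (K' ⊓ CIT.cj g K').subgroupOf N := h.symm ▸ hk
        exact (mem_inf.1 (mem_subgroupOf.1 hk')).2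
    have hle : CIT.cj g K' ≤ centralizer ({t} : Set G) := by
      intro y hy
      have hcom : t * y * t⁻¹ * y⁻¹ = 1 := by
        rw [← mem_bot, ← hmeet]
        refine mem_inf.2 ⟨?_, mul_mem (hn2 t (hK'N ht) y hy) (inv_mem hy)⟩
        rw [show t * y * t⁻¹ * y⁻¹ = t * (y * t⁻¹ * y⁻¹) by group]
        exact mul_mem ht (hKn y (hgN hy) _ (inv_mem ht))
      rw [mul_inv_eq_one, mul_inv_eq_iff_eq_mul] at hcom
      exact mem_centralizer_singleton_iff.2 hcom.symm
    haveI : Group.IsSolvable (K'.map (MulAut.conj g).toMonoidHom) := isSolvable_of_le hle (hsolv t hto)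
    exact hK's (Group.isSolvable_of_isSolvable_injective
      (f := (equivMapOfInjective K' (MulAut.conj g).toMonoidHom (MulAut.conj g).injective).toMonoidHom)
      (equivMapOfInjective K' (MulAut.conj g).toMonoidHom (MulAut.conj g).injective).injective)
  have hKN : K' = N := by
    haveI : K'.Normal := ⟨fun x hx g => by
      have h := (CIT.conj_mem_cj (g := g)).2 hx
      rwa [hconj g] at h⟩
    exact (hmin K' inferInstance hK'N).resolve_left fun h => hK1
      ((map_eq_bot_iff_of_injective _ N.subtype_injective).1 h)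
  have hKtop : K = ⊤ := map_injective N.subtype_injective
    (by rw [← hK', hKN, ← MonoidHom.range_eq_map, range_subtype])
  haveI hS : IsSimpleGroup N := ⟨fun H hH => (hKmin H hH (hKtop ▸ le_top)).imp_right fun h => h.trans hKtop⟩
  refine ⟨N, hN, hS, fun h => hNs ?_, ?_⟩
  · exact Group.isSolvable_of_comm (isMulCommutative_iff.1 h)
  · by_contra hC1
    obtain ⟨u, hu, huo⟩ := hinvol (centralizer (N : Set G)) fun h => hC1 (hnorm _ inferInstance h)
    exact hNs (isSolvable_of_le (fun w hw => mem_centralizer_singleton_iff.2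
      (mem_centralizer_iff.1 hu w hw)) (hsolv u huo))

/-- The simple normal subgroup. -/
theorem Spec.exists_simple_normal (h : Spec G r) (hs : ¬ Group.IsSolvable G) :
    ∃ N : Subgroup G, N.Normal ∧ IsSimpleGroup N ∧ ¬ IsMulCommutative N ∧
      centralizer (N : Set G) = ⊥ :=
  exists_simple_normal_of_solvable_centralizers (fun _ ht => h.solvable_invol ht)
    (fun _ hp W hW hWp => haveI := hW; h.no_normal_pgroup hs hp W hWp) hs

end CfsgLib.OneComposite
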