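import Mathlib
import Cfsg.Agent.Lib.CIT.TI
import Cfsg.Agent.Lib.Invol.CharTwo
import Cfsg.Agent.Lib.Invol.OddCore
import Cfsg.Agent.Lib.Coprime.Action
import Cfsg.Agent.S0144

/-!
# Groups in which the even element orders are `2` and `2r`, and the multiples of `r` are `r` and `2r`

Elementary consequences: the centralizers of involutions are `{2, r}`-groups with a normal elementary
abelian Sylow 2-subgroup modulo the odd core.
-/

set_option autoImplicit false
set_option linter.unusedSectionVars false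
set_option linter.style.haveILetI false

namespace CfsgLib.OneComposite

open Subgroup

universe u

/-- The spectrum hypothesis. -/
structure Spec (G : Type u) [Group G] (r : ℕ) : Prop where
  prime : r.Prime
  ne_two : r ≠ 2
  two : ∀ g : G, 2 ∣ orderOf g → orderOf g = 2 ∨ orderOf g = 2 * r
  mult : ∀ g : G, r ∣ orderOf g → orderOf g = r ∨ orderOf g = 2 * r

variable {G : Type u} [Group G] {r : ℕ}

theorem Spec.odd_prime (h : Spec G r) : Odd r := h.prime.odd_of_ne_two h.ne_two

theorem Spec.two_lt (h : Spec G r) : 2 < r := lt_of_le_of_ne h.prime.two_le h.ne_two.symm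

theorem Spec.subgroup (h : Spec G r) (H : Subgroup G) : Spec H r where
  prime := h.prime
  ne_two := h.ne_two
  two g hg := by
    rw [← Subgroup.orderOf_coe] at hg ⊢
    exact h.two _ hg
  mult g hg := by
    rw [← Subgroup.orderOf_coe] at hg ⊢
    exact h.mult _ hg

theorem Spec.of_injective {H : Type*} [Group H] (h : Spec G r) (f : H →* G) (hf : Function.Injective f) :
    Spec H r where
  prime := h.prime
  ne_two := h.ne_two
  two g hg := by
    rw [← orderOf_injective f hf g] at hg ⊢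
    exact h.two _ hg
  mult g hg := by
    rw [← orderOf_injective f hf g] at hg ⊢
    exact h.mult _ hg

variable [Finite G]

/-- A power of an element of a prescribed order dividing its order. -/
theorem exists_pow_orderOf {H : Type*} [Group H] (f : G →* H) (hf : Function.Surjective f) (x : H) :
    ∃ g : G, orderOf g = orderOf x := by
  obtain ⟨y, rfl⟩ := hf x
  exact ⟨y ^ (orderOf y / orderOf (f y)),
    orderOf_pow_orderOf_div (orderOf_pos y).ne' (orderOf_map_dvd f y)⟩

theorem Spec.of_surjective {H : Type*} [Group H] (h : Spec G r) (f : G →* H)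
    (hf : Function.Surjective f) : Spec H r where
  prime := h.prime
  ne_two := h.ne_two
  two x hx := by
    obtain ⟨g, hg⟩ := exists_pow_orderOf f hf x
    rw [← hg] at hx ⊢
    exact h.two g hx
  mult x hx := by
    obtain ⟨g, hg⟩ := exists_pow_orderOf f hf x
    rw [← hg] at hx ⊢
    exact h.mult g hx

/-- An element of odd order centralizing an involution is trivial or has order `r`. -/
theorem Spec.invol_pair (h : Spec G r) {a y : G} (ha : orderOf a = 2) (hy : Odd (orderOf y))
    (hc : a * y = y * a) : y = 1 ∨ orderOf y = r := by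
  have ho : orderOf (a * y) = 2 * orderOf y := by
    rw [(show Commute a y from hc).orderOf_mul_eq_mul_orderOf_of_coprime
      (ha ▸ Nat.coprime_two_left.2 hy), ha]
  rcases h.two (a * y) (ho ▸ dvd_mul_right 2 _) with e | e <;> rw [ho] at e
  · exact Or.inl (orderOf_eq_one_iff.1 (by omega))
  · exact Or.inr (by omega)

/-- An element of order `r` commutes with elements of prime order `2` and `r` only. -/
theorem Spec.prime_pair (h : Spec G r) {x y : G} (hx : orderOf x = r) (hy : (orderOf y).Prime)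
    (hc : x * y = y * x) : orderOf y = 2 ∨ orderOf y = r := by
  by_contra hcon
  push Not at hcon
  have ho : orderOf (x * y) = r * orderOf y := by
    rw [(show Commute x y from hc).orderOf_mul_eq_mul_orderOf_of_coprime
      (hx ▸ (Nat.coprime_primes h.prime hy).2 hcon.2.symm), hx]
  rcases h.mult (x * y) (ho ▸ dvd_mul_right r _) with e | e <;> rw [ho] at e
  · have := hy.two_le
    nlinarith [h.prime.pos]
  · exact hcon.1 (Nat.eq_of_mul_eq_mul_left h.prime.pos (by rw [e, mul_comm]))

/-- The elements of `r`-power order have order `r`. -/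
theorem Spec.exp_r (h : Spec G r) {x : G} {k : ℕ} (hk : orderOf x = r ^ k) : x ^ r = 1 := by
  rcases k with _ | k
  · rw [pow_zero] at hk
    rw [orderOf_eq_one_iff.1 hk, one_pow]
  · rcases h.mult x (hk ▸ dvd_pow_self r k.succ_ne_zero) with e | e
    · conv_lhs => rw [← e]
      exact pow_orderOf_eq_one x
    · exfalso
      have h2 : 2 ∣ r ^ (k + 1) := ⟨r, by rw [← hk, e]⟩
      exact h.ne_two ((Nat.prime_dvd_prime_iff_eq Nat.prime_two h.prime).1
        (Nat.prime_two.dvd_of_dvd_pow h2)).symm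

/-- The elements of two-power order are involutions. -/
theorem Spec.sq_of_two (h : Spec G r) {x : G} (hx : IsPGroup 2 (zpowers x)) : x * x = 1 := by
  haveI : Fact (Nat.Prime 2) := ⟨Nat.prime_two⟩
  obtain ⟨k, hk⟩ := hx.exists_card_eq
  rw [Nat.card_zpowers] at hk
  rcases k with _ | k
  · rw [pow_zero] at hk
    rw [orderOf_eq_one_iff.1 hk, one_mul]
  · rcases h.two x (hk ▸ dvd_pow_self 2 k.succ_ne_zero) with e | e
    · rw [← pow_two, ← e, pow_orderOf_eq_one]
    · exfalso
      have h2 : r ∣ 2 ^ (k + 1) := ⟨2, by rw [← hk, e, mul_comm]⟩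
      exact h.ne_two ((Nat.prime_dvd_prime_iff_eq h.prime Nat.prime_two).1
        (h.prime.dvd_of_dvd_pow h2))

/-- Elements of a Sylow 2-subgroup square to one. -/
theorem Spec.sylow_sq (h : Spec G r) (T : Sylow 2 G) {x : G} (hx : x ∈ (T : Subgroup G)) : x * x = 1 :=
  h.sq_of_two (T.2.to_le (zpowers_le.2 hx))

theorem comm_of_sq {E : Subgroup G} (hE : ∀ x ∈ E, x * x = 1) {x y : G} (hx : x ∈ E) (hy : y ∈ E) :
    x * y = y * x := by
  calc x * y = x * (x * y * (x * y)) * y := by rw [hE _ (E.mul_mem hx hy), mul_one]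
    _ = (x * x) * (y * x) * (y * y) := by group
    _ = y * x := by rw [hE x hx, hE y hy, one_mul, mul_one]

theorem inv_eq_of_sq {x : G} (h : x * x = 1) : x⁻¹ = x := inv_eq_of_mul_eq_one_right h

theorem orderOf_of_sq {x : G} (h : x * x = 1) (h1 : x ≠ 1) : orderOf x = 2 :=
  Invol.invol_iff.2 ⟨h, h1⟩

theorem isPGroup_of_sq {E : Subgroup G} (hE : ∀ x ∈ E, x * x = 1) : IsPGroup 2 E := fun x =>
  ⟨1, Subtype.ext (by
    show (x : G) ^ 2 ^ 1 = 1
    rw [pow_one, pow_two]
    exact hE x x.2)⟩

theorem odd_orderOf_of_mem {D : Subgroup G} (hD : Odd (Nat.card D)) {y : G} (hy : y ∈ D) :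
    Odd (orderOf y) := hD.of_dvd_nat (Subgroup.orderOf_dvd_natCard D hy)

theorem eq_one_of_sq_of_odd {y : G} (hy : Odd (orderOf y)) (h : y * y = 1) : y = 1 := by
  by_contra h1
  rw [orderOf_of_sq h h1] at hy
  exact absurd hy (by decide)

theorem disjoint_sq_odd {E D : Subgroup G} (hE : ∀ x ∈ E, x * x = 1) (hD : Odd (Nat.card D)) {x : G}
    (hx : x ∈ E) (hxD : x ∈ D) : x = 1 := eq_one_of_sq_of_odd (odd_orderOf_of_mem hD hxD) (hE x hx)

theorem card_coprime_of_sq_odd {E D : Subgroup G} (hE : ∀ x ∈ E, x * x = 1) (hD : Odd (Nat.card D)) :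
    (Nat.card E).Coprime (Nat.card D) := by
  haveI : Fact (Nat.Prime 2) := ⟨Nat.prime_two⟩
  obtain ⟨k, hk⟩ := (isPGroup_of_sq hE).exists_card_eq
  rw [hk]
  exact Nat.Coprime.pow_left k (Nat.coprime_two_left.2 hD)

/-! ### `{2, r}`-groups -/

/-- A group whose elements of prime order have order `2` or `r`. -/
theorem card_two_prime (hr : r.Prime) (hr2 : r ≠ 2) {H : Subgroup G}
    (hH : ∀ y ∈ H, (orderOf y).Prime → orderOf y = 2 ∨ orderOf y = r) :
    ∃ a b : ℕ, Nat.card H = 2 ^ a * r ^ b := by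
  set n := Nat.card H with hn
  have hn0 : n ≠ 0 := Nat.card_pos.ne'
  refine ⟨n.factorization 2, n.factorization r, ?_⟩
  refine Nat.eq_of_factorization_eq hn0
    (mul_ne_zero (pow_ne_zero _ two_ne_zero) (pow_ne_zero _ hr.ne_zero)) fun s => ?_
  rw [Nat.factorization_mul (pow_ne_zero _ two_ne_zero) (pow_ne_zero _ hr.ne_zero),
    Nat.prime_two.factorization_pow, hr.factorization_pow, Finsupp.add_apply, Finsupp.single_apply,
    Finsupp.single_apply]
  by_cases hs2 : 2 = s
  · subst hs2
    rw [if_pos rfl, if_neg hr2, add_zero]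
  by_cases hsr : r = s
  · subst hsr
    rw [if_neg hs2, if_pos rfl, zero_add]
  rw [if_neg hs2, if_neg hsr, add_zero]
  by_contra hne
  have hs : s.Prime := Nat.prime_of_mem_primeFactors (Finsupp.mem_support_iff.2 hne)
  haveI : Fact s.Prime := ⟨hs⟩
  have hd : s ∣ n := Nat.dvd_of_factorization_pos hne
  obtain ⟨y, hy⟩ := exists_prime_orderOf_dvd_card' (G := H) s hd
  rw [← Subgroup.orderOf_coe] at hy
  rcases hH y y.2 (hy ▸ hs) with e | e
  · exact hs2 (e.symm.trans hy)
  · exact hsr (e.symm.trans hy)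

theorem isSolvable_of_two_prime (hr : r.Prime) (hr2 : r ≠ 2) {H : Subgroup G}
    (hH : ∀ y ∈ H, (orderOf y).Prime → orderOf y = 2 ∨ orderOf y = r) : Group.IsSolvable H := by
  obtain ⟨a, b, hab⟩ := card_two_prime hr hr2 hH
  exact Cfsg.Agent.S0144.result 2 r a b Nat.prime_two hr hab

theorem isPGroup_of_odd_two_prime (hr : r.Prime) (hr2 : r ≠ 2) {H : Subgroup G} (hodd : Odd (Nat.card H))
    (hH : ∀ y ∈ H, (orderOf y).Prime → orderOf y = 2 ∨ orderOf y = r) : IsPGroup r H := by
  obtain ⟨a, b, hab⟩ := card_two_prime hr hr2 hH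
  rcases a with _ | a
  · exact IsPGroup.of_card (n := b) (by rw [hab, pow_zero, one_mul])
  · exact absurd (hodd.of_dvd_nat (hab ▸ dvd_mul_of_dvd_left (dvd_pow_self 2 a.succ_ne_zero) _))
      (by decide)

theorem Spec.invol_centralizer_orders (h : Spec G r) {a : G} (ha : orderOf a = 2) :
    ∀ y ∈ centralizer ({a} : Set G), (orderOf y).Prime → orderOf y = 2 ∨ orderOf y = r := by
  intro y hy hp
  rcases hp.eq_two_or_odd' with e | e
  · exact Or.inl e
  · rcases h.invol_pair ha e (mem_centralizer_singleton_iff.1 hy).symm with h1 | h1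
    · rw [h1, orderOf_one] at hp
      exact absurd hp Nat.not_prime_one
    · exact Or.inr h1

theorem Spec.r_centralizer_orders (h : Spec G r) {x : G} (hx : orderOf x = r) :
    ∀ y ∈ centralizer ({x} : Set G), (orderOf y).Prime → orderOf y = 2 ∨ orderOf y = r := fun _ hy hp =>
  h.prime_pair hx hp (mem_centralizer_singleton_iff.1 hy).symm

theorem Spec.solvable_invol (h : Spec G r) {a : G} (ha : orderOf a = 2) :
    Group.IsSolvable (centralizer ({a} : Set G)) :=
  isSolvable_of_two_prime h.prime h.ne_two (h.invol_centralizer_orders ha)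

theorem Spec.solvable_r (h : Spec G r) {x : G} (hx : orderOf x = r) :
    Group.IsSolvable (centralizer ({x} : Set G)) :=
  isSolvable_of_two_prime h.prime h.ne_two (h.r_centralizer_orders hx)

/-! ### The odd core of a subgroup -/

theorem le_normalizer_map_subtype {H : Subgroup G} (K : Subgroup H) [K.Normal] :
    H ≤ normalizer (K.map H.subtype : Set G) := by
  refine le_trans ?_ (Subgroup.le_normalizer_map H.subtype)
  rw [normalizer_eq_top, ← MonoidHom.range_eq_map, Subgroup.range_subtype]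

/-- The odd core of a subgroup, inside the whole group. -/
def coreIn (H : Subgroup G) : Subgroup G := (Cfsg.pPrimeCore 2 H).map H.subtype

theorem coreIn_le (H : Subgroup G) : coreIn H ≤ H := map_subtype_le _

theorem coreIn_odd (H : Subgroup G) : Odd (Nat.card (coreIn H)) := by
  rw [coreIn, card_map_of_injective H.subtype_injective]
  exact Nat.odd_iff.2 (Nat.two_dvd_ne_zero.1 (Coprime.pPrimeCore_not_dvd Nat.prime_two))

theorem le_normalizer_coreIn (H : Subgroup G) : H ≤ normalizer (coreIn H : Set G) := by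
  haveI := Coprime.pPrimeCore_characteristic (G := H) 2
  exact le_normalizer_map_subtype _

theorem le_coreIn {D H : Subgroup G} (hDH : D ≤ H) (hn : H ≤ normalizer (D : Set G))
    (hodd : Odd (Nat.card D)) : D ≤ coreIn H := by
  haveI : (D.subgroupOf H).Normal := (normal_subgroupOf_iff_le_normalizer hDH).2 hn
  have h : D.subgroupOf H ≤ Cfsg.pPrimeCore 2 H := by
    refine Coprime.le_pPrimeCore ?_
    rw [Nat.card_congr (subgroupOfEquivOfLe hDH).toEquiv]
    exact Nat.coprime_two_right.2 hodd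
  have h' := map_mono (f := H.subtype) h
  rwa [map_subgroupOf_eq_of_le hDH] at h'

theorem cj_coreIn_le (g : G) (H : Subgroup G) : CIT.cj g (coreIn H) ≤ coreIn (CIT.cj g H) := by
  refine le_coreIn (CIT.cj_mono (coreIn_le H)) (fun x hx => ?_) ?_
  · have hx' := le_normalizer_coreIn H (CIT.mem_cj.1 hx)
    refine CIT.cj_eq_self_iff.1 ?_
    have e := CIT.cj_eq_self_iff.2 hx'
    conv_rhs => rw [← e]
    rw [CIT.cj_mul, CIT.cj_mul]
    congr 1
    group
  · rw [CIT.card_cj]
    exact coreIn_odd H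

/-- In a solvable group with elementary abelian Sylow 2-subgroup `E`, every odd subgroup normalized
by `E` lies in the odd core, and `E` times the odd core is normal. -/
theorem core_facts [Group.IsSolvable G] (T : Sylow 2 G) (hT : ∀ x ∈ (T : Subgroup G), x * x = 1) :
    (Cfsg.pPrimeCore 2 G ⊔ (T : Subgroup G)).Normal ∧
    ∀ D : Subgroup G, Odd (Nat.card D) → (T : Subgroup G) ≤ normalizer (D : Set G) →
      D ≤ Cfsg.pPrimeCore 2 G := by
  haveI : Fact (Nat.Prime 2) := ⟨Nat.prime_two⟩
  set O := Cfsg.pPrimeCore 2 G with hO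
  have hO0 : Cfsg.pPrimeCore 2 (G ⧸ O) = ⊥ := Coprime.pPrimeCore_quotient_eq_bot Nat.prime_two
  haveI : Group.IsSolvable (G ⧸ O) := Group.isSolvable_of_surjective (QuotientGroup.mk'_surjective O)
  set Tq : Sylow 2 (G ⧸ O) := T.mapSurjective (QuotientGroup.mk'_surjective O) with hTq
  have hTqe : (Tq : Subgroup (G ⧸ O)) = (T : Subgroup G).map (QuotientGroup.mk' O) :=
    Sylow.coe_mapSurjective _ T
  have hTsq : ∀ x ∈ (Tq : Subgroup (G ⧸ O)), x * x = 1 := by
    intro x hx
    rw [hTqe] at hx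
    obtain ⟨y, hy, rfl⟩ := hx
    rw [← map_mul, hT y hy, map_one]
  haveI := Coprime.pCore_normal' (G := G ⧸ O) 2
  have h2 : Cfsg.pCore 2 (G ⧸ O) ≤ (Tq : Subgroup (G ⧸ O)) := by
    obtain ⟨P, hP⟩ := (Coprime.pCore_isPGroup (G := G ⧸ O) 2).exists_le_sylow
    obtain ⟨g, hg⟩ := MulAction.exists_smul_eq (G ⧸ O) P Tq
    rw [← hg, Sylow.coe_subgroup_smul]
    exact (Subgroup.Normal.conj_smul_eq_self g (Cfsg.pCore 2 (G ⧸ O))).ge.trans
      (Subgroup.map_mono hP)
  have hTc : (Tq : Subgroup (G ⧸ O)) ≤ centralizer (Cfsg.pCore 2 (G ⧸ O) : Set (G ⧸ O)) :=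
    fun x hx => mem_centralizer_iff.2 fun y hy => comm_of_sq hTsq (h2 hy) hx
  have hTle : (Tq : Subgroup (G ⧸ O)) = Cfsg.pCore 2 (G ⧸ O) :=
    le_antisymm (hTc.trans (Invol.centralizer_pCore_le_of_solvable hO0)) h2
  haveI hTn : ((T : Subgroup G).map (QuotientGroup.mk' O)).Normal := by
    rw [← hTqe, hTle]; exact inferInstance
  refine ⟨?_, fun D hD hTD => ?_⟩
  · have e : O ⊔ (T : Subgroup G) =
        ((T : Subgroup G).map (QuotientGroup.mk' O)).comap (QuotientGroup.mk' O) := by
      rw [comap_map_eq, QuotientGroup.ker_mk', sup_comm]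
    rw [e]
    exact hTn.comap _
  · intro d hd
    have hcent : QuotientGroup.mk' O d ∈
        centralizer (Cfsg.pCore 2 (G ⧸ O) : Set (G ⧸ O)) := by
      refine mem_centralizer_iff.2 fun y hy => ?_
      have hy' : y ∈ (T : Subgroup G).map (QuotientGroup.mk' O) := by rw [← hTqe, hTle]; exact hy
      obtain ⟨t, ht, rfl⟩ := hy'
      have h1 : d * t * d⁻¹ * t⁻¹ ∈ D := by
        rw [show d * t * d⁻¹ * t⁻¹ = d * (t * d⁻¹ * t⁻¹) by group]
        exact mul_mem hd ((mem_normalizer_iff.1 (hTD ht) _).1 (inv_mem hd))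
      have h2' : QuotientGroup.mk' O (d * t * d⁻¹ * t⁻¹) ∈ (T : Subgroup G).map (QuotientGroup.mk' O) := by
        rw [map_mul, map_mul, map_mul, map_inv, map_inv]
        exact mul_mem (hTn.conj_mem _ ⟨t, ht, rfl⟩ _) (inv_mem ⟨t, ht, rfl⟩)
      obtain ⟨t', ht', e⟩ := h2'
      have h3 : QuotientGroup.mk' O (d * t * d⁻¹ * t⁻¹) = 1 := by
        refine eq_one_of_sq_of_odd ((odd_orderOf_of_mem hD h1).of_dvd_nat (orderOf_map_dvd _ _)) ?_
        rw [← e, ← map_mul, hT t' ht', map_one]
      rw [map_mul, map_mul, map_mul, map_inv, map_inv, mul_inv_eq_one, mul_inv_eq_iff_eq_mul] at h3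
      exact h3.symm
    have h4 : QuotientGroup.mk' O d ∈ Cfsg.pCore 2 (G ⧸ O) :=
      Invol.centralizer_pCore_le_of_solvable hO0 hcent
    rw [← hTle] at h4
    have h5 : QuotientGroup.mk' O d = 1 :=
      eq_one_of_sq_of_odd ((odd_orderOf_of_mem hD hd).of_dvd_nat (orderOf_map_dvd _ _)) (hTsq _ h4)
    exact (QuotientGroup.eq_one_iff d).1 h5

variable (E : Sylow 2 G)

/-- The Sylow 2-subgroup, seen in a subgroup containing it. -/
def sylowIn {H : Subgroup G} (hle : (E : Subgroup G) ≤ H) : Sylow 2 H := E.subtype hle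

/-- An odd subgroup of a solvable overgroup of `E`, normalized by `E`, is in its core. -/
theorem Spec.odd_le_coreIn (h : Spec G r) {H : Subgroup G} (hs : Group.IsSolvable H)
    (hle : (E : Subgroup G) ≤ H) {D : Subgroup G} (hDH : D ≤ H) (hD : Odd (Nat.card D))
    (hED : (E : Subgroup G) ≤ normalizer (D : Set G)) : D ≤ coreIn H := by
  haveI := hs
  have hT : ∀ x ∈ (sylowIn E hle : Subgroup H), x * x = 1 := fun x hx =>
    Subtype.ext (h.sylow_sq E (by simpa [sylowIn, mem_subgroupOf] using hx))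
  have key := (core_facts (sylowIn E hle) hT).2 (D.subgroupOf H)
    (by rwa [Nat.card_congr (subgroupOfEquivOfLe hDH).toEquiv]) (fun x hx => ?_)
  · have h' := map_mono (f := H.subtype) key
    rwa [map_subgroupOf_eq_of_le hDH] at h'
  · have hx' : (x : G) ∈ (E : Subgroup G) := by simpa [sylowIn, mem_subgroupOf] using hx
    refine mem_normalizer_iff.2 fun y => ?_
    simpa [mem_subgroupOf] using mem_normalizer_iff.1 (hED hx') (y : G)

/-- A solvable overgroup of `E` normalizes `E` times its core. -/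
theorem Spec.le_normalizer_core_sup (h : Spec G r) {H : Subgroup G} (hs : Group.IsSolvable H)
    (hle : (E : Subgroup G) ≤ H) : H ≤ normalizer ((coreIn H ⊔ (E : Subgroup G) : Subgroup G) : Set G) := by
  haveI := hs
  have hT : ∀ x ∈ (sylowIn E hle : Subgroup H), x * x = 1 := fun x hx =>
    Subtype.ext (h.sylow_sq E (by simpa [sylowIn, mem_subgroupOf] using hx))
  haveI := (core_facts (sylowIn E hle) hT).1
  have h1 := le_normalizer_map_subtype (Cfsg.pPrimeCore 2 H ⊔ (sylowIn E hle : Subgroup H))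
  rw [Subgroup.map_sup, show (sylowIn E hle : Subgroup H).map H.subtype = (E : Subgroup G) from
    map_subgroupOf_eq_of_le hle] at h1
  exact h1

/-- An element of two-power order centralizing `E` lies in it. -/
theorem mem_sylow_of_centralizes {x : G} (hx : x ∈ centralizer ((E : Subgroup G) : Set G))
    (h2 : IsPGroup 2 (zpowers x)) : x ∈ (E : Subgroup G) :=
  CIT.mem_of_two_normalizer (Coprime.centralizer_le_normalizer_self _ hx) h2

/-- A solvable overgroup whose core centralizes `E` normalizes `E`. -/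
theorem Spec.le_normalizer_of_core_centralizes (h : Spec G r) {H : Subgroup G} (hs : Group.IsSolvable H)
    (hle : (E : Subgroup G) ≤ H) (hc : coreIn H ≤ centralizer ((E : Subgroup G) : Set G)) :
    H ≤ normalizer ((E : Subgroup G) : Set G) := by
  intro x hx
  refine CIT.cj_eq_self_iff.1 (eq_of_le_of_card_ge (fun y hy => ?_) (CIT.card_cj x _).ge)
  have hy' : x⁻¹ * y * x ∈ (E : Subgroup G) := CIT.mem_cj.1 hy
  have hsup : (coreIn H ⊔ (E : Subgroup G)) ≤ centralizer ((E : Subgroup G) : Set G) :=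
    sup_le hc fun e he => mem_centralizer_iff.2 fun f hf => comm_of_sq (fun _ => h.sylow_sq E) hf he
  have hy2 : y ∈ centralizer ((E : Subgroup G) : Set G) := by
    refine hsup ?_
    have := (mem_normalizer_iff.1 (h.le_normalizer_core_sup E hs hle hx) _).1 (mem_sup_right hy')
    rwa [show x * (x⁻¹ * y * x) * x⁻¹ = y by group] at this
  refine mem_sylow_of_centralizes E hy2 ?_
  have hsq : y * y = 1 := by
    have h1 := h.sylow_sq E hy'
    calc y * y = x * ((x⁻¹ * y * x) * (x⁻¹ * y * x)) * x⁻¹ := by group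
      _ = 1 := by rw [h1, mul_one, mul_inv_cancel]
  exact (isPGroup_of_sq (E := zpowers y) fun z hz => by
    obtain ⟨k, rfl⟩ := mem_zpowers_iff.1 hz
    rw [← (Commute.refl y).mul_zpow, hsq, one_zpow])

/-- The odd part of the centralizer of `E`. -/
def xCore : Subgroup G := coreIn (centralizer ((E : Subgroup G) : Set G))

theorem sylow_le_centralizer (h : Spec G r) {a : G} (ha : a ∈ (E : Subgroup G)) :
    (E : Subgroup G) ≤ centralizer ({a} : Set G) := fun _ hx =>
  mem_centralizer_singleton_iff.2 (comm_of_sq (fun _ => h.sylow_sq E) hx ha)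

theorem sylow_le_centralizer_self (h : Spec G r) :
    (E : Subgroup G) ≤ centralizer ((E : Subgroup G) : Set G) := fun _ hx =>
  mem_centralizer_iff.2 fun _ hy => comm_of_sq (fun _ => h.sylow_sq E) hy hx

theorem Spec.mem_xCore_iff (h : Spec G r) {a : G} (ha : a ∈ (E : Subgroup G)) (ha1 : a ≠ 1) {x : G} :
    x ∈ xCore E ↔ x ∈ centralizer ((E : Subgroup G) : Set G) ∧ Odd (orderOf x) := by
  refine ⟨fun hx => ⟨coreIn_le _ hx, odd_orderOf_of_mem (coreIn_odd _) hx⟩, fun hx => ?_⟩
  have hle : centralizer ((E : Subgroup G) : Set G) ≤ centralizer ({a} : Set G) :=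
    centralizer_le (Set.singleton_subset_iff.2 ha)
  refine h.odd_le_coreIn E (isSolvable_of_two_prime h.prime h.ne_two fun y hy =>
    h.invol_centralizer_orders (orderOf_of_sq (h.sylow_sq E ha) ha1) y (hle hy))
    (sylow_le_centralizer_self E h) (zpowers_le.2 hx.1) (by rw [Nat.card_zpowers]; exact hx.2)
    (le_trans ?_ (Coprime.centralizer_le_normalizer_self _)) (mem_zpowers x)
  exact le_centralizer_iff.2 (zpowers_le.2 hx.1)

theorem xCore_le : xCore E ≤ centralizer ((E : Subgroup G) : Set G) := coreIn_le _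

theorem xCore_odd : Odd (Nat.card (xCore E)) := coreIn_odd _

theorem Spec.xCore_isPGroup (h : Spec G r) {a : G} (ha : a ∈ (E : Subgroup G)) (ha1 : a ≠ 1) :
    IsPGroup r (xCore E) :=
  isPGroup_of_odd_two_prime h.prime h.ne_two (xCore_odd E) fun y hy =>
    h.invol_centralizer_orders (orderOf_of_sq (h.sylow_sq E ha) ha1) y
      (centralizer_le (Set.singleton_subset_iff.2 ha) (xCore_le E hy))

theorem normalizer_le_normalizer_xCore :
    normalizer ((E : Subgroup G) : Set G) ≤ normalizer (xCore E : Set G) := fun g hg => by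
  have h1 : CIT.cj g (centralizer ((E : Subgroup G) : Set G)) = centralizer ((E : Subgroup G) : Set G) :=
    CIT.cj_eq_self_iff.2 (Coprime.normalizer_le_normalizer_centralizer _ hg)
  refine CIT.cj_eq_self_iff.1 (eq_of_le_of_card_ge ?_ (CIT.card_cj g _).ge)
  have h2 := cj_coreIn_le g (centralizer ((E : Subgroup G) : Set G))
  rwa [h1] at h2

/-- `C(E) = E × X`. -/
theorem Spec.centralizer_decomp (h : Spec G r) {a : G} (ha : a ∈ (E : Subgroup G)) (ha1 : a ≠ 1)
    {c : G} (hc : c ∈ centralizer ((E : Subgroup G) : Set G)) :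
    ∃ e ∈ (E : Subgroup G), ∃ x ∈ xCore E, c = e * x := by
  obtain ⟨k, m, hm, hcm⟩ := Nat.exists_eq_two_pow_mul_odd (orderOf_pos c).ne'
  have hcop : (2 ^ k).Coprime m := Nat.Coprime.pow_left k (Nat.coprime_two_left.2 hm)
  obtain ⟨u, v, huv⟩ : ∃ u v : ℤ, u * (m : ℤ) + v * (2 ^ k : ℕ) = 1 := by
    obtain ⟨u, v, huv⟩ := Int.isCoprime_iff_gcd_eq_one.2
      (show Int.gcd (m : ℤ) ((2 ^ k : ℕ) : ℤ) = 1 by rw [Int.gcd_natCast_natCast]; exact hcop.symm)
    exact ⟨u, v, huv⟩
  refine ⟨(c ^ m) ^ u, ?_, (c ^ (2 ^ k)) ^ v, ?_, ?_⟩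
  · refine zpow_mem (mem_sylow_of_centralizes E (pow_mem hc m) (IsPGroup.of_card (n := k) ?_)) u
    rw [Nat.card_zpowers, orderOf_pow_of_dvd hm.pos.ne' (hcm ▸ dvd_mul_left m _), hcm,
      Nat.mul_div_cancel _ hm.pos]
  · refine zpow_mem ((h.mem_xCore_iff E ha ha1).2 ⟨pow_mem hc _, ?_⟩) v
    rw [orderOf_pow_of_dvd (by positivity) (hcm ▸ dvd_mul_right _ _), hcm,
      Nat.mul_div_cancel_left _ (by positivity)]
    exact hm
  · rw [← zpow_natCast, ← zpow_natCast, ← zpow_mul, ← zpow_mul, ← zpow_add,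
      mul_comm (m : ℤ) u, mul_comm ((2 ^ k : ℕ) : ℤ) v, huv, zpow_one]

end CfsgLib.OneComposite
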