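import Cfsg.Agent.Lib.OneComposite.Basic
import Cfsg.Agent.Lib.FpfResidual.Frob
import Cfsg.Agent.Lib.Rep.FreeOver
import Cfsg.Agent.Lib.Fusion.Transfer

/-!
# An odd group transitive on the nontrivial elements of `E` with the spectrum hypothesis

If its order is divisible by `r`, it is cyclic of order `r`, or it has a normal `r`-complement `K` with
complement of order `r` fixing exactly one involution, and then `|E| = 2 ^ r`.
-/

set_option autoImplicit false
set_option linter.unusedSectionVars false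
set_option linter.style.haveILetI false

namespace CfsgLib.OneComposite

open Subgroup

universe u

theorem two_pow_eq_pow_add_one {r i e : ℕ} (hr : Odd r) (hr3 : 2 < r) (hi : 1 ≤ i)
    (h : 2 ^ e = r ^ i + 1) : i = 1 := by
  have hrpos : 1 ≤ r ^ i := Nat.one_le_pow _ _ (by omega)
  rcases Nat.even_or_odd' i with ⟨j, rfl | rfl⟩
  · exfalso
    have h4 : r ^ (2 * j) % 4 = 1 := by
      rw [pow_mul, Nat.pow_mod]
      have : r ^ 2 % 4 = 1 := by
        obtain ⟨c, rfl⟩ := hr
        ring_nf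
        omega
      rw [this, one_pow]
      norm_num
    have h3 : 3 ≤ r ^ (2 * j) := le_trans (by omega) (Nat.le_self_pow (by omega) r)
    rcases e with _ | _ | e
    · simp at h; omega
    · simp at h; omega
    · rw [pow_succ, pow_succ] at h
      omega
  · rcases j with _ | j
    · rfl
    exfalso
    obtain ⟨c, hc⟩ : ∃ c, r + 1 = 2 ^ c := by
      have hd : r + 1 ∣ r ^ (2 * (j + 1) + 1) + 1 ^ (2 * (j + 1) + 1) :=
        Odd.nat_add_dvd_pow_add_pow r 1 ⟨j + 1, rfl⟩
      rw [one_pow, ← h] at hd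
      obtain ⟨c, -, hc⟩ := (Nat.dvd_prime_pow Nat.prime_two).1 hd
      exact ⟨c, hc⟩
    have hce : c < e := by
      refine (Nat.pow_lt_pow_iff_right (a := 2) one_lt_two).1 ?_
      rw [← hc, h]
      have : r ^ 1 < r ^ (2 * (j + 1) + 1) := Nat.pow_lt_pow_right (by omega) (by omega)
      rw [pow_one] at this
      omega
    have hsq : r ^ 2 % 2 ^ (c + 1) = 1 % 2 ^ (c + 1) := by
      obtain ⟨c', rfl⟩ : ∃ c', c = c' + 1 := ⟨c - 1, by rcases c with _ | c <;> simp at hc ⊢; omega⟩
      have e1 : r ^ 2 + 2 ^ (c' + 1 + 1) = 2 ^ (c' + 1 + 1) * 2 ^ c' + 1 := by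
        have h1 : (r + 1) * (r + 1) = 2 ^ (c' + 1) * 2 ^ (c' + 1) := by rw [hc]
        rw [show 2 ^ (c' + 1 + 1) = 2 * (r + 1) by rw [pow_succ', hc]]
        rw [pow_succ'] at hc
        nlinarith [h1, hc]
      calc r ^ 2 % 2 ^ (c' + 1 + 1) = (r ^ 2 + 2 ^ (c' + 1 + 1)) % 2 ^ (c' + 1 + 1) :=
            (Nat.add_mod_right _ _).symm
        _ = 1 % 2 ^ (c' + 1 + 1) := by rw [e1, Nat.mul_add_mod]
    have hmod : 2 ^ e % 2 ^ (c + 1) = 2 ^ c % 2 ^ (c + 1) := by
      rw [h, pow_succ r, pow_mul, Nat.add_mod, Nat.mul_mod, Nat.pow_mod, hsq, ← Nat.pow_mod, one_pow,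
        ← Nat.mul_mod, one_mul, ← Nat.add_mod, hc]
    rw [Nat.mod_eq_zero_of_dvd (pow_dvd_pow 2 hce), Nat.mod_eq_of_lt (Nat.pow_lt_pow_right one_lt_two
      (by omega))] at hmod
    · exact (pow_ne_zero c two_ne_zero) hmod.symm

variable {G : Type u} [Group G] [Finite G] {r : ℕ}

theorem invol_fixed_of_odd (h : Spec G r) {E : Subgroup G} (hE : ∀ x ∈ E, x * x = 1) {y : G} {s : ℕ}
    (hs : s.Prime) (hsr : s ≠ r) (hs2 : s ≠ 2) (hy : orderOf y = s) :
    ∀ v ∈ E, y * v = v * y → v = 1 := by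
  intro v hv hc
  by_contra hv1
  rcases h.invol_pair (orderOf_of_sq (hE v hv) hv1) (hy ▸ hs.odd_of_ne_two hs2) hc.symm with e | e
  · rw [e, orderOf_one] at hy
    exact hs.ne_one hy.symm
  · exact hsr (hy.symm.trans e)

theorem r_fixed_of_ne (h : Spec G r) {U : Subgroup G} (hU : IsPGroup r U) {y : G} {s : ℕ}
    (hs : s.Prime) (hsr : s ≠ r) (hs2 : s ≠ 2) (hy : orderOf y = s) :
    ∀ u ∈ U, y * u = u * y → u = 1 := by
  intro u hu hc
  haveI : Fact r.Prime := ⟨h.prime⟩
  obtain ⟨n, hn⟩ := IsPGroup.iff_orderOf.1 hU ⟨u, hu⟩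
  rw [← Subgroup.orderOf_coe] at hn
  have h1 := h.exp_r hn
  by_contra hu1
  haveI : Fact r.Prime := ⟨h.prime⟩
  rcases h.prime_pair (orderOf_eq_prime h1 hu1) (hy ▸ hs) hc.symm with e | e <;> rw [hy] at e
  · exact hs2 e
  · exact hsr e

theorem exists_ne_one_of_large {E : Subgroup G} (h : 2 < Nat.card E) : ∃ a ∈ E, a ≠ 1 := by
  by_contra hcon
  push Not at hcon
  have : E = ⊥ := eq_bot_iff.2 fun x hx => mem_bot.2 (hcon x hx)
  rw [this, card_bot] at h
  omega

theorem nat_card_ne_one (E : Subgroup G) : Nat.card {x : G // x ∈ E ∧ x ≠ 1} = Nat.card E - 1 := by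
  classical
  haveI := Fintype.ofFinite E
  have h1 : Nat.card {x : G // x ∈ E ∧ x ≠ 1} = Nat.card {x : E // ¬ x = 1} := Nat.card_congr
    { toFun := fun x => ⟨⟨x, x.2.1⟩, fun e => x.2.2 (congrArg Subtype.val e)⟩
      invFun := fun x => ⟨x.1, x.1.2, fun e => x.2 (Subtype.ext e)⟩
      left_inv := fun x => rfl
      right_inv := fun x => rfl }
  rw [h1, Nat.card_eq_fintype_card, Nat.card_eq_fintype_card, Fintype.card_subtype_compl,
    Fintype.card_subtype_eq]

/-- The hypotheses. -/
structure Lin (G : Type u) [Group G] (r : ℕ) (E L : Subgroup G) : Prop where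
  spec : Spec G r
  sq : ∀ x ∈ E, x * x = 1
  le : L ≤ normalizer (E : Set G)
  odd : Odd (Nat.card L)
  faith : L ⊓ centralizer (E : Set G) = ⊥
  trans : ∀ a ∈ E, a ≠ 1 → ∀ b ∈ E, b ≠ 1 → ∃ g ∈ L, g * a * g⁻¹ = b
  large : 2 < Nat.card E

variable {E L : Subgroup G}

theorem Lin.coprime (d : Lin G r E L) {U : Subgroup G} (hU : U ≤ L) : ¬ 2 ∣ Nat.card U := fun hd =>
  Nat.not_even_iff_odd.2 (d.odd.of_dvd_nat (card_dvd_of_le hU)) (even_iff_two_dvd.2 hd)

theorem Lin.isMulComm (d : Lin G r E L) : IsMulCommutative E :=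
  ⟨⟨fun x y => Subtype.ext (comm_of_sq d.sq x.2 y.2)⟩⟩

/-- No `s`-element normalizes a nontrivial `r`-subgroup. -/
theorem Lin.no_normalizing (d : Lin G r E L) {U : Subgroup G} (hUL : U ≤ L) (hU : IsPGroup r U)
    {y : G} (hyL : y ∈ L) {s : ℕ} (hs : s.Prime) (hsr : s ≠ r) (hy : orderOf y = s)
    (hyU : y ∈ normalizer (U : Set G)) : U = ⊥ := by
  haveI : Fact (Nat.Prime 2) := ⟨Nat.prime_two⟩
  have hs2 : s ≠ 2 := fun e => by
    have := odd_orderOf_of_mem d.odd hyL
    rw [hy, e] at this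
    exact absurd this (by decide)
  refine eq_bot_iff.2 (le_trans (le_inf hUL ?_) d.faith.le)
  exact FpfResidual.le_centralizer_of_fpf hs (isPGroup_of_sq d.sq) d.isMulComm
    (hy ▸ pow_orderOf_eq_one y) (d.le hyL) hyU (hUL.trans d.le) (r_fixed_of_ne d.spec hU hs hsr hs2 hy)
    (d.coprime hUL) (invol_fixed_of_odd d.spec d.sq hs hsr hs2 hy)

/-- The orbit of a nontrivial element has all nontrivial elements. -/
theorem Lin.orbit_card (d : Lin G r E L) {a : G} (ha : a ∈ E) (ha1 : a ≠ 1) :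
    ((L ⊓ centralizer ({a} : Set G)).subgroupOf L).index = Nat.card E - 1 := by
  set S : Subgroup G := L ⊓ centralizer ({a} : Set G) with hS
  rw [Subgroup.index_eq_card, ← nat_card_ne_one E]
  refine Nat.card_congr (Equiv.ofBijective (fun q : L ⧸ S.subgroupOf L =>
    Quotient.liftOn' q (fun g : L => (⟨(g : G) * a * (g : G)⁻¹,
      (mem_normalizer_iff.1 (d.le g.2) a).1 ha, fun e => ha1 (conj_eq_one_iff.1 e)⟩ :
        {x : G // x ∈ E ∧ x ≠ 1})) (fun g g' hgg => Subtype.ext ?_)) ⟨?_, ?_⟩)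
  · have h1 : (g : G)⁻¹ * g' ∈ centralizer ({a} : Set G) := ((QuotientGroup.leftRel_apply.1 hgg)).2
    rw [mem_centralizer_singleton_iff] at h1
    show (g : G) * a * (g : G)⁻¹ = (g' : G) * a * (g' : G)⁻¹
    calc (g : G) * a * (g : G)⁻¹ = g * (a * ((g : G)⁻¹ * g')) * (g' : G)⁻¹ := by group
      _ = g * ((g : G)⁻¹ * g' * a) * (g' : G)⁻¹ := by rw [h1]
      _ = (g' : G) * a * (g' : G)⁻¹ := by group
  · rintro ⟨g⟩ ⟨g'⟩ e
    have e' : (g : G) * a * (g : G)⁻¹ = (g' : G) * a * (g' : G)⁻¹ := congrArg Subtype.val e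
    refine Quotient.sound' (QuotientGroup.leftRel_apply.2 ⟨(g⁻¹ * g').2,
      mem_centralizer_singleton_iff.2 ?_⟩)
    show (g : G)⁻¹ * g' * a = a * ((g : G)⁻¹ * g')
    calc (g : G)⁻¹ * g' * a = (g : G)⁻¹ * ((g' : G) * a * (g' : G)⁻¹) * g' := by group
      _ = a * ((g : G)⁻¹ * g') := by rw [← e']; group
  · rintro ⟨b, hb, hb1⟩
    obtain ⟨g, hg, hga⟩ := d.trans a ha ha1 b hb hb1
    exact ⟨QuotientGroup.mk ⟨g, hg⟩, Subtype.ext hga⟩

/-- The `r`-group case. -/
theorem Lin.of_isPGroup (d : Lin G r E L) (hL : IsPGroup r L) (hrd : r ∣ Nat.card L) :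
    Nat.card L = r := by
  classical
  haveI : Fact r.Prime := ⟨d.spec.prime⟩
  haveI : Fact (Nat.Prime 2) := ⟨Nat.prime_two⟩
  obtain ⟨a, ha, ha1⟩ := exists_ne_one_of_large d.large
  -- the orbit
  set S : Subgroup G := L ⊓ centralizer ({a} : Set G) with hS
  have horb : (S.subgroupOf L).index = Nat.card E - 1 := d.orbit_card ha ha1
  obtain ⟨k, hk⟩ := hL.exists_card_eq
  obtain ⟨i, -, hi⟩ := (Nat.dvd_prime_pow d.spec.prime).1 (hk ▸ (S.subgroupOf L).index_dvd_card)
  obtain ⟨e, he⟩ := (isPGroup_of_sq d.sq).exists_card_eq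
  have hlarge := d.large
  have hi1 : 1 ≤ i := by
    rcases i with _ | i
    · rw [horb, pow_zero] at hi
      omega
    · omega
  have := two_pow_eq_pow_add_one d.spec.odd_prime d.spec.two_lt hi1 (e := e) (by omega)
  subst this
  rw [pow_one] at hi
  -- the stabilizer is trivial
  have hSbot : S = ⊥ := by
    refine eq_bot_iff.2 fun l hl => ?_
    refine mem_bot.2 ?_
    by_contra hl1
    refine hl1 (mem_bot.1 (d.faith.le ⟨hl.1, mem_centralizer_iff.2 fun x hx => ?_⟩))
    by_cases hx1 : x = 1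
    · rw [hx1, one_mul, mul_one]
    -- the orbits of `l` have size one or `r`, and `a` is fixed
    have hxl : l ∈ normalizer (E : Set G) := d.le hl.1
    let act : MulAction (zpowers l) {x : G // x ∈ E ∧ x ≠ 1} :=
      { smul := fun g x => ⟨(g : G) * x * (g : G)⁻¹,
          (mem_normalizer_iff.1 (zpowers_le.2 hxl g.2) _).1 x.2.1,
          fun e => x.2.2 (conj_eq_one_iff.1 e)⟩
        one_smul := fun x => Subtype.ext (by
          show (1 : G) * x * (1 : G)⁻¹ = x
          group)
        mul_smul := fun g g' x => Subtype.ext (by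
          show ((g * g' : zpowers l) : G) * x * ((g * g' : zpowers l) : G)⁻¹ =
            g * (g' * x * (g' : G)⁻¹) * (g : G)⁻¹
          push_cast
          group) }
    have hcard : Nat.card {x : G // x ∈ E ∧ x ≠ 1} = r := by
      rw [nat_card_ne_one E]; omega
    have hp : IsPGroup r (zpowers l) := hL.to_le (zpowers_le.2 hl.1)
    have hmod := hp.card_modEq_card_fixedPoints (α := {x : G // x ∈ E ∧ x ≠ 1})
    have hafix : (⟨a, ha, ha1⟩ : {x : G // x ∈ E ∧ x ≠ 1}) ∈
        MulAction.fixedPoints (zpowers l) {x : G // x ∈ E ∧ x ≠ 1} := by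
      intro g
      refine Subtype.ext ?_
      show (g : G) * a * (g : G)⁻¹ = a
      exact mul_inv_eq_iff_eq_mul.2 (mem_centralizer_singleton_iff.1 (zpowers_le.2 hl.2 g.2))
    have hfix_all : MulAction.fixedPoints (zpowers l) {x : G // x ∈ E ∧ x ≠ 1} = Set.univ := by
      refine Set.eq_univ_of_univ_subset fun z _ => ?_
      by_contra hz
      have hpos : 0 < Nat.card (MulAction.fixedPoints (zpowers l) {x : G // x ∈ E ∧ x ≠ 1}) :=
        Nat.card_pos_iff.2 ⟨⟨⟨_, hafix⟩⟩, inferInstance⟩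
      have hlt : Nat.card (MulAction.fixedPoints (zpowers l) {x : G // x ∈ E ∧ x ≠ 1}) <
          Nat.card {x : G // x ∈ E ∧ x ≠ 1} :=
        Nat.card_coe_set_eq _ ▸ Set.ncard_univ {x : G // x ∈ E ∧ x ≠ 1} ▸
          Set.ncard_lt_ncard (Set.ssubset_univ_iff.2 fun e => hz (e ▸ Set.mem_univ z)) Set.finite_univ
      have h0 := hmod
      rw [hcard, Nat.ModEq, Nat.mod_self, Nat.mod_eq_of_lt (hcard ▸ hlt)] at h0
      omega
    have := congrArg Subtype.val ((hfix_all ▸ Set.mem_univ (⟨x, hx, hx1⟩ : {x : G // x ∈ E ∧ x ≠ 1}))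
      ⟨l, mem_zpowers l⟩ : _ = _)
    exact (mul_inv_eq_iff_eq_mul.1 this).symm
  have hidx : (S.subgroupOf L).index = Nat.card L := by
    rw [hSbot, bot_subgroupOf, index_bot]
  rw [← hidx]
  exact hi


theorem p_fixed_of_r (h : Spec G r) {U : Subgroup G} {p : ℕ} [Fact p.Prime] (hU : IsPGroup p U) (hpr : p ≠ r)
    (hp2 : p ≠ 2) {x : G} (hx : orderOf x = r) : ∀ u ∈ U, x * u = u * x → u = 1 := by
  intro u hu hc
  by_contra hu1
  obtain ⟨n, hn⟩ := IsPGroup.iff_orderOf.1 hU ⟨u, hu⟩
  rw [← Subgroup.orderOf_coe] at hn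
  rcases n with _ | n
  · exact hu1 (orderOf_eq_one_iff.1 (by rw [hn, pow_zero]))
  have ho : orderOf (u ^ p ^ n) = p := by
    rw [orderOf_pow_of_dvd (pow_ne_zero _ (Fact.out : p.Prime).ne_zero)
      (hn ▸ pow_dvd_pow p (Nat.le_succ n)), hn, pow_succ,
      Nat.mul_div_cancel_left _ (pow_pos (Fact.out : p.Prime).pos n)]
  rcases h.prime_pair hx (ho.symm ▸ (Fact.out : p.Prime)) ((show Commute x u from hc).pow_right _) with
    e | e <;> rw [ho] at e
  · exact hp2 e
  · exact hpr e

/-- A conjugate of a fixed point space. -/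
theorem card_inf_centralizer_conj {g l : G} (hg : g ∈ normalizer (E : Set G)) :
    Nat.card (E ⊓ centralizer ({g * l * g⁻¹} : Set G) : Subgroup G) =
      Nat.card (E ⊓ centralizer ({l} : Set G) : Subgroup G) := by
  rw [← CIT.card_cj g (E ⊓ centralizer ({l} : Set G))]
  congr 1
  refine congrArg _ ?_
  ext x
  rw [CIT.mem_cj, mem_inf, mem_inf, mem_centralizer_singleton_iff, mem_centralizer_singleton_iff]
  refine and_congr ⟨fun h => (mem_normalizer_iff''.1 hg x).1 h,
    fun h => (mem_normalizer_iff''.1 hg x).2 h⟩ ⟨fun e => ?_, fun e => ?_⟩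
  · calc g⁻¹ * x * g * l = g⁻¹ * (x * (g * l * g⁻¹)) * g := by group
      _ = g⁻¹ * (g * l * g⁻¹ * x) * g := by rw [e]
      _ = l * (g⁻¹ * x * g) := by group
  · calc x * (g * l * g⁻¹) = g * (g⁻¹ * x * g * l) * g⁻¹ := by group
      _ = g * (l * (g⁻¹ * x * g)) * g⁻¹ := by rw [e]
      _ = g * l * g⁻¹ * x := by group

/-- Free modules: `|E| = |C_E(l)| ^ r`. -/
theorem Lin.card_eq_pow (d : Lin G r E L) {Q : Subgroup G} (hQL : Q ≤ L) {p : ℕ} [Fact p.Prime]
    (hQ : IsPGroup p Q) (hQ1 : Q ≠ ⊥) (hpr : p ≠ r) (hp2 : p ≠ 2)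
    (hQn : L ≤ normalizer (Q : Set G)) {l : G} (hl : l ∈ L) (hlo : orderOf l = r) :
    Nat.card E = Nat.card (E ⊓ centralizer ({l} : Set G) : Subgroup G) ^ r := by
  classical
  letI : CommGroup E :=
    { (inferInstance : Group E) with mul_comm := fun x y => Subtype.ext (comm_of_sq d.sq x.2 y.2) }
  letI : Module (ZMod 2) (Additive E) := AddCommGroup.zmodModule fun x => by
    show Additive.ofMul (x.toMul ^ 2) = Additive.ofMul 1
    refine congrArg Additive.ofMul (Subtype.ext ?_)
    show ((x.toMul : E) : G) ^ 2 = 1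
    rw [pow_two]
    exact d.sq _ (x.toMul).2
  let cE : ∀ g : G, g ∈ normalizer (E : Set G) → (E →* E) := fun g hg => MonoidHom.mk'
    (fun x => ⟨g * x * g⁻¹, (mem_normalizer_iff.1 hg _).1 x.2⟩)
    (fun x y => Subtype.ext (by simp [mul_assoc]))
  let ρ : L →* Module.End (ZMod 2) (Additive E) :=
    { toFun := fun g => (MonoidHom.toAdditive (cE g (d.le g.2))).toZModLinearMap 2
      map_one' := LinearMap.ext fun v => Subtype.ext (by
        show (1 : G) * ((Additive.toMul v : E) : G) * (1 : G)⁻¹ = ((Additive.toMul v : E) : G)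
        group)
      map_mul' := fun g g' => LinearMap.ext fun v => Subtype.ext (by
        show ((g * g' : L) : G) * ((Additive.toMul v : E) : G) * ((g * g' : L) : G)⁻¹ =
          (g : G) * ((g' : G) * ((Additive.toMul v : E) : G) * (g' : G)⁻¹) * (g : G)⁻¹
        push_cast
        group) }
  have hzl : zpowers l ≤ L := zpowers_le.2 hl
  haveI := Fintype.ofFinite (zpowers l)
  let σ : zpowers l →* MulAut Q :=
    (Q.normalizerMonoidHom).comp (inclusion (hzl.trans hQn))
  haveI : Group.IsNilpotent Q := hQ.isNilpotent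
  have hσ : ∀ (g : zpowers l) (u : Q), ((σ g u : Q) : G) = g * u * (g : G)⁻¹ := fun g u => rfl
  obtain ⟨W, hW⟩ := CfsgLib.Rep.freeOn_of_fpf (k := ZMod 2) (V := Additive E) σ (ρ.comp (inclusion hzl))
    (ρ.comp (inclusion hQL)) (fun g u => by
      show ρ (inclusion hzl g) * ρ (inclusion hQL u) = ρ (inclusion hQL (σ g u)) * ρ (inclusion hzl g)
      rw [← map_mul, ← map_mul]
      refine congrArg ρ (Subtype.ext ?_)
      show (g : G) * u = ((σ g u : Q) : G) * g
      rw [hσ]
      group)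
    (fun g hg u hu => by
      have hu' : (g : G) * u * (g : G)⁻¹ = u := by rw [← hσ, hu]
      have hgo : orderOf (g : G) = r := by
        haveI : Fact r.Prime := ⟨d.spec.prime⟩
        refine orderOf_eq_prime ?_ fun e => hg (Subtype.ext e)
        obtain ⟨i, hi⟩ := mem_zpowers_iff.1 g.2
        rw [← hi, ← zpow_natCast, zpow_comm, zpow_natCast, ← hlo, pow_orderOf_eq_one, one_zpow]
      exact Subtype.ext (p_fixed_of_r d.spec hQ hpr hp2 hgo u u.2 (mul_inv_eq_iff_eq_mul.1 hu')))
    (fun h0 => d.coprime hQL ((ZMod.natCast_eq_zero_iff_even.1 h0).two_dvd))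
    (fun v hv => by
      obtain ⟨u, hu, hu1⟩ : ∃ u ∈ Q, u ≠ 1 := by
        by_contra hcon
        push Not at hcon
        exact hQ1 (eq_bot_iff.2 fun x hx => mem_bot.2 (hcon x hx))
      refine Subtype.ext ?_
      by_contra hv1
      obtain ⟨n, hn⟩ := IsPGroup.iff_orderOf.1 hQ ⟨u, hu⟩
      rw [← Subgroup.orderOf_coe] at hn
      have e := congrArg (fun w : Additive E => ((Additive.toMul w : E) : G)) (hv ⟨u, hu⟩)
      rcases d.spec.invol_pair (orderOf_of_sq (d.sq _ (Additive.toMul v).2) hv1)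
          (odd_orderOf_of_mem d.odd (hQL hu)) (mul_inv_eq_iff_eq_mul.1 e).symm with h1 | h1
      · exact hu1 h1
      · rw [hn] at h1
        have h2 : p ∣ r := by
          rcases n with _ | n
          · rw [pow_zero] at h1
            exact absurd h1.symm d.spec.prime.ne_one
          · exact h1 ▸ dvd_pow_self p n.succ_ne_zero
        exact hpr ((Nat.prime_dvd_prime_iff_eq (Fact.out : p.Prime) d.spec.prime).1 h2))
  set T := fun w : zpowers l → W => ∑ h, (ρ.comp (inclusion hzl)) h (w h : Additive E) with hT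
  have hcard : Nat.card (Additive E) = Nat.card W ^ r := by
    rw [← Nat.card_congr (Equiv.ofBijective T hW), Nat.card_fun, Nat.card_zpowers, hlo]
  -- fixed vectors are the images of the constant functions
  let ρl := ρ.comp (inclusion hzl)
  have hshift : ∀ (x : zpowers l) (w : zpowers l → W), ρl x (T w) = T fun h => w (x⁻¹ * h) := by
    intro x w
    show ρl x (∑ h, ρl h (w h : Additive E)) = ∑ h, ρl h (w (x⁻¹ * h) : Additive E)
    rw [map_sum, ← Equiv.sum_comp (Equiv.mulLeft x) fun h => ρl h (w (x⁻¹ * h) : Additive E)]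
    refine Finset.sum_congr rfl fun h _ => ?_
    simp only [Equiv.coe_mulLeft, inv_mul_cancel_left, map_mul]
    rfl
  have hconst : ∀ w₀ : W, ρl ⟨l, mem_zpowers l⟩ (T fun _ => w₀) = T fun _ => w₀ := fun w₀ => by
    rw [hshift]
  let Φ : W → (E ⊓ centralizer ({l} : Set G) : Subgroup G) := fun w₀ =>
    ⟨((Additive.toMul (T fun _ => w₀) : E) : G), (Additive.toMul (T fun _ => w₀)).2,
      mem_centralizer_singleton_iff.2 (mul_inv_eq_iff_eq_mul.1
        (congrArg (fun w : Additive E => ((Additive.toMul w : E) : G)) (hconst w₀))).symm⟩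
  have hΦ : Function.Bijective Φ := by
    refine ⟨fun w w' e => ?_, fun v => ?_⟩
    · have e' : (T fun _ => w) = T fun _ => w' := by
        have h1 : ((Additive.toMul (T fun _ => w) : E) : G) = ((Additive.toMul (T fun _ => w') : E) : G) :=
          congrArg (fun z : (E ⊓ centralizer ({l} : Set G) : Subgroup G) => (z : G)) e
        exact Additive.toMul.injective (Subtype.ext h1)
      exact congrFun (hW.1 e') ⟨l, mem_zpowers l⟩
    · set v' : Additive E := Additive.ofMul ⟨v.1, v.2.1⟩ with hv'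
      obtain ⟨w, hw⟩ := hW.2 v'
      have hfix : ∀ x : zpowers l, ρl x v' = v' := by
        intro x
        refine Subtype.ext ?_
        show (x : G) * (v : G) * (x : G)⁻¹ = v
        obtain ⟨i, hi⟩ := mem_zpowers_iff.1 x.2
        have h1 : Commute (v : G) l := mem_centralizer_singleton_iff.1 v.2.2
        rw [← hi, ← (h1.zpow_right i).eq, mul_inv_cancel_right]
      have hwc : ∀ x : zpowers l, w x = w 1 := by
        intro x
        have h1 : T (fun h => w (x⁻¹ * h)) = T w := by
          rw [← hshift]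
          show ρl x (T w) = T w
          rw [show T w = v' from hw]
          exact hfix x
        have h2 := congrFun (hW.1 h1) x
        simp only [inv_mul_cancel] at h2
        exact h2.symm
      refine ⟨w 1, Subtype.ext ?_⟩
      show ((Additive.toMul (T fun _ => w 1) : E) : G) = v
      rw [show (fun _ => w 1) = w from funext fun x => (hwc x).symm, show T w = v' from hw]
      rfl
  rw [← Nat.card_congr (Equiv.ofBijective Φ hΦ), ← hcard]
  rfl

/-- The two cases. -/
theorem Lin.cases (d : Lin G r E L) (hrd : r ∣ Nat.card L) :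
    Nat.card L = r ∨ ∃ K : Subgroup G, K ≤ L ∧ L ≤ normalizer (K : Set G) ∧
      Nat.card K * r = Nat.card L ∧ ¬ r ∣ Nat.card K ∧ Nat.card K + 1 = Nat.card E ∧
      Nat.card E = 2 ^ r ∧
      ∀ l ∈ L, orderOf l = r → Nat.card (E ⊓ centralizer ({l} : Set G) : Subgroup G) = 2 := by
  classical
  haveI : Fact r.Prime := ⟨d.spec.prime⟩
  haveI : Fact (Nat.Prime 2) := ⟨Nat.prime_two⟩
  haveI hLs : Group.IsSolvable L := FrobSystem.isSolvable_subgroup_of_odd d.odd
  haveI : Nontrivial L := Finite.one_lt_card_iff_nontrivial.1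
    (lt_of_lt_of_le d.spec.prime.one_lt (Nat.le_of_dvd Nat.card_pos hrd))
  obtain ⟨p, hp, hpne⟩ : ∃ p : ℕ, p.Prime ∧ Cfsg.pCore p L ≠ ⊥ := by
    by_contra hcon
    push Not at hcon
    obtain ⟨A, hA, hA1, hAc⟩ := TwoPQ.exists_abelian_normal (G := L)
    refine hA1 (eq_bot_iff.2 ((Coprime.le_fitting (N := A) ?_).trans ?_))
    · haveI : IsMulCommutative A := ⟨⟨fun x y => Subtype.ext (hAc x x.2 y y.2)⟩⟩
      letI : CommGroup A := { (inferInstance : Group A) with mul_comm := fun x y => mul_comm' x y }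
      exact CommGroup.isNilpotent
    · rw [Coprime.fitting_eq_iSup_pCore]
      exact iSup_le fun q => (hcon q q.2).le
  haveI : Fact p.Prime := ⟨hp⟩
  haveI := Coprime.pCore_characteristic (G := L) p
  set Q := (Cfsg.pCore p L).map L.subtype with hQdef
  have hQL : Q ≤ L := map_subtype_le _
  have hQn : L ≤ normalizer (Q : Set G) := le_normalizer_map_subtype _
  have hQp : IsPGroup p Q := (Coprime.pCore_isPGroup (G := L) p).map _
  have hQ1 : Q ≠ ⊥ := fun e => hpne ((map_eq_bot_iff_of_injective _ L.subtype_injective).1 e)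
  by_cases hpr : p = r
  · subst hpr
    refine Or.inl (d.of_isPGroup (isPGroup_of_odd_two_prime d.spec.prime d.spec.ne_two d.odd
      fun y hy hyp => ?_) hrd)
    by_contra hcon
    push Not at hcon
    exact hQ1 (d.no_normalizing hQL hQp hy hyp hcon.2 rfl (hQn hy))
  refine Or.inr ?_
  have hp2 : p ≠ 2 := fun e => by
    subst e
    obtain ⟨k, hk⟩ := hQp.exists_card_eq
    rcases k with _ | k
    · exact hQ1 (eq_bot_of_card_eq _ (by rw [hk, pow_zero]))
    · exact d.coprime hQL (hk ▸ dvd_pow_self 2 k.succ_ne_zero)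
  have hcopQ : ∀ x : G, orderOf x = r → ∀ u ∈ Q, x * u = u * x → u = 1 := fun x hx =>
    p_fixed_of_r d.spec hQp hpr hp2 hx
  set S : Sylow r L := default with hSdef
  set R := (S : Subgroup L).map L.subtype with hRdef
  have hRL : R ≤ L := map_subtype_le _
  have hRp : IsPGroup r R := S.isPGroup'.map _
  have hRexp : ∀ x ∈ R, x ≠ 1 → orderOf x = r := by
    intro x hx hx1
    obtain ⟨n, hn⟩ := IsPGroup.iff_orderOf.1 hRp ⟨x, hx⟩
    rw [← Subgroup.orderOf_coe] at hn
    exact orderOf_eq_prime (d.spec.exp_r hn) hx1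
  have hRne : R ≠ ⊥ := fun e => by
    have := S.dvd_card_of_dvd_card hrd
    rw [← card_map_of_injective (f := L.subtype) L.subtype_injective, ← hRdef, e, card_bot] at this
    exact d.spec.prime.not_dvd_one this
  -- `R` has order `r`
  have hRcard : Nat.card R = r := by
    haveI : Nontrivial R := (Subgroup.nontrivial_iff_ne_bot R).2 hRne
    haveI := hRp.center_nontrivial
    obtain ⟨z, hz1⟩ := exists_ne (1 : Subgroup.center R)
    have hz1' : ((z : R) : G) ≠ 1 := fun e => hz1 (Subtype.ext (Subtype.ext e))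
    have hzo : orderOf ((z : R) : G) = r := hRexp _ (z : R).2 hz1'
    suffices hle : R ≤ zpowers ((z : R) : G) by
      rw [le_antisymm hle (zpowers_le.2 (z : R).2), Nat.card_zpowers, hzo]
    intro y hy
    by_contra hyz
    set A := Subgroup.closure ({((z : R) : G), y} : Set G) with hAdef
    have hyzc : y * ((z : R) : G) = ((z : R) : G) * y :=
      congrArg Subtype.val (mem_center_iff.1 z.2 ⟨y, hy⟩)
    haveI hAc : IsMulCommutative A := by
      refine Subgroup.isMulCommutative_closure ?_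
      rintro a (rfl | rfl) b (rfl | rfl) <;> first | rfl | exact hyzc | exact hyzc.symm
    have hAR : A ≤ R := (closure_le _).2 (by
      rintro a (rfl | rfl)
      exacts [(z : R).2, hy])
    have hnc : ¬ IsCyclic A := by
      intro hc
      obtain ⟨g, hg⟩ := IsCyclic.exists_ofOrder_eq_natCard (α := A)
      rw [← Subgroup.orderOf_coe] at hg
      by_cases hg1 : (g : G) = 1
      · rw [hg1, orderOf_one] at hg
        have : A = ⊥ := eq_bot_of_card_eq _ hg.symm
        exact hz1' (mem_bot.1 (this ▸ subset_closure (Set.mem_insert _ _)))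
      · rw [hRexp _ (hAR g.2) hg1] at hg
        have hA : A = zpowers ((z : R) : G) := (eq_of_le_of_card_ge
          (zpowers_le.2 (subset_closure (Set.mem_insert _ _)))
          (by rw [← hg, Nat.card_zpowers, hzo])).symm
        exact hyz (hA ▸ subset_closure (Set.mem_insert_of_mem _ rfl))
    have hcop : (Nat.card A).Coprime (Nat.card Q) := by
      obtain ⟨i, hi⟩ := (hRp.to_le hAR).exists_card_eq
      obtain ⟨j, hj⟩ := hQp.exists_card_eq
      rw [hi, hj]
      exact ((Nat.coprime_primes d.spec.prime hp).2 (Ne.symm hpr)).pow i j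
    refine hQ1 (le_bot_iff.1 (Coprime.le_of_centralizers_le hnc ((hAR.trans hRL).trans hQn) hcop
      fun a ha ha1 u hu => mem_bot.2 (hcopQ a (hRexp a (hAR ha) ha1) u hu.1
        (mem_centralizer_singleton_iff.1 hu.2).symm)))
  haveI : IsCyclic R := isCyclic_of_prime_card hRcard
  obtain ⟨l, hl, hl1⟩ : ∃ l ∈ R, l ≠ 1 := by
    by_contra hcon
    push Not at hcon
    exact hRne (eq_bot_iff.2 fun x hx => mem_bot.2 (hcon x hx))
  have hlo := hRexp l hl hl1
  have hRl : R = zpowers l := (eq_of_le_of_card_ge (zpowers_le.2 hl)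
    (by rw [Nat.card_zpowers, hlo, hRcard])).symm
  -- `l` fixes an involution
  obtain ⟨a, ha, ha1, hal⟩ : ∃ a ∈ E, a ≠ 1 ∧ l * a = a * l := by
    by_contra hcon
    push Not at hcon
    refine hQ1 (eq_bot_iff.2 (le_trans (le_inf hQL ?_) d.faith.le))
    refine FpfResidual.le_centralizer_of_fpf d.spec.prime (isPGroup_of_sq d.sq) d.isMulComm
      (hlo ▸ pow_orderOf_eq_one l) (d.le (hRL hl)) (hQn (hRL hl)) (hQL.trans d.le) (hcopQ l hlo)
      (d.coprime hQL) fun v hv hc => ?_
    by_contra hv1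
    exact hcon v hv hv1 hc
  -- the Sylow normalizer
  have hNR : L ⊓ normalizer (R : Set G) = R := by
    refine (eq_of_le_of_card_ge (le_inf hRL le_normalizer) ?_).symm
    have hN : IsPGroup r (L ⊓ normalizer (R : Set G) : Subgroup G) :=
      isPGroup_of_odd_two_prime d.spec.prime d.spec.ne_two
        (d.odd.of_dvd_nat (card_dvd_of_le inf_le_left)) fun y hy hyp => by
          by_contra hcon
          push Not at hcon
          exact hRne (d.no_normalizing hRL hRp hy.1 hyp hcon.2 rfl hy.2)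
    obtain ⟨P, hP⟩ := (hN.comap_of_injective L.subtype L.subtype_injective).exists_le_sylow
    have h1 : L ⊓ normalizer (R : Set G) ≤ (P : Subgroup L).map L.subtype := fun x hx =>
      ⟨⟨x, hx.1⟩, hP (mem_comap.2 hx), rfl⟩
    refine (Nat.le_of_dvd Nat.card_pos (card_dvd_of_le h1)).trans (le_of_eq ?_)
    rw [card_map_of_injective L.subtype_injective, P.card_eq_multiplicity, hRdef,
      card_map_of_injective L.subtype_injective, S.card_eq_multiplicity]
  -- the complement
  have hburn : normalizer ((S : Subgroup L) : Set L) ≤ centralizer ((S : Subgroup L) : Set L) := by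
    intro x hx
    have hxR : (x : G) ∈ R := hNR ▸ (⟨x.2, Subgroup.le_normalizer_map L.subtype (mem_map_of_mem _ hx)⟩ :
      (x : G) ∈ L ⊓ normalizer (R : Set G))
    refine mem_centralizer_iff.2 fun y hy => Subtype.ext ?_
    have hyR : (y : G) ∈ R := mem_map_of_mem _ hy
    rw [hRl] at hxR hyR
    obtain ⟨i, hi⟩ := mem_zpowers_iff.1 hxR
    obtain ⟨j, hj⟩ := mem_zpowers_iff.1 hyR
    show (y : G) * x = x * y
    rw [← hi, ← hj]
    exact (Commute.refl l).zpow_zpow j i
  obtain ⟨P, N, hN, hcompl⟩ := Fusion.hasNormalPComplement_of_normalizer_le_centralizer S hburn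
  haveI := hN
  have hPcard : Nat.card (P : Subgroup L) = r := by
    rw [P.card_eq_multiplicity, ← S.card_eq_multiplicity,
      ← card_map_of_injective (f := L.subtype) L.subtype_injective, ← hRdef, hRcard]
  have hKcard : Nat.card (N.map L.subtype) * r = Nat.card L := by
    rw [card_map_of_injective L.subtype_injective, ← hPcard, ← hcompl.card_mul_card]
  have hKr : ¬ r ∣ Nat.card (N.map L.subtype) := by
    rw [card_map_of_injective L.subtype_injective, ← hcompl.index_eq_card]
    exact P.not_dvd_index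
  -- the stabilizer of `a` is `R`
  have hstab : L ⊓ centralizer ({a} : Set G) = R := by
    refine (eq_of_le_of_card_ge (le_inf hRL (hRl ▸ zpowers_le.2
      (mem_centralizer_singleton_iff.2 hal))) ?_).symm
    have hp' : IsPGroup r (L ⊓ centralizer ({a} : Set G) : Subgroup G) :=
      isPGroup_of_odd_two_prime d.spec.prime d.spec.ne_two
        (d.odd.of_dvd_nat (card_dvd_of_le inf_le_left))
        fun y hy hyp => d.spec.invol_centralizer_orders (orderOf_of_sq (d.sq a ha) ha1) y hy.2 hyp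
    obtain ⟨i, hi⟩ := hp'.exists_card_eq
    rw [hi, hRcard]
    have h1 : r ^ i ∣ Nat.card (N.map L.subtype) * r := hKcard ▸ hi ▸ card_dvd_of_le inf_le_left
    have h2 : r ^ i ∣ r := ((Nat.Coprime.pow_left i
      (d.spec.prime.coprime_iff_not_dvd.2 hKr))).dvd_of_dvd_mul_left h1
    exact Nat.le_of_dvd d.spec.prime.pos h2
  have hK1 : Nat.card (N.map L.subtype) + 1 = Nat.card E := by
    have h1 := d.orbit_card ha ha1
    rw [hstab] at h1
    have h2 := (R.subgroupOf L).index_mul_card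
    rw [h1, Nat.card_congr (subgroupOfEquivOfLe hRL).toEquiv, hRcard, ← hKcard] at h2
    have h3 := Nat.eq_of_mul_eq_mul_right d.spec.prime.pos h2
    have := d.large
    omega
  -- the fixed points of `l`
  have hfix : Nat.card (E ⊓ centralizer ({l} : Set G) : Subgroup G) = 2 := by
    have hset : (E ⊓ centralizer ({l} : Set G) : Subgroup G) = zpowers a := by
      refine le_antisymm (fun b hb => ?_)
        (zpowers_le.2 ⟨ha, mem_centralizer_singleton_iff.2 hal.symm⟩)
      by_cases hb1 : b = 1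
      · exact hb1 ▸ one_mem _
      obtain ⟨g, hg, hgb⟩ := d.trans a ha ha1 b hb.1 hb1
      have hgR : g ∈ R := by
        rw [← hNR]
        refine ⟨hg, ?_⟩
        have hglg : g⁻¹ * l * g ∈ R := by
          rw [← hstab]
          refine ⟨L.mul_mem (L.mul_mem (L.inv_mem hg) (hRL hl)) hg, mem_centralizer_singleton_iff.2 ?_⟩
          calc g⁻¹ * l * g * a = g⁻¹ * (l * (g * a * g⁻¹)) * g := by group
            _ = g⁻¹ * (g * a * g⁻¹ * l) * g := by
              rw [hgb, (mem_centralizer_singleton_iff.1 hb.2).symm]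
            _ = a * (g⁻¹ * l * g) := by group
        have h1 : CIT.cj g⁻¹ R ≤ R := by
          conv_lhs => rw [hRl]
          rw [CIT.cj, MonoidHom.map_zpowers, zpowers_le]
          simpa using hglg
        have h2 := CIT.cj_eq_self_iff.1 (eq_of_le_of_card_ge h1 (CIT.card_cj g⁻¹ R).ge)
        simpa using inv_mem h2
      rw [← hstab] at hgR
      have : g * a * g⁻¹ = a := mul_inv_eq_iff_eq_mul.2 (mem_centralizer_singleton_iff.1 hgR.2)
      rw [← hgb, this]
      exact mem_zpowers a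
    rw [hset, Nat.card_zpowers, orderOf_of_sq (d.sq a ha) ha1]
  refine ⟨N.map L.subtype, map_subtype_le _, le_normalizer_map_subtype N, hKcard, hKr, hK1, ?_,
    fun l' hl' hl'o => ?_⟩
  · rw [d.card_eq_pow hQL hQp hQ1 hpr hp2 hQn (hRL hl) hlo, hfix]
  · obtain ⟨P', hP'⟩ := (IsPGroup.of_card (G := zpowers (⟨l', hl'⟩ : L)) (n := 1) (by
      rw [Nat.card_zpowers, Subgroup.orderOf_mk, hl'o, pow_one])).exists_le_sylow
    obtain ⟨g, hg⟩ := MulAction.exists_smul_eq L P' S
    have hmem : (g : G) * l' * (g : G)⁻¹ ∈ R := by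
      rw [hRdef, ← hg, Sylow.coe_subgroup_smul]
      exact mem_map_of_mem L.subtype
        (Subgroup.smul_mem_pointwise_smul _ (MulAut.conj g) _ (hP' (mem_zpowers _)))
    have hne : (g : G) * l' * (g : G)⁻¹ ≠ 1 := fun e => by
      rw [conj_eq_one_iff.1 e, orderOf_one] at hl'o
      exact d.spec.prime.ne_one hl'o.symm
    have hgen : zpowers ((g : G) * l' * (g : G)⁻¹) = zpowers l := by
      rw [← hRl]
      exact eq_of_le_of_card_ge (zpowers_le.2 hmem)
        (by rw [hRcard, Nat.card_zpowers, hRexp _ hmem hne])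
    rw [← card_inf_centralizer_conj (d.le g.2), ← centralizer_closure, ← zpowers_eq_closure, hgen,
      zpowers_eq_closure, centralizer_closure, hfix]

end CfsgLib.OneComposite
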