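import Mathlib

/-!
# The transfer of an element of prime order

Only the fixed cosets contribute.  If a commuting element of the same order fixes a single coset, the
transfer is the value of the homomorphism itself.
-/

set_option autoImplicit false
set_option linter.unusedSectionVars false
set_option linter.style.haveILetI false

namespace CfsgLib.OneComposite

open Subgroup MulAction

universe u

variable {G : Type u} [Group G] [Finite G] {M : Subgroup G} {A : Type*} [CommGroup A]

theorem conj_mem_of_fixed {g : G} {q : G ⧸ M} (hq : g • q = q) : q.out⁻¹ * g * q.out ∈ M := by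
  have h1 : (g * q.out : G ⧸ M) = (q.out : G ⧸ M) := by
    rw [QuotientGroup.out_eq']
    conv_rhs => rw [← hq]
    conv_rhs => rw [← QuotientGroup.out_eq' q]
    rfl
  have h2 := inv_mem (QuotientGroup.eq.1 h1)
  rwa [mul_inv_rev, inv_inv, ← mul_assoc] at h2

/-- The contribution of a fixed coset. -/
noncomputable def fixedVal (φ : M →* A) (g : G) (q : G ⧸ M) : A := by
  classical exact if hq : g • q = q then φ ⟨_, conj_mem_of_fixed hq⟩ else 1

theorem fixedVal_eq (φ : M →* A) {g x : G} {q : G ⧸ M} (hq : g • q = q) (hx : (x : G ⧸ M) = q)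
    (hm : x⁻¹ * g * x ∈ M) : fixedVal φ g q = φ ⟨x⁻¹ * g * x, hm⟩ := by
  obtain ⟨m, hm'⟩ : ∃ m : M, (m : G) = q.out⁻¹ * x :=
    ⟨⟨_, QuotientGroup.eq.1 ((QuotientGroup.out_eq' q).trans hx.symm)⟩, rfl⟩
  rw [fixedVal, dif_pos hq,
    show (⟨x⁻¹ * g * x, hm⟩ : M) = m⁻¹ * ⟨_, conj_mem_of_fixed hq⟩ * m from Subtype.ext (by
      push_cast
      rw [hm']; group), map_mul, map_mul, mul_comm, ← mul_assoc, ← map_mul, mul_inv_cancel, map_one,
    one_mul]

open Classical in
/-- The transfer of an element of prime order is the product over its fixed cosets. -/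
theorem transfer_prime [Fintype (G ⧸ M)] (φ : M →* A) {g : G} {r : ℕ} (hr : r.Prime) (hg : g ^ r = 1) :
    MonoidHom.transfer φ g =
      ∏ q ∈ Finset.univ.filter (fun q : G ⧸ M => g • q = q), fixedVal φ g q := by
  haveI := Fintype.ofFinite (Quotient (orbitRel (zpowers g) (G ⧸ M)))
  rw [MonoidHom.transfer_eq_prod_quotient_orbitRel_zpowers_quot]
  rw [← Finset.prod_filter_mul_prod_filter_not Finset.univ
    (fun q : Quotient (orbitRel (zpowers g) (G ⧸ M)) => g • q.out = q.out)]
  rw [Finset.prod_eq_one (s := Finset.univ.filter fun q : Quotient (orbitRel (zpowers g) (G ⧸ M)) =>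
    ¬ g • q.out = q.out) ?_, mul_one]
  · refine Finset.prod_bij' (fun q _ => q.out) (fun q _ => Quotient.mk'' q)
      (fun q hq => Finset.mem_filter.2 ⟨Finset.mem_univ _, (Finset.mem_filter.1 hq).2⟩)
      (fun q hq => Finset.mem_filter.2 ⟨Finset.mem_univ _, ?_⟩)
      (fun q _ => Quotient.out_eq' q) (fun q hq => ?_) (fun q hq => ?_)
    rotate_left
    · obtain ⟨⟨x, hx⟩, e⟩ : (Quotient.mk'' q : Quotient (orbitRel (zpowers g) (G ⧸ M))).out ∈
          orbit (zpowers g) q :=
        orbitRel_apply.1 (Quotient.exact'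
          (Quotient.out_eq' (Quotient.mk'' q : Quotient (orbitRel (zpowers g) (G ⧸ M)))))
      obtain ⟨i, rfl⟩ := mem_zpowers_iff.1 hx
      have hstab : g ^ i ∈ stabilizer G q := zpow_mem (mem_stabilizer_iff.2 (Finset.mem_filter.1 hq).2) i
      rw [← e]
      show g ^ i • q = q
      exact hstab
    · have hf := (Finset.mem_filter.1 hq).2
      have hm : Function.minimalPeriod (g • ·) q.out = 1 := Function.minimalPeriod_eq_one_iff_isFixedPt.2 hf
      rw [fixedVal, dif_pos hf]
      exact congrArg φ (Subtype.ext (by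
        show _ * g ^ _ * _ = _
        rw [hm, pow_one]))
    · obtain ⟨⟨x, hx⟩, e⟩ : (Quotient.mk'' q : Quotient (orbitRel (zpowers g) (G ⧸ M))).out ∈
          orbit (zpowers g) q :=
        orbitRel_apply.1 (Quotient.exact'
          (Quotient.out_eq' (Quotient.mk'' q : Quotient (orbitRel (zpowers g) (G ⧸ M)))))
      obtain ⟨i, rfl⟩ := mem_zpowers_iff.1 hx
      have hstab : g ^ i ∈ stabilizer G q := zpow_mem (mem_stabilizer_iff.2 (Finset.mem_filter.1 hq).2) i
      have h1 : g • (g ^ i • q) = g ^ i • q := by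
        rw [mem_stabilizer_iff.1 hstab]
        exact (Finset.mem_filter.1 hq).2
      show g • (Quotient.mk'' q : Quotient (orbitRel (zpowers g) (G ⧸ M))).out = _
      rw [← e]
      exact h1
  · intro q hq
    have hf := (Finset.mem_filter.1 hq).2
    have hd : Function.minimalPeriod (g • ·) q.out ∣ r :=
      pow_smul_eq_iff_minimalPeriod_dvd.1 (by rw [hg, one_smul])
    rcases (Nat.dvd_prime hr).1 hd with hm | hm
    · exact absurd (Function.minimalPeriod_eq_one_iff_isFixedPt.1 hm) hf
    · rw [← map_one φ]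
      exact congrArg φ (Subtype.ext (by
        show _ * g ^ _ * _ = 1
        rw [hm, hg, mul_one, inv_mul_cancel]))

/-- A commuting element of order `r` with a single fixed coset: the transfer is the value. -/
theorem transfer_eq_of_single_fixed (φ : M →* A) {r : ℕ} [Fact r.Prime] (hA : ∀ x : A, x ^ r = 1)
    {g y : G} (hgM : g ∈ M) (hyM : y ∈ M) (hg : g ^ r = 1) (hy : y ^ r = 1) (hc : g * y = y * g)
    (hfix : ∀ q : G ⧸ M, y • q = q → q = ((1 : G) : G ⧸ M)) :
    MonoidHom.transfer φ g = φ ⟨g, hgM⟩ := by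
  classical
  haveI := Fintype.ofFinite (G ⧸ M)
  rw [transfer_prime φ (Fact.out : r.Prime) hg]
  set F := Finset.univ.filter (fun q : G ⧸ M => g • q = q) with hF
  set o : G ⧸ M := ((1 : G) : G ⧸ M) with ho
  have hoF : g • o = o := QuotientGroup.eq.2 (by simpa using hgM)
  have hov : fixedVal φ g o = φ ⟨g, hgM⟩ := by
    rw [fixedVal_eq φ hoF (x := 1) rfl (by simpa using hgM)]
    exact congrArg φ (Subtype.ext (by simp))
  -- `y` preserves the fibres
  have hstep : ∀ q, g • q = q → g • (y • q) = y • q ∧ fixedVal φ g (y • q) = fixedVal φ g q := by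
    intro q hq
    have hq' : g • (y • q) = y • q := by rw [← mul_smul, hc, mul_smul, hq]
    refine ⟨hq', ?_⟩
    have e : (y * q.out)⁻¹ * g * (y * q.out) = q.out⁻¹ * g * q.out := by
      calc (y * q.out)⁻¹ * g * (y * q.out) = q.out⁻¹ * (y⁻¹ * (g * y)) * q.out := by group
        _ = q.out⁻¹ * g * q.out := by rw [hc]; group
    have hmem : (y * q.out)⁻¹ * g * (y * q.out) ∈ M := e ▸ conj_mem_of_fixed hq
    rw [fixedVal_eq φ hq' (x := y * q.out) (congrArg (y • ·) (QuotientGroup.out_eq' q)) hmem,
      fixedVal_eq φ hq (x := q.out) (QuotientGroup.out_eq' q) (conj_mem_of_fixed hq)]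
    exact congrArg φ (Subtype.ext e)
  have hzy : IsPGroup r (zpowers y) := by
    intro x
    obtain ⟨i, hi⟩ := mem_zpowers_iff.1 x.2
    refine ⟨1, Subtype.ext ?_⟩
    show (x : G) ^ r ^ 1 = 1
    rw [pow_one, ← hi, ← zpow_natCast, zpow_comm, zpow_natCast, hy, one_zpow]
  have hcount : ∀ c : A, (F.filter fun q => fixedVal φ g q = c).card ≡
      (if c = φ ⟨g, hgM⟩ then 1 else 0) [MOD r] := by
    intro c
    let S : SubMulAction (zpowers y) (G ⧸ M) :=
      { carrier := {q | g • q = q ∧ fixedVal φ g q = c}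
        smul_mem' := by
          rintro ⟨x, hx⟩ q hq
          obtain ⟨i, rfl⟩ := mem_powers_iff_mem_zpowers.2 hx
          suffices g • (y ^ i • q) = y ^ i • q ∧ fixedVal φ g (y ^ i • q) = c from this
          clear hx
          show g • (y ^ i • q) = y ^ i • q ∧ fixedVal φ g (y ^ i • q) = c
          induction i with
          | zero => simpa using hq
          | succ i ih =>
            rw [pow_succ', mul_smul]
            exact ⟨(hstep _ ih.1).1, (hstep _ ih.1).2.trans ih.2⟩ }
    have hmem : ∀ q : G ⧸ M, q ∈ S ↔ g • q = q ∧ fixedVal φ g q = c := fun q => Iff.rfl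
    have hmod := hzy.card_modEq_card_fixedPoints (α := S)
    have hS : Nat.card S = (F.filter fun q => fixedVal φ g q = c).card := by
      rw [← Nat.card_eq_finsetCard]
      exact Nat.card_congr (Equiv.subtypeEquivRight fun q => by
        rw [hF, Finset.mem_filter, Finset.mem_filter]
        simp [hmem q])
    rw [hS] at hmod
    refine hmod.trans (congrArg (· % r) ?_)
    have hfp : ∀ z ∈ fixedPoints (zpowers y) S, (z : G ⧸ M) = o := fun z hz =>
      hfix _ (congrArg Subtype.val (hz ⟨y, mem_zpowers y⟩))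
    by_cases hcv : c = φ ⟨g, hgM⟩
    · rw [if_pos hcv, Nat.card_eq_one_iff_unique]
      refine ⟨⟨fun z w => Subtype.ext (Subtype.ext ((hfp _ z.2).trans (hfp _ w.2).symm))⟩,
        ⟨⟨⟨o, (hmem o).2 ⟨hoF, hov.trans hcv.symm⟩⟩, fun x => Subtype.ext ?_⟩⟩⟩
      obtain ⟨i, hi⟩ := mem_zpowers_iff.1 x.2
      have hyo : y ∈ stabilizer G o := QuotientGroup.eq.2 (by simpa using hyM)
      show (x : G) • o = o
      rw [← hi]
      exact zpow_mem hyo i
    · rw [if_neg hcv, Nat.card_eq_zero]
      refine Or.inl ⟨fun z => hcv ?_⟩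
      have h1 := ((hmem _).1 z.1.2).2
      rw [hfp _ z.2, hov] at h1
      exact h1.symm
  rw [Finset.prod_comp (fun c => c) (fixedVal φ g)]
  rw [Finset.prod_eq_single (φ ⟨g, hgM⟩)]
  · rw [pow_eq_pow_mod _ (hA _)]
    have := hcount (φ ⟨g, hgM⟩)
    rw [if_pos rfl] at this
    rw [this, Nat.one_mod_eq_one.2 (Fact.out : r.Prime).ne_one, pow_one]
  · intro c _ hc
    have := hcount c
    rw [if_neg hc] at this
    rw [pow_eq_pow_mod _ (hA _), this, Nat.zero_mod, pow_zero]
  · intro hne
    exfalso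
    exact hne (Finset.mem_image.2 ⟨o, Finset.mem_filter.2 ⟨Finset.mem_univ _, hoF⟩, hov⟩)

end CfsgLib.OneComposite
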