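import Cfsg.Agent.Lib.OneComposite.Rank
import Cfsg.Agent.Lib.OneComposite.Linear
import Cfsg.Agent.Lib.OneComposite.Transfer

/-!
# The Sylow 2-normalizer in rank at least three: its odd complement and the linear group it induces
-/

set_option autoImplicit false
set_option linter.unusedSectionVars false
set_option linter.style.haveILetI false

namespace CfsgLib.OneComposite

open Subgroup

universe u

variable {G : Type u} [Group G] [Finite G] {r : ℕ}

/-- The situation. -/
structure Ctx (G : Type u) [Group G] (r : ℕ) (E : Sylow 2 G) : Prop where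
  spec : Spec G r
  simple : IsSimpleGroup G
  nonab : ¬ IsMulCommutative G
  large : 8 ≤ Nat.card (E : Subgroup G)

variable {E : Sylow 2 G}

/-- An odd complement of `E` in its normalizer. -/
structure Compl (E : Sylow 2 G) (L : Subgroup G) : Prop where
  le : L ≤ normalizer ((E : Subgroup G) : Set G)
  odd : Odd (Nat.card L)
  decomp : ∀ m ∈ normalizer ((E : Subgroup G) : Set G), ∃ e ∈ (E : Subgroup G), ∃ l ∈ L, m = e * l

theorem exists_compl (E : Sylow 2 G) : ∃ L : Subgroup G, Compl E L := by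
  haveI : Fact (Nat.Prime 2) := ⟨Nat.prime_two⟩
  set M := normalizer ((E : Subgroup G) : Set G)
  set E' : Sylow 2 M := E.subtype le_normalizer with hE'
  haveI : ((E : Subgroup G).subgroupOf M).Normal :=
    (normal_subgroupOf_iff_le_normalizer le_normalizer).2 le_rfl
  obtain ⟨H, hH⟩ := Subgroup.exists_right_complement'_of_coprime
    (N := (E : Subgroup G).subgroupOf M) (by
      have h1 := E'.card_coprime_index
      rwa [hE', Sylow.coe_subtype] at h1)
  refine ⟨H.map M.subtype, map_subtype_le _, ?_, fun m hm => ?_⟩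
  · rw [card_map_of_injective M.subtype_injective, ← hH.symm.index_eq_card]
    have h1 := E'.not_dvd_index
    rw [hE', Sylow.coe_subtype] at h1
    exact Nat.odd_iff.2 (Nat.two_dvd_ne_zero.1 h1)
  · obtain ⟨⟨e, he⟩, ⟨l, hl⟩, hel⟩ : ∃ (a : (E : Subgroup G).subgroupOf M) (b : H), (a : M) * b = ⟨m, hm⟩ := by
      obtain ⟨x, hx⟩ := hH.2 ⟨m, hm⟩
      exact ⟨x.1, x.2, hx⟩
    exact ⟨e, he, l, mem_map_of_mem _ hl, (congrArg Subtype.val hel).symm⟩

variable {L : Subgroup G}

theorem Ctx.sq (d : Ctx G r E) : ∀ x ∈ (E : Subgroup G), x * x = 1 := fun _ => d.spec.sylow_sq E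

theorem Ctx.exists_invol (d : Ctx G r E) : ∃ a ∈ (E : Subgroup G), a ≠ 1 :=
  exists_mem_ne_one (lt_of_lt_of_le (by norm_num) d.large)

theorem Ctx.se (d : Ctx G r E) :
    Cfsg.IsStronglyEmbedded (normalizer ((E : Subgroup G) : Set G)) :=
  haveI := d.simple
  d.spec.stronglyEmbedded E d.nonab d.large

theorem Ctx.cent_invol (d : Ctx G r E) {a : G} (ha : a ∈ (E : Subgroup G)) (ha1 : a ≠ 1) :
    centralizer ({a} : Set G) ≤ normalizer ((E : Subgroup G) : Set G) :=
  haveI := d.simple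
  d.spec.centralizer_invol_le E d.nonab d.large ha ha1

theorem Ctx.cent_x (d : Ctx G r E) {x : G} (hx : x ∈ xCore E) (hx1 : x ≠ 1) :
    centralizer ({x} : Set G) ≤ normalizer ((E : Subgroup G) : Set G) :=
  haveI := d.simple
  d.spec.centralizer_x_le E d.nonab d.large hx hx1

theorem Ctx.x_comm {x e : G} (hx : x ∈ xCore E) (he : e ∈ (E : Subgroup G)) : e * x = x * e :=
  mem_centralizer_iff.1 (xCore_le E hx) e he

theorem Ctx.x_le_compl (d : Ctx G r E) (c : Compl E L) : xCore E ≤ L := by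
  intro x hx
  have hxM : x ∈ normalizer ((E : Subgroup G) : Set G) :=
    Coprime.centralizer_le_normalizer_self _ (xCore_le E hx)
  obtain ⟨e, he, l, hl, rfl⟩ := c.decomp x hxM
  have hLX : L ≤ normalizer (xCore E : Set G) := c.le.trans (normalizer_le_normalizer_xCore E)
  have hodd : Odd (Nat.card (L ⊔ xCore E : Subgroup G)) :=
    (c.odd.mul (xCore_odd E)).of_dvd_nat (Coprime.card_sup_dvd_of_le_normalizer hLX)
  have h1 : e ∈ L ⊔ xCore E := by
    have := mul_mem (mem_sup_right (S := L) hx) (inv_mem (mem_sup_left (T := xCore E) hl))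
    rwa [mul_inv_cancel_right] at this
  rw [disjoint_sq_odd d.sq hodd he h1, one_mul]
  exact hl

theorem Ctx.mem_x_of_centralizes (d : Ctx G r E) {l : G} (hl : Odd (orderOf l))
    (hc : l ∈ centralizer ((E : Subgroup G) : Set G)) : l ∈ xCore E := by
  obtain ⟨a, ha, ha1⟩ := d.exists_invol
  exact (d.spec.mem_xCore_iff E ha ha1).2 ⟨hc, hl⟩

theorem Ctx.x_pow (d : Ctx G r E) {x : G} (hx : x ∈ xCore E) : x ^ r = 1 := by
  haveI : Fact r.Prime := ⟨d.spec.prime⟩
  obtain ⟨a, ha, ha1⟩ := d.exists_invol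
  obtain ⟨n, hn⟩ := IsPGroup.iff_orderOf.1 (d.spec.xCore_isPGroup E ha ha1) ⟨x, hx⟩
  rw [← Subgroup.orderOf_coe] at hn
  exact d.spec.exp_r hn

/-! ### The quotient by `X` -/

/-- `X` inside `N(E)`. -/
def xIn (E : Sylow 2 G) : Subgroup (normalizer ((E : Subgroup G) : Set G)) :=
  (xCore E).subgroupOf (normalizer ((E : Subgroup G) : Set G))

instance xIn_normal : (xIn E).Normal :=
  (normal_subgroupOf_iff_le_normalizer
    ((xCore_le E).trans (Coprime.centralizer_le_normalizer_self _))).2 (normalizer_le_normalizer_xCore E)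

/-- The image in `N(E) / X`. -/
def img (E : Sylow 2 G) (H : Subgroup G) :
    Subgroup (normalizer ((E : Subgroup G) : Set G) ⧸ xIn E) :=
  (H.subgroupOf (normalizer ((E : Subgroup G) : Set G))).map (QuotientGroup.mk' (xIn E))

theorem mk_mem_img {H : Subgroup G} {m : normalizer ((E : Subgroup G) : Set G)} (hm : (m : G) ∈ H) :
    QuotientGroup.mk' (xIn E) m ∈ img E H := mem_map_of_mem _ (mem_subgroupOf.2 hm)

theorem mk_eq_one {m : normalizer ((E : Subgroup G) : Set G)} :
    QuotientGroup.mk' (xIn E) m = 1 ↔ (m : G) ∈ xCore E := QuotientGroup.eq_one_iff m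

theorem card_img_dvd (H : Subgroup G) (hH : H ≤ normalizer ((E : Subgroup G) : Set G)) :
    Nat.card (img E H) ∣ Nat.card H := by
  rw [← Nat.card_congr (subgroupOfEquivOfLe hH).toEquiv]
  exact Coprime.card_map_dvd_card _ _

theorem card_img_sylow (d : Ctx G r E) : Nat.card (img E (E : Subgroup G)) = Nat.card (E : Subgroup G) := by
  rw [← Nat.card_congr (subgroupOfEquivOfLe (le_normalizer (H := (E : Subgroup G)))).toEquiv]
  refine (Nat.card_congr (Equiv.ofBijective ((QuotientGroup.mk' (xIn E)).subgroupMap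
    ((E : Subgroup G).subgroupOf (normalizer ((E : Subgroup G) : Set G))))
    ⟨(injective_iff_map_eq_one _).2 fun x hx => ?_,
      (QuotientGroup.mk' (xIn E)).subgroupMap_surjective _⟩)).symm
  exact Subtype.ext (Subtype.ext (disjoint_sq_odd d.sq (xCore_odd E) (mem_subgroupOf.1 x.2)
    (mk_eq_one.1 (congrArg Subtype.val hx))))

/-- The linear group on `E`. -/
theorem Ctx.lin (d : Ctx G r E) (c : Compl E L) :
    Lin (normalizer ((E : Subgroup G) : Set G) ⧸ xIn E) r (img E (E : Subgroup G)) (img E L) where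
  spec := (d.spec.subgroup _).of_surjective _ (QuotientGroup.mk'_surjective _)
  sq := by
    rintro _ ⟨x, hx, rfl⟩
    rw [← map_mul, show x * x = 1 from Subtype.ext (d.sq x (mem_subgroupOf.1 hx)), map_one]
  le := by
    rintro _ ⟨l, hl, rfl⟩
    refine Subgroup.le_normalizer_map _ ⟨l, ?_, rfl⟩
    refine mem_normalizer_iff.2 fun x => ?_
    simpa [mem_subgroupOf] using mem_normalizer_iff.1 l.2 (x : G)
  odd := c.odd.of_dvd_nat (card_img_dvd L c.le)
  faith := by
    refine eq_bot_iff.2 ?_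
    rintro _ ⟨⟨l, hl, rfl⟩, hc⟩
    rw [mem_bot, mk_eq_one]
    refine d.mem_x_of_centralizes (odd_orderOf_of_mem c.odd (mem_subgroupOf.1 hl))
      (mem_centralizer_iff.2 fun e he => ?_)
    have h1 := mem_centralizer_iff.1 hc _ (mk_mem_img (m := ⟨e, le_normalizer he⟩) he)
    rw [← commutatorElement_eq_one_iff_mul_comm, ← map_commutatorElement, mk_eq_one,
      commutatorElement_def] at h1
    push_cast at h1
    have h2 : e * l * e⁻¹ * (l : G)⁻¹ ∈ (E : Subgroup G) := by
      rw [show e * (l : G) * e⁻¹ * (l : G)⁻¹ = e * ((l : G) * e⁻¹ * (l : G)⁻¹) by group]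
      exact mul_mem he ((mem_normalizer_iff.1 l.2 _).1 (inv_mem he))
    have h3 := disjoint_sq_odd d.sq (xCore_odd E) h2 h1
    rw [mul_inv_eq_one, mul_inv_eq_iff_eq_mul] at h3
    exact h3
  trans := by
    rintro _ ⟨a, ha, rfl⟩ ha1 _ ⟨b, hb, rfl⟩ hb1
    have ha' : (a : G) ≠ 1 := fun e => ha1 (by rw [show a = 1 from Subtype.ext e, map_one])
    have hb' : (b : G) ≠ 1 := fun e => hb1 (by rw [show b = 1 from Subtype.ext e, map_one])
    obtain ⟨g, hg, hgab⟩ := Invol.transitive_two_point d.se (u := (1 : G))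
      (orderOf_of_sq (d.sq _ (mem_subgroupOf.1 ha)) ha') a.2 b.2
      (orderOf_of_sq (d.sq _ (mem_subgroupOf.1 hb)) hb')
    obtain ⟨e, he, l, hl, rfl⟩ := c.decomp g hg.1
    refine ⟨QuotientGroup.mk' (xIn E) ⟨l, c.le hl⟩, mk_mem_img hl, ?_⟩
    rw [← map_inv, ← map_mul, ← map_mul]
    refine congrArg _ (Subtype.ext ?_)
    show l * (a : G) * l⁻¹ = b
    have h1 : l * (a : G) * l⁻¹ ∈ (E : Subgroup G) :=
      (mem_normalizer_iff.1 (c.le hl) _).1 (mem_subgroupOf.1 ha)
    calc l * (a : G) * l⁻¹ = e * (l * a * l⁻¹) * e⁻¹ := by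
          rw [comm_of_sq d.sq he h1, mul_inv_cancel_right]
      _ = b := by rw [← hgab]; group
  large := by rw [card_img_sylow d]; exact lt_of_lt_of_le (by norm_num) d.large

/-- An odd `r`-subgroup of `L` lies in `X` when `r` is prime to the linear group. -/
theorem Ctx.le_x_of_isPGroup (d : Ctx G r E) (c : Compl E L) (hr : ¬ r ∣ Nat.card (img E L))
    {U : Subgroup G} (hUL : U ≤ L) (hU : IsPGroup r U) : U ≤ xCore E := by
  haveI : Fact r.Prime := ⟨d.spec.prime⟩
  intro u hu
  have hmem : QuotientGroup.mk' (xIn E) (⟨u, c.le (hUL hu)⟩ : normalizer ((E : Subgroup G) : Set G)) ∈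
      img E L := mk_mem_img (hUL hu)
  obtain ⟨n, hn⟩ := IsPGroup.iff_orderOf.1 hU ⟨u, hu⟩
  rw [← Subgroup.orderOf_coe] at hn
  rw [← mk_eq_one (E := E) (m := ⟨u, c.le (hUL hu)⟩)]
  refine orderOf_eq_one_iff.1 ?_
  have h1 := orderOf_map_dvd (QuotientGroup.mk' (xIn E))
    (⟨u, c.le (hUL hu)⟩ : normalizer ((E : Subgroup G) : Set G))
  rw [Subgroup.orderOf_mk, hn] at h1
  exact Nat.eq_one_of_dvd_coprimes (Nat.Coprime.pow_left n (d.spec.prime.coprime_iff_not_dvd.2 hr))
    h1 (Subgroup.orderOf_dvd_natCard _ hmem)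

end CfsgLib.OneComposite
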