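import Cfsg.Agent.Lib.OneComposite.Rank
import Cfsg.Agent.Lib.Fusion.Thompson
import Cfsg.Agent.S0508
import Cfsg.Agent.S3278
import Cfsg.Agent.S0253

/-!
# Sylow 2-subgroup of order four

The odd core of the centralizer of an involution is inverted by the other involutions, and the
normalizers of its nontrivial subgroups lie in that centralizer, so the Brauer-Suzuki-Wall theorem
applies.
-/

set_option autoImplicit false
set_option linter.unusedSectionVars false
set_option linter.style.haveILetI false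

namespace CfsgLib.OneComposite

open Subgroup

universe u

variable {G : Type u} [Group G] [Finite G] {r : ℕ}

theorem normalizer_le_normalizer_coreIn (H : Subgroup G) :
    normalizer (H : Set G) ≤ normalizer (coreIn H : Set G) := fun g hg => by
  refine CIT.cj_eq_self_iff.1 (eq_of_le_of_card_ge ?_ (CIT.card_cj g _).ge)
  have h2 := cj_coreIn_le g H
  rwa [CIT.cj_eq_self_iff.2 hg] at h2

/-- A central Sylow 2-subgroup puts the elements of odd order into the core. -/
theorem odd_mem_coreIn {H : Subgroup G} (T : Sylow 2 H)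
    (hT : normalizer ((T : Subgroup H) : Set H) ≤ centralizer ((T : Subgroup H) : Set H)) {x : G}
    (hx : x ∈ H) (hodd : Odd (orderOf x)) : x ∈ coreIn H := by
  haveI : Fact (Nat.Prime 2) := ⟨Nat.prime_two⟩
  obtain ⟨P, N, hN, hc⟩ := Fusion.hasNormalPComplement_of_normalizer_le_centralizer T hT
  haveI := hN
  have hNc : N ≤ Cfsg.pPrimeCore 2 H := by
    refine Coprime.le_pPrimeCore ?_
    rw [← hc.index_eq_card]
    exact Nat.coprime_two_right.2 (Nat.odd_iff.2 (Nat.two_dvd_ne_zero.1 P.not_dvd_index))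
  obtain ⟨n, hn⟩ := P.isPGroup'.exists_card_eq
  have h1 : QuotientGroup.mk' N ⟨x, hx⟩ = 1 := by
    refine orderOf_eq_one_iff.1 (Nat.eq_one_of_dvd_coprimes
      (Nat.Coprime.pow_left n (Nat.coprime_two_left.2 hodd)) ?_
      ((orderOf_map_dvd _ _).trans (Subgroup.orderOf_mk x hx).dvd))
    rw [← hn, ← hc.symm.index_eq_card]
    exact orderOf_dvd_natCard _
  exact mem_map_of_mem H.subtype (hNc ((QuotientGroup.eq_one_iff _).1 h1))

/-- The hypotheses of this file. -/
structure Four (G : Type u) [Group G] [Finite G] (r : ℕ) (E : Sylow 2 G) : Prop where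
  spec : Spec G r
  simple : IsSimpleGroup G
  nonab : ¬ IsMulCommutative G
  card : Nat.card (E : Subgroup G) = 4

variable {E : Sylow 2 G}

theorem Four.sq (d : Four G r E) : ∀ x ∈ (E : Subgroup G), x * x = 1 := fun _ => d.spec.sylow_sq E

theorem Four.eq_four (d : Four G r E) {t u : G} (ht : t ∈ (E : Subgroup G)) (ht1 : t ≠ 1)
    (hu : u ∈ (E : Subgroup G)) (hu1 : u ≠ 1) (hut : u ≠ t) {e : G} (he : e ∈ (E : Subgroup G)) :
    e = 1 ∨ e = t ∨ e = u ∨ e = t * u := by
  by_contra hcon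
  push Not at hcon
  obtain ⟨h1, h2, h3, h4⟩ := hcon
  have h5 : t * u ≠ 1 := fun h => hut (by
    rw [eq_inv_of_mul_eq_one_right h, inv_eq_of_sq (d.sq t ht)])
  have h6 : t * u ≠ t := fun h => hu1 (mul_eq_left.1 h)
  have h7 : t * u ≠ u := fun h => ht1 (mul_eq_right.1 h)
  have hsub : ({e, 1, t, u, t * u} : Set G) ⊆ ((E : Subgroup G) : Set G) := by
    rintro z (rfl | rfl | rfl | rfl | rfl)
    exacts [he, one_mem _, ht, hu, mul_mem ht hu]
  have h := Set.ncard_le_ncard hsub
  rw [Set.ncard_insert_of_notMem (by simp [h1, h2, h3, h4]),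
    Set.ncard_insert_of_notMem (by simp [ht1.symm, hu1.symm, h5.symm]),
    Set.ncard_insert_of_notMem (by simp [hut.symm, h6.symm]),
    Set.ncard_insert_of_notMem (by simp [h7.symm]), Set.ncard_singleton] at h
  rw [show ((E : Subgroup G) : Set G).ncard = 4 from (Nat.card_coe_set_eq _).symm.trans d.card] at h
  omega

/-- An element of odd order normalizing `E` and fixing an involution centralizes `E`. -/
theorem Four.no_fixed (d : Four G r E) {f : G} (hf : f ∈ normalizer ((E : Subgroup G) : Set G))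
    (hodd : Odd (orderOf f)) {b : G} (hb : b ∈ (E : Subgroup G)) (hb1 : b ≠ 1)
    (hfb : f * b * f⁻¹ = b) : f ∈ centralizer ((E : Subgroup G) : Set G) := by
  refine mem_centralizer_iff.2 fun c hc => ?_
  suffices hfc : f * c * f⁻¹ = c from (mul_inv_eq_iff_eq_mul.1 hfc).symm
  by_cases hc1 : c = 1
  · subst hc1; group
  by_cases hcb : c = b
  · rw [hcb, hfb]
  have hfcE := (mem_normalizer_iff.1 hf c).1 hc
  rcases d.eq_four hb hb1 hc hc1 hcb hfcE with e | e | e | e
  · exact absurd (conj_eq_one_iff.1 e) hc1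
  · exact absurd (mul_left_cancel (mul_right_cancel (e.trans hfb.symm))) hcb
  · exact e
  · exfalso
    have h2 : f ^ 2 * c * (f ^ 2)⁻¹ = c := by
      calc f ^ 2 * c * (f ^ 2)⁻¹ = f * (f * c * f⁻¹) * f⁻¹ := by rw [pow_two]; group
        _ = f * (b * c) * f⁻¹ := by rw [e]
        _ = (f * b * f⁻¹) * (f * c * f⁻¹) := by group
        _ = (b * b) * c := by rw [e, hfb, mul_assoc]
        _ = c := by rw [d.sq b hb, one_mul]
    obtain ⟨k, hk⟩ := hodd
    have h3 : f ∈ centralizer ({c} : Set G) := by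
      have h4 : f ^ 2 ∈ centralizer ({c} : Set G) :=
        mem_centralizer_singleton_iff.2 (mul_inv_eq_iff_eq_mul.1 h2)
      have h5 := pow_mem h4 (k + 1)
      rwa [← pow_mul, show 2 * (k + 1) = orderOf f + 1 by omega, pow_succ, pow_orderOf_eq_one,
        one_mul] at h5
    rw [mul_inv_eq_iff_eq_mul.2 (mem_centralizer_singleton_iff.1 h3)] at e
    exact hb1 (right_eq_mul.1 e)

/-- The involutions are permuted transitively by an element moving all of them. -/
theorem Four.exists_turn (d : Four G r E) {t u : G} (ht : t ∈ (E : Subgroup G)) (ht1 : t ≠ 1)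
    (hu : u ∈ (E : Subgroup G)) (hu1 : u ≠ 1) (hut : u ≠ t) :
    ∃ f : G, ∃ s k : ℕ, s.Prime ∧ s ≠ 2 ∧ orderOf f = s ^ k ∧
      f ∈ normalizer ((E : Subgroup G) : Set G) ∧ f * t * f⁻¹ = u ∧
      ∀ b ∈ (E : Subgroup G), b ≠ 1 → f * b * f⁻¹ ≠ b := by
  haveI := d.simple
  haveI : Fact (Nat.Prime 2) := ⟨Nat.prime_two⟩
  have hnle : ¬ normalizer ((E : Subgroup G) : Set G) ≤ centralizer ((E : Subgroup G) : Set G) := by
    intro h
    obtain ⟨P, N, hN, hc⟩ := Fusion.hasNormalPComplement_of_normalizer_le_centralizer E h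
    have hP : Nat.card (P : Subgroup G) = 4 := by
      rw [P.card_eq_multiplicity, ← E.card_eq_multiplicity, d.card]
    have hcm := hc.card_mul_card
    rw [hP] at hcm
    rcases hN.eq_bot_or_eq_top with e | e
    · rw [e, card_bot, one_mul] at hcm
      have h4 : (E : Subgroup G) = ⊤ := eq_top_of_card_eq _ (by rw [d.card]; exact hcm)
      exact d.nonab ⟨⟨fun x y => comm_of_sq d.sq (h4 ▸ mem_top x) (h4 ▸ mem_top y)⟩⟩
    · rw [e, card_top] at hcm
      have : 0 < Nat.card G := Nat.card_pos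
      omega
  obtain ⟨g, hg, hgc⟩ := SetLike.not_le_iff_exists.1 hnle
  obtain ⟨f, hfg, s, k, hs, hfo, hfc⟩ : ∃ y ∈ zpowers g, ∃ s k : ℕ, s.Prime ∧ orderOf y = s ^ k ∧
      y ∉ centralizer ((E : Subgroup G) : Set G) := by
    by_contra hcon
    push Not at hcon
    exact hgc (mem_of_prime_pow_powers fun y hy s k hs hy' => hcon y hy s k hs hy')
  have hfN := zpowers_le.2 hg hfg
  have hs2 : s ≠ 2 := fun e => by
    subst e
    exact hfc (sylow_le_centralizer_self E d.spec (CIT.mem_of_two_normalizer hfN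
      (IsPGroup.of_card (n := k) (by rw [Nat.card_zpowers, hfo]))))
  have hodd : Odd (orderOf f) := hfo ▸ (hs.odd_of_ne_two hs2).pow
  have hmove : ∀ b ∈ (E : Subgroup G), b ≠ 1 → f * b * f⁻¹ ≠ b := fun b hb hb1 h =>
    hfc (d.no_fixed hfN hodd hb hb1 h)
  by_cases h1 : f * t * f⁻¹ = u
  · exact ⟨f, s, k, hs, hs2, hfo, hfN, h1, hmove⟩
  have hfo2 : orderOf (f ^ 2) = s ^ k := by
    rw [Nat.Coprime.orderOf_pow (Nat.coprime_two_right.2 hodd), hfo]
  have hf2c : ∀ b ∈ (E : Subgroup G), b ≠ 1 → f ^ 2 * b * (f ^ 2)⁻¹ ≠ b := by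
    intro b hb hb1 h
    have h' := d.no_fixed (pow_mem hfN 2) (hfo2.symm ▸ (hs.odd_of_ne_two hs2).pow) hb hb1 h
    obtain ⟨j, hj⟩ := hodd
    have h5 := pow_mem h' (j + 1)
    rw [← pow_mul, show 2 * (j + 1) = orderOf f + 1 by omega, pow_succ, pow_orderOf_eq_one,
      one_mul] at h5
    exact hfc h5
  refine ⟨f ^ 2, s, k, hs, hs2, hfo2, pow_mem hfN 2, ?_, hf2c⟩
  have hc : f * t * f⁻¹ = t * u := by
    rcases d.eq_four ht ht1 hu hu1 hut ((mem_normalizer_iff.1 hfN t).1 ht) with e | e | e | e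
    · exact absurd (conj_eq_one_iff.1 e) ht1
    · exact absurd e (hmove t ht ht1)
    · exact absurd e h1
    · exact e
  have e' : f ^ 2 * t * (f ^ 2)⁻¹ = f * (t * u) * f⁻¹ := by rw [← hc, pow_two]; group
  rcases d.eq_four ht ht1 hu hu1 hut
    ((mem_normalizer_iff.1 (pow_mem hfN 2) t).1 ht) with e | e | e | e
  · exact absurd (conj_eq_one_iff.1 e) ht1
  · exact absurd e (hf2c t ht ht1)
  · exact e
  · exfalso
    refine hmove (t * u) (mul_mem ht hu) (fun h => hut ?_) (e'.symm.trans e)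
    rw [eq_inv_of_mul_eq_one_right h, inv_eq_of_sq (d.sq t ht)]

/-- An `r`-group normalized by `E` and by an element moving the involutions is centralized by `E`. -/
theorem Four.centralizes (d : Four G r E) {P : Subgroup G} (hP : IsPGroup r P)
    (hEP : (E : Subgroup G) ≤ normalizer (P : Set G)) {f : G} {s k : ℕ} (hs : s.Prime) (hs2 : s ≠ 2)
    (hfo : orderOf f = s ^ k) (hfP : f ∈ normalizer (P : Set G))
    (hfE : f ∈ normalizer ((E : Subgroup G) : Set G))
    (hmove : ∀ b ∈ (E : Subgroup G), b ≠ 1 → f * b * f⁻¹ ≠ b) :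
    (E : Subgroup G) ≤ centralizer (P : Set G) := by
  refine d.spec.centralizes_of_moves d.sq hP hEP fun B hB hne hidx => ⟨f, s, k, hs, hs2, hfo, hfP, hfE, ?_⟩
  intro hfB
  obtain ⟨x, hx, hxB⟩ := SetLike.exists_of_lt (lt_of_le_of_ne hB hne)
  have hcard : Nat.card B ≤ 2 := by
    have h1 := card_dvd_of_le hB
    rw [d.card] at h1
    have h2 : Nat.card B < 4 := d.card ▸ lt_of_le_of_ne (Nat.le_of_dvd Nat.card_pos (card_dvd_of_le hB))
      fun e => hne (eq_of_le_of_card_ge hB e.ge)
    obtain ⟨i, hi, e⟩ := (Nat.dvd_prime_pow Nat.prime_two).1 (show Nat.card B ∣ 2 ^ 2 from h1)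
    interval_cases i <;> omega
  obtain ⟨y, hy, hy1, hyx⟩ : ∃ y ∈ (E : Subgroup G), y ≠ 1 ∧ y ≠ x := by
    by_contra hcon
    push Not at hcon
    have h : ((E : Subgroup G) : Set G) ⊆ {1, x} := fun y hy => by
      by_cases hy1 : y = 1
      · exact Or.inl hy1
      · exact Or.inr (hcon y hy hy1)
    have h2 := (Set.ncard_le_ncard h).trans (Set.ncard_insert_le _ _)
    rw [Set.ncard_singleton, show ((E : Subgroup G) : Set G).ncard = 4 from
      (Nat.card_coe_set_eq _).symm.trans d.card] at h2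
    omega
  obtain ⟨b, hb, hb1⟩ : ∃ b ∈ B, b ≠ 1 := by
    by_cases hyB : y ∈ B
    · exact ⟨y, hyB, hy1⟩
    · exact ⟨x * y, hidx x hx y hy hxB hyB, fun h => hyx (by
        rw [eq_inv_of_mul_eq_one_right h, inv_eq_of_sq (d.sq x hx)])⟩
  refine hmove b (hB hb) hb1 ?_
  by_contra hcon
  have h3 : ({1, b, f * b * f⁻¹} : Set G) ⊆ (B : Set G) := by
    rintro z (rfl | rfl | rfl)
    exacts [one_mem _, hb, (mem_normalizer_iff.1 hfB b).1 hb]
  have h4 := Set.ncard_le_ncard h3
  rw [Set.ncard_eq_three.2 ⟨1, b, f * b * f⁻¹, hb1.symm, fun e => hb1 (conj_eq_one_iff.1 e.symm),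
    Ne.symm hcon, rfl⟩] at h4
  have : (B : Set G).ncard = Nat.card B := (Nat.card_coe_set_eq _).symm
  omega

/-- The centralizer of an involution of `E` is `O E`. -/
theorem Four.centralizer_eq (d : Four G r E) {t : G} (ht : t ∈ (E : Subgroup G)) (ht1 : t ≠ 1) :
    centralizer ({t} : Set G) = coreIn (centralizer ({t} : Set G)) ⊔ (E : Subgroup G) := by
  classical
  haveI : Fact (Nat.Prime 2) := ⟨Nat.prime_two⟩
  set C := centralizer ({t} : Set G) with hC
  have hEC : (E : Subgroup G) ≤ C := sylow_le_centralizer E d.spec ht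
  set W := coreIn C ⊔ (E : Subgroup G) with hW
  have hWC : W ≤ C := sup_le (coreIn_le _) hEC
  refine le_antisymm (fun c hc => ?_) hWC
  have hcW := d.spec.le_normalizer_core_sup E (d.spec.solvable_invol (orderOf_of_sq (d.sq t ht) ht1))
    hEC hc
  have h1 : ((c • E : Sylow 2 G) : Subgroup G) ≤ W := by
    rw [Sylow.coe_subgroup_smul]
    rintro _ ⟨x, hx, rfl⟩
    exact (mem_normalizer_iff.1 hcW x).1 (mem_sup_right hx)
  obtain ⟨w, hw⟩ := MulAction.exists_smul_eq W (E.subtype (le_sup_right : (E : Subgroup G) ≤ W))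
    ((c • E).subtype h1)
  have hn : (w : G)⁻¹ * c ∈ normalizer ((E : Subgroup G) : Set G) := by
    rw [← inv_mem_iff, mul_inv_rev, inv_inv]
    refine CIT.cj_eq_self_iff.1 (eq_of_le_of_card_ge (fun x hx => ?_) (CIT.card_cj _ _).ge)
    have hx' := CIT.mem_cj.1 hx
    set y := (c⁻¹ * (w : G))⁻¹ * x * (c⁻¹ * (w : G)) with hy
    have h2 : w * ⟨y, mem_sup_right hx'⟩ * w⁻¹ ∈
        ((w • E.subtype (le_sup_right : (E : Subgroup G) ≤ W) : Sylow 2 W) : Subgroup W) := by
      rw [Sylow.coe_subgroup_smul]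
      exact Subgroup.smul_mem_pointwise_smul _ (MulAut.conj w) _
        (by simpa [mem_subgroupOf] using hx')
    rw [hw, Sylow.coe_subtype, mem_subgroupOf, Sylow.coe_subgroup_smul] at h2
    obtain ⟨z, hz, e⟩ := h2
    have e' : c * z * c⁻¹ = (w : G) * y * (w : G)⁻¹ := e
    rw [show x = c⁻¹ * ((w : G) * y * (w : G)⁻¹) * c by rw [hy]; group, ← e']
    rw [show c⁻¹ * (c * z * c⁻¹) * c = z by group]
    exact hz
  suffices h : (w : G)⁻¹ * c ∈ W by
    simpa using W.mul_mem w.2 h
  have hnC : (w : G)⁻¹ * c ∈ C := mul_mem (inv_mem (hWC w.2)) hc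
  refine mem_of_prime_pow_powers fun y hy s k hs hyo => ?_
  have hyN := zpowers_le.2 hn hy
  have hyC := zpowers_le.2 hnC hy
  by_cases hs2 : s = 2
  · subst hs2
    exact mem_sup_right (CIT.mem_of_two_normalizer hyN
      (IsPGroup.of_card (n := k) (by rw [Nat.card_zpowers, hyo])))
  · have hodd : Odd (orderOf y) := hyo ▸ (hs.odd_of_ne_two hs2).pow
    exact mem_sup_left (xCore_le_coreIn E d.spec ht ht1 ((d.spec.mem_xCore_iff E ht ht1).2
      ⟨d.no_fixed hyN hodd ht ht1
        (mul_inv_eq_iff_eq_mul.2 (mem_centralizer_singleton_iff.1 hyC)), hodd⟩))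

theorem Four.exists_invol (d : Four G r E) : ∃ t ∈ (E : Subgroup G), t ≠ 1 :=
  exists_mem_ne_one (by rw [d.card]; norm_num)

theorem Four.exists_other (d : Four G r E) {t : G} (_ht : t ∈ (E : Subgroup G)) :
    ∃ u ∈ (E : Subgroup G), u ≠ 1 ∧ u ≠ t := by
  by_contra hcon
  push Not at hcon
  have h : ((E : Subgroup G) : Set G) ⊆ {1, t} := fun y hy => by
    by_cases hy1 : y = 1
    · exact Or.inl hy1
    · exact Or.inr (hcon y hy hy1)
  have h2 := (Set.ncard_le_ncard h).trans (Set.ncard_insert_le _ _)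
  rw [Set.ncard_singleton, show ((E : Subgroup G) : Set G).ncard = 4 from
    (Nat.card_coe_set_eq _).symm.trans d.card] at h2
  omega

theorem Four.isKleinFour (d : Four G r E) : IsKleinFour (E : Subgroup G) where
  card_four := d.card
  exponent_two := by
    haveI : Nontrivial (E : Subgroup G) := Finite.one_lt_card_iff_nontrivial.1 (by rw [d.card]; norm_num)
    refine (Monoid.exponent_eq_prime_iff Nat.prime_two).2 fun g hg => ?_
    rw [← Subgroup.orderOf_coe]
    exact orderOf_of_sq (d.sq _ g.2) fun h => hg (Subtype.ext h)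

/-- When `C(E)` has a nontrivial odd part. -/
theorem Four.iso_of_x_ne_bot (d : Four G r E) (hX : xCore E ≠ ⊥) :
    Nonempty (G ≃* alternatingGroup (Fin 5)) := by
  haveI := d.simple
  haveI : Fact r.Prime := ⟨d.spec.prime⟩
  obtain ⟨t, ht, ht1⟩ := d.exists_invol
  obtain ⟨u, hu, hu1, hut⟩ := d.exists_other ht
  obtain ⟨x, hx, hx1⟩ := exists_mem_ne_one ((Subgroup.one_lt_card_iff_ne_bot _).2 hX)
  obtain ⟨n, hn⟩ := IsPGroup.iff_orderOf.1 (d.spec.xCore_isPGroup E ht ht1) ⟨x, hx⟩
  rw [← Subgroup.orderOf_coe] at hn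
  have hxo : orderOf x = r := orderOf_eq_prime (d.spec.exp_r hn) hx1
  set CX := centralizer (xCore E : Set G) with hCX
  have hordX : ∀ y ∈ CX, (orderOf y).Prime → orderOf y = 2 ∨ orderOf y = r := fun y hy =>
    d.spec.r_centralizer_orders hxo y (centralizer_le (Set.singleton_subset_iff.2 hx) hy)
  have hECX : (E : Subgroup G) ≤ CX := le_centralizer_iff.1 (xCore_le E)
  have hM : coreIn CX ≤ centralizer ((E : Subgroup G) : Set G) := by
    refine le_centralizer_iff.1 ?_
    obtain ⟨f, s, k, hs, hs2, hfo, hfN, -, hmove⟩ := d.exists_turn ht ht1 hu hu1 hut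
    refine d.centralizes (isPGroup_of_odd_two_prime d.spec.prime d.spec.ne_two (coreIn_odd _)
      fun y hy => hordX y (coreIn_le _ hy)) (hECX.trans (le_normalizer_coreIn _)) hs hs2 hfo
      (normalizer_le_normalizer_coreIn _ (Coprime.normalizer_le_normalizer_centralizer _
        (normalizer_le_normalizer_xCore E hfN))) hfN hmove
  set C := centralizer ({t} : Set G) with hC
  have hEC : (E : Subgroup G) ≤ C := sylow_le_centralizer E d.spec ht
  set O := coreIn C with hO
  have hEO : (E : Subgroup G) ≤ normalizer (O : Set G) := hEC.trans (le_normalizer_coreIn _)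
  have hA : O ⊓ CX ≤ centralizer ((E : Subgroup G) : Set G) :=
    (d.spec.odd_le_coreIn E (isSolvable_of_two_prime d.spec.prime d.spec.ne_two hordX) hECX
      inf_le_right ((coreIn_odd C).of_dvd_nat (card_dvd_of_le inf_le_left))
      (Coprime.inf_le_normalizer hEO (hECX.trans le_normalizer))).trans hM
  have hOc : O ≤ centralizer ((E : Subgroup G) : Set G) := by
    refine le_centralizer_iff.1 (Coprime.pq_lemma (P := xCore E) (Q := (E : Subgroup G)) (U := O)
      (d.spec.xCore_isPGroup E ht ht1) ?_ (d.spec.coreIn_invol_isPGroup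
        (orderOf_of_sq (d.sq t ht) ht1)) (xCore_le E) ((xCore_le_coreIn E d.spec ht ht1).trans
          le_normalizer) hEO hA)
    rw [d.card]
    exact Nat.Coprime.pow_left 2 (Nat.coprime_two_left.2 d.spec.odd_prime)
  have hCN : C ≤ normalizer ((E : Subgroup G) : Set G) := by
    refine (d.centralizer_eq ht ht1).le.trans ?_
    exact sup_le (hOc.trans (Coprime.centralizer_le_normalizer_self _)) le_normalizer
  exact Cfsg.Agent.S3278.result t (orderOf_of_sq (d.sq t ht) ht1) (E : Subgroup G) hEC d.isKleinFour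
    (fun h => E.not_dvd_index (h.trans (relIndex_dvd_index_of_le hEC)))
    ((normal_subgroupOf_iff_le_normalizer hEC).2 hCN)

/-- Maximal `E`-invariant `r`-subgroups meet trivially. -/
theorem Four.invariant_unique (d : Four G r E) (hX : xCore E = ⊥) {P Q : Subgroup G}
    (hP : Maximal (fun W : Subgroup G => IsPGroup r W ∧ (E : Subgroup G) ≤ normalizer (W : Set G)) P)
    (hQ : Maximal (fun W : Subgroup G => IsPGroup r W ∧ (E : Subgroup G) ≤ normalizer (W : Set G)) Q)
    (hD : P ⊓ Q ≠ ⊥) : P = Q := by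
  classical
  haveI : Fact r.Prime := ⟨d.spec.prime⟩
  haveI : Fact (Nat.Prime 2) := ⟨Nat.prime_two⟩
  obtain ⟨t, ht, ht1⟩ := d.exists_invol
  set inv := fun W : Subgroup G => IsPGroup r W ∧ (E : Subgroup G) ≤ normalizer (W : Set G)
  let S : Set (Subgroup G × Subgroup G) :=
    {p | Maximal inv p.1 ∧ Maximal inv p.2 ∧ p.1 ⊓ p.2 ≠ ⊥ ∧ p.1 ≠ p.2}
  by_contra hne
  obtain ⟨⟨A, B⟩, ⟨hA, hB, hAB, hne'⟩, hmax⟩ := Set.exists_max_image S
    (fun p => Nat.card (p.1 ⊓ p.2 : Subgroup G)) (Set.toFinite S) ⟨(P, Q), hP, hQ, hD, hne⟩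
  simp only at hA hB hAB hne' hmax
  set D := A ⊓ B with hDdef
  set H := normalizer (D : Set G) with hH
  have hDp : IsPGroup r D := hA.prop.1.to_inf_left
  have hEH : (E : Subgroup G) ≤ H := Coprime.inf_le_normalizer hA.prop.2 hB.prop.2
  -- `N(D)` has a central Sylow 2-subgroup
  have hT : normalizer ((E.subtype hEH : Subgroup H) : Set H) ≤
      centralizer ((E.subtype hEH : Subgroup H) : Set H) := by
    intro n hn
    have hnN : (n : G) ∈ normalizer ((E : Subgroup G) : Set G) := by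
      refine CIT.cj_eq_self_iff.1 (eq_of_le_of_card_ge (fun x hx => ?_) (CIT.card_cj _ _).ge)
      have hx' := CIT.mem_cj.1 hx
      have h1 := (mem_normalizer_iff.1 hn ⟨_, hEH hx'⟩).1 (by simpa [mem_subgroupOf] using hx')
      simpa [mem_subgroupOf, mul_assoc] using h1
    have hnC : (n : G) ∈ centralizer ((E : Subgroup G) : Set G) := by
      refine mem_of_prime_pow_powers fun y hy s k hs hyo => ?_
      have hyN := zpowers_le.2 hnN hy
      have hyH : y ∈ normalizer (D : Set G) := zpowers_le.2 n.2 hy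
      by_cases hs2 : s = 2
      · subst hs2
        exact sylow_le_centralizer_self E d.spec (CIT.mem_of_two_normalizer hyN
          (IsPGroup.of_card (n := k) (by rw [Nat.card_zpowers, hyo])))
      · by_cases hmove : ∀ b ∈ (E : Subgroup G), b ≠ 1 → y * b * y⁻¹ ≠ b
        · refine absurd (eq_bot_iff.2 fun z hz => ?_) hAB
          rw [← hX]
          obtain ⟨i, hi⟩ := IsPGroup.iff_orderOf.1 hDp ⟨z, hz⟩
          rw [← Subgroup.orderOf_coe] at hi
          refine (d.spec.mem_xCore_iff E ht ht1).2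
            ⟨le_centralizer_iff.1 (d.centralizes hDp hEH hs hs2 hyo hyH hyN hmove) hz, ?_⟩
          show Odd (orderOf z)
          exact hi ▸ d.spec.odd_prime.pow
        · push Not at hmove
          obtain ⟨b, hb, hb1, hyb⟩ := hmove
          exact d.no_fixed hyN (hyo ▸ (hs.odd_of_ne_two hs2).pow) hb hb1 hyb
    refine mem_centralizer_iff.2 fun x hx => Subtype.ext ?_
    exact mem_centralizer_iff.1 hnC _ (mem_subgroupOf.1 hx)
  set K := coreIn H with hK
  have hEK : (E : Subgroup G) ≤ normalizer (K : Set G) := hEH.trans (le_normalizer_coreIn _)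
  have hcop : (Nat.card (E : Subgroup G)).Coprime (Nat.card K) :=
    card_coprime_of_sq_odd d.sq (coreIn_odd _)
  have hab : IsMulCommutative (E : Subgroup G) :=
    ⟨⟨fun x y => Subtype.ext (comm_of_sq d.sq x.2 y.2)⟩⟩
  have hsolv : Group.IsSolvable (E : Subgroup G) ∨ Group.IsSolvable K :=
    Or.inl (Coprime.isSolvable_of_isMulCommutative hab)
  have hCK : K ⊓ centralizer ((E : Subgroup G) : Set G) = ⊥ := eq_bot_iff.2 fun z hz => by
    rw [← hX]
    exact (d.spec.mem_xCore_iff E ht ht1).2 ⟨hz.2, odd_orderOf_of_mem (coreIn_odd _) hz.1⟩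
  have hgrow : ∀ W, inv W → D ≤ W → W ⊓ H ≤ K ∧ IsPGroup r (W ⊓ H : Subgroup G) ∧
      (E : Subgroup G) ≤ normalizer ((W ⊓ H : Subgroup G) : Set G) := by
    intro W hW _
    refine ⟨fun z hz => ?_, hW.1.to_inf_left, Coprime.inf_le_normalizer hW.2 (hEH.trans le_normalizer)⟩
    obtain ⟨i, hi⟩ := IsPGroup.iff_orderOf.1 hW.1 ⟨z, hz.1⟩
    rw [← Subgroup.orderOf_coe] at hi
    exact odd_mem_coreIn (E.subtype hEH) hT hz.2 (show Odd (orderOf z) from hi ▸ d.spec.odd_prime.pow)
  obtain ⟨hA1, hA2, hA3⟩ := hgrow A hA.prop inf_le_left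
  obtain ⟨hB1, hB2, hB3⟩ := hgrow B hB.prop inf_le_right
  obtain ⟨S1, hS1, hAS, hES1⟩ := Coprime.le_invariant_sylow hEK hcop hsolv hA1 hA2 hA3
  obtain ⟨S2, hS2, hBS, hES2⟩ := Coprime.le_invariant_sylow hEK hcop hsolv hB1 hB2 hB3
  obtain ⟨c, hc, hcS⟩ := Coprime.invariant_sylow_conj hEK hcop hsolv hS1 hS2 hES1 hES2
  rw [hCK, mem_bot] at hc
  subst hc
  rw [Coprime.conjBy_one] at hcS
  subst hcS
  obtain ⟨R, hSR, hR⟩ := exists_maximal_ge_of_wellFoundedGT inv S1 ⟨hS1.isPGroup, hES1⟩
  have hgt : ∀ W, Maximal inv W → D ≤ W → W ⊓ H ≤ S1 → (∀ W', Maximal inv W' → D = W → W ≤ W' → False) →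
      R = W := by
    intro W hW hDW hWS hlt
    by_contra hRW
    have hne2 : D ≠ W := fun e => hlt R hR e (by
      rw [← e]
      exact ((le_inf hDW le_normalizer).trans hWS).trans hSR)
    haveI : Group.IsNilpotent W := hW.prop.1.isNilpotent
    have h1 := Fusion.lt_inf_normalizer hDW hne2
    have h2 : D < R ⊓ W := lt_of_lt_of_le h1 (le_inf (hWS.trans hSR) inf_le_left)
    have h3 : ¬ Nat.card (R ⊓ W : Subgroup G) ≤ Nat.card D := fun h =>
      h2.ne (eq_of_le_of_card_ge h2.le h)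
    exact h3 (hmax (R, W) ⟨hR, hW, fun e => hAB (eq_bot_iff.2 (e ▸ h2.le)), hRW⟩)
  have hRA : R = A := hgt A hA inf_le_left hAS fun W' _ e _ =>
    hne' (hA.eq_of_le hB.prop (e ▸ inf_le_right))
  have hRB : R = B := hgt B hB inf_le_right hBS fun W' _ e _ =>
    hne' (hB.eq_of_le hA.prop (e ▸ inf_le_left)).symm
  exact hne' (hRA.symm.trans hRB)

/-- Rank two gives `PSL₂` of odd degree. -/
theorem Four.iso_psl2 (d : Four G r E) :
    ∃ (F : Type) (_ : Field F) (_ : Fintype F), Odd (Fintype.card F) ∧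
      Nonempty (G ≃* Matrix.ProjectiveSpecialLinearGroup (Fin 2) F) := by
  classical
  haveI := d.simple
  haveI : Fact (Nat.Prime 2) := ⟨Nat.prime_two⟩
  haveI : Fact r.Prime := ⟨d.spec.prime⟩
  haveI : Fact (Nat.Prime 5) := ⟨Nat.prime_five⟩
  by_cases hX : xCore E = ⊥
  swap
  · obtain ⟨e⟩ := d.iso_of_x_ne_bot hX
    obtain ⟨e'⟩ := Cfsg.Agent.S0253.result (ZMod.card 5)
    exact ⟨ZMod 5, inferInstance, inferInstance, by rw [ZMod.card]; decide, ⟨e.trans e'.symm⟩⟩
  obtain ⟨t, ht, ht1⟩ := d.exists_invol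
  have hto := orderOf_of_sq (d.sq t ht) ht1
  set C := centralizer ({t} : Set G) with hC
  have hEC : (E : Subgroup G) ≤ C := sylow_le_centralizer E d.spec ht
  set O := coreIn C with hO
  have hEO : (E : Subgroup G) ≤ normalizer (O : Set G) := hEC.trans (le_normalizer_coreIn _)
  have htO : ∀ y ∈ O, t * y = y * t := fun y hy =>
    (mem_centralizer_singleton_iff.1 (coreIn_le _ hy)).symm
  have hx1 : ∀ y ∈ centralizer ((E : Subgroup G) : Set G), Odd (orderOf y) → y = 1 := fun y hy hyo =>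
    mem_bot.1 (hX ▸ (d.spec.mem_xCore_iff E ht ht1).2 ⟨hy, hyo⟩)
  -- the other involutions invert `O`
  have hinv : ∀ u ∈ (E : Subgroup G), u ≠ 1 → u ≠ t → ∀ y ∈ O, u * y * u⁻¹ = y⁻¹ := by
    intro u hu hu1 hut
    let φ : O →* O := MonoidHom.mk' (fun y => ⟨u * y * u⁻¹, (mem_normalizer_iff.1 (hEO hu) _).1 y.2⟩)
      fun a b => Subtype.ext (by simp [mul_assoc])
    have hφ : MonoidHom.FixedPointFree φ := fun y hy => Subtype.ext (by
      have h1 : u * (y : G) = y * u := mul_inv_eq_iff_eq_mul.1 (congrArg Subtype.val hy)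
      refine hx1 _ (mem_centralizer_iff.2 fun e he => ?_) (odd_orderOf_of_mem (coreIn_odd _) y.2)
      rcases d.eq_four ht ht1 hu hu1 hut he with rfl | rfl | rfl | rfl
      · rw [one_mul, mul_one]
      · exact htO _ y.2
      · exact h1
      · exact ((show Commute t (y : G) from htO _ y.2).mul_left h1).eq)
    have hinvo : Function.Involutive φ := fun y => Subtype.ext (by
      show u * (u * (y : G) * u⁻¹) * u⁻¹ = y
      rw [show u * (u * (y : G) * u⁻¹) * u⁻¹ = (u * u) * y * (u * u)⁻¹ by group,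
        d.sq u hu, one_mul, inv_one, mul_one])
    intro y hy
    exact congrArg Subtype.val (congrFun (hφ.coe_eq_inv_of_involutive hinvo) ⟨y, hy⟩)
  have hOc : ∀ a ∈ O, ∀ b ∈ O, a * b = b * a := by
    intro a ha b hb
    obtain ⟨u, hu, hu1, hut⟩ := d.exists_other ht
    have h1 := hinv u hu hu1 hut (a * b) (mul_mem ha hb)
    rw [show u * (a * b) * u⁻¹ = (u * a * u⁻¹) * (u * b * u⁻¹) by group, hinv u hu hu1 hut a ha,
      hinv u hu hu1 hut b hb, ← mul_inv_rev, inv_inj] at h1
    exact h1.symm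
  have hdich : ∀ e ∈ (E : Subgroup G), e = 1 ∨ e = t ∨ ∀ y ∈ O, e * y * e⁻¹ = y⁻¹ := by
    intro e he
    by_cases h1 : e = 1
    · exact Or.inl h1
    by_cases h2 : e = t
    · exact Or.inr (Or.inl h2)
    exact Or.inr (Or.inr (hinv e he h1 h2))
  have hcentY : ∀ e ∈ (E : Subgroup G), ∀ y ∈ O, y ≠ 1 → e * y = y * e → e = 1 ∨ e = t := by
    intro e he y hy hy1 hc
    rcases hdich e he with h | h | h
    · exact Or.inl h
    · exact Or.inr h
    · exfalso
      have h1 := h y hy
      rw [hc, mul_inv_cancel_right] at h1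
      exact hy1 (eq_one_of_sq_of_odd (odd_orderOf_of_mem (coreIn_odd _) hy)
        (by nth_rw 2 [h1]; exact mul_inv_cancel y))
  have hEfour := d.isKleinFour
  obtain ⟨eD⟩ : Nonempty ((E : Subgroup G) ≃* DihedralGroup 2) := IsKleinFour.nonempty_mulEquiv
  refine Cfsg.Agent.S0508.result E 2 le_rfl ⟨eD⟩ t hto ht (fun s hs => comm_of_sq d.sq hs ht) O rfl
    ?_ ?_ ?_
  · intro hO1
    obtain ⟨y, hy, hy1⟩ := exists_mem_ne_one ((Subgroup.one_lt_card_iff_ne_bot _).2 hO1)
    have hS : (E : Subgroup G) ⊓ centralizer (O : Set G) = zpowers t := by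
      refine le_antisymm (fun e he => ?_) (zpowers_le.2 ⟨ht, mem_centralizer_iff.2 fun z hz =>
        (htO z hz).symm⟩)
      rcases hcentY e he.1 y hy hy1 (mem_centralizer_iff.1 he.2 y hy).symm with rfl | rfl
      · exact one_mem _
      · exact mem_zpowers e
    refine ⟨hS.symm ▸ inferInstance, ?_⟩
    rw [hS]
    have h1 := ((zpowers t).subgroupOf (E : Subgroup G)).card_mul_index
    rw [Nat.card_congr (subgroupOfEquivOfLe (zpowers_le.2 ht)).toEquiv, Nat.card_zpowers, hto,
      d.card] at h1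
    show ((zpowers t).subgroupOf (E : Subgroup G)).index = 2
    omega
  · intro e he hne y hy
    rcases hdich e he with rfl | rfl | h
    · exact absurd (one_mem _) hne
    · exact absurd (mem_centralizer_iff.2 fun z hz => (htO z hz).symm) hne
    · exact h y hy
  intro Y hYO hY1
  obtain ⟨y, hy, hy1⟩ := exists_mem_ne_one ((Subgroup.one_lt_card_iff_ne_bot _).2 hY1)
  set H := centralizer (Y : Set G) with hH
  have hOp : IsPGroup r O := d.spec.coreIn_invol_isPGroup hto
  have hyo : orderOf y = r := by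
    obtain ⟨n, hn⟩ := IsPGroup.iff_orderOf.1 hOp ⟨y, hYO hy⟩
    rw [← Subgroup.orderOf_coe] at hn
    exact orderOf_eq_prime (d.spec.exp_r hn) hy1
  have htH : t ∈ H := mem_centralizer_iff.2 fun z hz => (htO z (hYO hz)).symm
  have hOH : O ≤ H := fun o ho => mem_centralizer_iff.2 fun z hz => hOc z (hYO hz) o ho
  -- the only involution of `H` commuting with `t`
  have honly : ∀ w ∈ H, w * w = 1 → t * w = w * t → w = 1 ∨ w = t := by
    intro w hwH hw hwt
    have hwC : w ∈ C := mem_centralizer_singleton_iff.2 hwt.symm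
    have hwC' : w ∈ O ⊔ (E : Subgroup G) := (d.centralizer_eq ht ht1).le hwC
    obtain ⟨o, ho, e, he, rfl⟩ := Coprime.mem_sup_exists hEO hwC'
    have hey : e * y = y * e := by
      have h1 := mem_centralizer_iff.1 hwH y hy
      have h2 := mem_centralizer_iff.1 (hOH ho) y hy
      refine mul_left_cancel (a := o) ?_
      calc o * (e * y) = o * e * y := (mul_assoc _ _ _).symm
        _ = y * (o * e) := h1.symm
        _ = o * (y * e) := by rw [← mul_assoc, h2, mul_assoc]
    have hoe : o * e = e * o := by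
      rcases hcentY e he y (hYO hy) hy1 hey with rfl | rfl
      · rw [one_mul, mul_one]
      · exact (htO o ho).symm
    have ho2 : o * o = 1 := by
      calc o * o = o * (e * e) * o := by rw [d.sq e he, mul_one]
        _ = (o * e) * (e * o) := by group
        _ = 1 := by rw [← hoe, hw]
    rw [eq_one_of_sq_of_odd (odd_orderOf_of_mem (coreIn_odd _) ho) ho2, one_mul]
    exact hcentY e he y (hYO hy) hy1 hey
  -- the Sylow 2-subgroup of `H` is `⟨t⟩`
  obtain ⟨T, hT⟩ : ∃ T : Sylow 2 H, (⟨t, htH⟩ : H) ∈ (T : Subgroup H) := by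
    obtain ⟨T, hT⟩ := (IsPGroup.of_card (G := zpowers (⟨t, htH⟩ : H)) (n := 1) (by
      rw [Nat.card_zpowers, Subgroup.orderOf_mk, hto, pow_one])).exists_le_sylow
    exact ⟨T, hT (mem_zpowers _)⟩
  have hTsq : ∀ x ∈ (T : Subgroup H), x * x = 1 := fun x hx => (d.spec.subgroup H).sylow_sq T hx
  have hTeq : ∀ x ∈ (T : Subgroup H), x = 1 ∨ x = ⟨t, htH⟩ := by
    intro x hx
    rcases honly x x.2 (congrArg Subtype.val (hTsq x hx))
      (congrArg Subtype.val (comm_of_sq hTsq hT hx)) with h | h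
    · exact Or.inl (Subtype.ext h)
    · exact Or.inr (Subtype.ext h)
  have hTn : normalizer ((T : Subgroup H) : Set H) ≤ centralizer ((T : Subgroup H) : Set H) := by
    intro n hn
    refine mem_centralizer_iff.2 fun x hx => ?_
    rcases hTeq x hx with rfl | rfl
    · rw [one_mul, mul_one]
    rcases hTeq _ ((mem_normalizer_iff.1 hn _).1 hx) with h | h
    · exact absurd (congrArg Subtype.val (conj_eq_one_iff.1 h)) ht1
    · exact (mul_inv_eq_iff_eq_mul.1 h).symm
  set MY := coreIn H with hMY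
  have hEY : (E : Subgroup G) ≤ normalizer (Y : Set G) := by
    intro e he
    rcases hdich e he with rfl | rfl | h
    · exact one_mem _
    · exact Coprime.centralizer_le_normalizer_self _ htH
    · refine mem_normalizer_iff.2 fun z => ⟨fun hz => ?_, fun hz => ?_⟩
      · rw [h z (hYO hz)]; exact inv_mem hz
      · have h1 := h _ (hYO hz)
        rw [show e * (e * z * e⁻¹) * e⁻¹ = (e * e) * z * (e * e)⁻¹ by group, d.sq e he, one_mul,
          inv_one, mul_one] at h1
        exact h1 ▸ inv_mem hz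
  -- `MY` lies in `C(t)`
  have hMC : MY ≤ C := by
    have hMp : IsPGroup r MY := isPGroup_of_odd_two_prime d.spec.prime d.spec.ne_two (coreIn_odd _)
      fun z hz => d.spec.r_centralizer_orders hyo z
        (centralizer_le (Set.singleton_subset_iff.2 hy) (coreIn_le _ hz))
    have hMn : (E : Subgroup G) ≤ normalizer (MY : Set G) :=
      hEY.trans ((Coprime.normalizer_le_normalizer_centralizer _).trans
        (normalizer_le_normalizer_coreIn _))
    have hOM : O ≤ MY := fun o ho =>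
      odd_mem_coreIn T hTn (hOH ho) (odd_orderOf_of_mem (coreIn_odd _) ho)
    set inv := fun W : Subgroup G => IsPGroup r W ∧ (E : Subgroup G) ≤ normalizer (W : Set G) with hinvdef
    obtain ⟨P, hMP, hP⟩ := exists_maximal_ge_of_wellFoundedGT inv MY ⟨hMp, hMn⟩
    haveI hab : IsMulCommutative (E : Subgroup G) :=
      ⟨⟨fun a b => Subtype.ext (comm_of_sq d.sq a.2 b.2)⟩⟩
    refine Coprime.le_of_centralizers_le (not_isCyclic_of_sq d.sq (by rw [d.card]; norm_num)) hMn
      (card_coprime_of_sq_odd d.sq (coreIn_odd _)) fun b hb hb1 => ?_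
    intro z hz
    by_cases hbt : b = t
    · subst hbt; exact hz.2
    by_cases hz1 : z = 1
    · exact hz1 ▸ one_mem _
    exfalso
    obtain ⟨f, s, k, hs, hs2, hfo, hfN, hft, hmove⟩ := d.exists_turn ht ht1 hb hb1 hbt
    -- the conjugate of `P` is a maximal invariant subgroup meeting `P`
    have hcjO : CIT.cj f O ≤ coreIn (centralizer ({b} : Set G)) := by
      refine (cj_coreIn_le f C).trans (le_of_eq (congrArg coreIn ?_))
      ext x
      rw [CIT.mem_cj, mem_centralizer_singleton_iff, mem_centralizer_singleton_iff, ← hft]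
      constructor
      · intro h
        calc x * (f * t * f⁻¹) = f * (f⁻¹ * x * f * t) * f⁻¹ := by group
          _ = f * (t * (f⁻¹ * x * f)) * f⁻¹ := by rw [h]
          _ = f * t * f⁻¹ * x := by group
      · intro h
        calc f⁻¹ * x * f * t = f⁻¹ * (x * (f * t * f⁻¹)) * f := by group
          _ = f⁻¹ * (f * t * f⁻¹ * x) * f := by rw [h]
          _ = t * (f⁻¹ * x * f) := by group
    have hzb : z ∈ coreIn (centralizer ({b} : Set G)) := by
      have hbC : (E : Subgroup G) ≤ centralizer ({b} : Set G) := sylow_le_centralizer E d.spec hb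
      refine d.spec.odd_le_coreIn E (d.spec.solvable_invol (orderOf_of_sq (d.sq b hb) hb1)) hbC
        (D := MY ⊓ centralizer ({b} : Set G)) inf_le_right
        ((coreIn_odd H).of_dvd_nat (card_dvd_of_le inf_le_left))
        (Coprime.inf_le_normalizer hMn (hbC.trans le_normalizer)) hz
    obtain ⟨Q, hQ, hQmax⟩ := exists_maximal_ge_of_wellFoundedGT inv (coreIn (centralizer ({b} : Set G)))
      ⟨d.spec.coreIn_invol_isPGroup (orderOf_of_sq (d.sq b hb) hb1),
        (sylow_le_centralizer E d.spec hb).trans (le_normalizer_coreIn _)⟩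
    have hPQ : P = Q := d.invariant_unique hX hP hQmax fun h => hz1 (mem_bot.1
      (h ▸ (⟨hMP hz.1, hQ hzb⟩ : z ∈ P ⊓ Q)))
    have hcjP : Maximal inv (CIT.cj f P) := by
      have hcjinv : ∀ (g : G), g ∈ normalizer ((E : Subgroup G) : Set G) → ∀ W, inv W →
          inv (CIT.cj g W) := fun g hg W hW => by
        refine ⟨hW.1.map _, fun e he => CIT.cj_eq_self_iff.1 ?_⟩
        have h1 := CIT.cj_eq_self_iff.2 (hW.2 ((mem_normalizer_iff''.1 hg e).1 he))
        conv_rhs => rw [← h1]
        rw [CIT.cj_mul, CIT.cj_mul]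
        congr 1
        group
      refine ⟨hcjinv f hfN P hP.prop, fun W hW hPW => ?_⟩
      have h1 : P ≤ CIT.cj f⁻¹ W := by
        intro x hx
        refine CIT.mem_cj.2 (hPW (CIT.mem_cj.2 ?_))
        rwa [show f⁻¹ * (f⁻¹⁻¹ * x * f⁻¹) * f = x by group]
      have h2 : CIT.cj f⁻¹ W ≤ P := hP.le_of_ge (hcjinv _ (inv_mem hfN) W hW) h1
      intro x hx
      refine CIT.mem_cj.2 (h2 (CIT.mem_cj.2 ?_))
      rwa [show f⁻¹⁻¹ * (f⁻¹ * x * f) * f⁻¹ = x by group]
    have hfz : f * y * f⁻¹ ≠ 1 := fun e => hy1 (conj_eq_one_iff.1 e)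
    have hfy : f * y * f⁻¹ ∈ CIT.cj f O := CIT.mem_cj.2 (by
      rw [show f⁻¹ * (f * y * f⁻¹) * f = y by group]; exact hYO hy)
    have hPf : P = CIT.cj f P := d.invariant_unique hX hP hcjP fun h => hfz (mem_bot.1 (h ▸
      (⟨hPQ ▸ hQ (hcjO hfy), CIT.cj_mono (hOM.trans hMP) hfy⟩ : f * y * f⁻¹ ∈ P ⊓ CIT.cj f P)))
    have hEP := d.centralizes hP.prop.1 hP.prop.2 hs hs2 hfo (CIT.cj_eq_self_iff.1 hPf.symm) hfN hmove
    exact hy1 (hx1 y (le_centralizer_iff.1 hEP (hMP (hOM (hYO hy)))) (by rw [hyo]; exact d.spec.odd_prime))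
  -- conclusion
  intro g hg
  have hgH : g * t * g⁻¹ ∈ H :=
    (mem_normalizer_iff.1 (Coprime.normalizer_le_normalizer_centralizer _ hg) t).1 htH
  set w := g * t * g⁻¹ with hw
  have hwo : orderOf w = 2 := by rw [hw, CIT.orderOf_conj_eq, hto]
  have hcomm : t * w = w * t := by
    rcases Nat.even_or_odd (orderOf (t * w)) with h | h
    · set z := (t * w) ^ (orderOf (t * w) / 2) with hz
      have hzo : orderOf z = 2 := Invol.orderOf_pow_half h
      have hzt := Invol.commute_pow_half (Invol.invol_conj_mul hto hwo) h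
      have hzw := Invol.commute_pow_half (Invol.invol_conj_mul' hto hwo) h
      rcases honly z (pow_mem (mul_mem htH hgH) _) (Invol.invol_mul_self hzo) hzt.eq.symm with e | e
      · exact absurd e (Invol.invol_ne_one hzo)
      · rw [← hz, e] at hzw
        exact hzw.eq
    · have hd : t * w ∈ C :=
        hMC (odd_mem_coreIn T hTn (mul_mem htH hgH) h)
      have h1 := mem_centralizer_singleton_iff.1 hd
      rw [mul_assoc] at h1
      exact (mul_left_cancel h1).symm
  rcases honly w hgH (Invol.invol_mul_self hwo) hcomm with e | e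
  · exact absurd e (Invol.invol_ne_one hwo)
  · exact mem_centralizer_singleton_iff.2 (mul_inv_eq_iff_eq_mul.1 e)

end CfsgLib.OneComposite
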