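import Cfsg.Agent.Lib.OneComposite.Counting
import Cfsg.Agent.Lib.OneComposite.Klein
import Cfsg.Agent.S0205
import Cfsg.Agent.S1230
import Cfsg.Agent.S0144

/-!
# Simple groups in which the composite element orders involving `2` or `r` are `2r`

They are the groups `PSL₂(q)` with `q` odd.  Without composite orders of even elements they are the
groups `PSL₂(2ⁿ)`.
-/

set_option autoImplicit false
set_option linter.unusedSectionVars false
set_option linter.style.haveILetI false

namespace CfsgLib.OneComposite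

open Subgroup

universe u

variable {G : Type u} [Group G] [Finite G]

theorem not_solvable_of_simple [IsSimpleGroup G] (hna : ¬ IsMulCommutative G) : ¬ Group.IsSolvable G :=
  fun h => hna (isMulCommutative_iff.2 (IsSimpleGroup.comm_iff_isSolvable.2 h))

/-- A nonabelian simple group has a Sylow 2-subgroup of order more than two. -/
theorem two_lt_card_sylow [IsSimpleGroup G] (hna : ¬ IsMulCommutative G) (E : Sylow 2 G) :
    2 < Nat.card (E : Subgroup G) := by
  haveI : Fact (Nat.Prime 2) := ⟨Nat.prime_two⟩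
  by_contra hle
  push Not at hle
  have htwo : ∀ x ∈ (E : Subgroup G), ∀ y ∈ (E : Subgroup G), x = 1 ∨ y = 1 ∨ x = y := by
    intro x hx y hy
    by_contra hcon
    push Not at hcon
    have h3 : ({1, x, y} : Set G) ⊆ ((E : Subgroup G) : Set G) := by
      rintro z (rfl | rfl | rfl)
      exacts [one_mem _, hx, hy]
    have h4 := Set.ncard_le_ncard h3
    rw [Set.ncard_eq_three.2 ⟨1, x, y, Ne.symm hcon.1, Ne.symm hcon.2.1, hcon.2.2, rfl⟩] at h4
    have : ((E : Subgroup G) : Set G).ncard = Nat.card (E : Subgroup G) := (Nat.card_coe_set_eq _).symm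
    omega
  have hN : normalizer ((E : Subgroup G) : Set G) ≤ centralizer ((E : Subgroup G) : Set G) := by
    intro n hn
    refine mem_centralizer_iff.2 fun x hx => ?_
    rcases htwo x hx _ ((mem_normalizer_iff.1 hn x).1 hx) with e | e | e
    · rw [e, one_mul, mul_one]
    · rw [conj_eq_one_iff.1 e, one_mul, mul_one]
    · exact (mul_inv_eq_iff_eq_mul.1 e.symm).symm
  obtain ⟨P, N, hNn, hc⟩ := Fusion.hasNormalPComplement_of_normalizer_le_centralizer E hN
  have hcm := hc.card_mul_card
  rcases hNn.eq_bot_or_eq_top with e | e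
  · rw [e, card_bot, one_mul] at hcm
    have hP : (P : Subgroup G) = ⊤ := eq_top_of_card_eq _ hcm
    haveI : Group.IsNilpotent (P : Subgroup G) := P.isPGroup'.isNilpotent
    haveI : Group.IsSolvable (P : Subgroup G) := Coprime.isSolvable_of_isNilpotent inferInstance
    exact not_solvable_of_simple hna (Group.isSolvable_of_surjective
      (f := (P : Subgroup G).subtype) fun x => ⟨⟨x, hP ▸ mem_top x⟩, rfl⟩)
  · rw [e, card_top] at hcm
    have hP : Nat.card (P : Subgroup G) = 1 := by
      have : 0 < Nat.card G := Nat.card_pos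
      exact Nat.eq_of_mul_eq_mul_left this (hcm.trans (mul_one _).symm)
    refine not_solvable_of_simple hna (Cfsg.Agent.S0205.result (Nat.odd_iff.2 ?_))
    have h := P.not_dvd_index
    have h2 := (P : Subgroup G).card_mul_index
    rw [hP, one_mul] at h2
    rw [h2] at h
    omega

/-- With an element of order `2r` the group is `PSL₂` of odd degree. -/
theorem Spec.iso_psl2_odd [IsSimpleGroup G] {r : ℕ} (h : Spec G r) (hna : ¬ IsMulCommutative G) {g : G}
    (hg : orderOf g = 2 * r) :
    ∃ (F : Type) (_ : Field F) (_ : Fintype F), Odd (Fintype.card F) ∧ 5 ≤ Fintype.card F ∧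
      Nonempty (G ≃* Matrix.ProjectiveSpecialLinearGroup (Fin 2) F) := by
  classical
  haveI : Fact (Nat.Prime 2) := ⟨Nat.prime_two⟩
  let E : Sylow 2 G := default
  obtain ⟨k, hk⟩ := E.isPGroup'.exists_card_eq
  have h2 := two_lt_card_sylow hna E
  by_cases h8 : 8 ≤ Nat.card (E : Subgroup G)
  · exact (Ctx.no_pair (E := E) ⟨h, inferInstance, hna, h8⟩ hg).elim
  have h4 : Nat.card (E : Subgroup G) = 4 := by
    rw [hk] at h2 h8 ⊢
    have hk3 : k < 3 := by
      by_contra hk3
      exact h8 (le_trans (by norm_num) (Nat.pow_le_pow_right two_pos (not_lt.1 hk3)))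
    interval_cases k <;> simp_all
  obtain ⟨F, iF, iF', hodd, ⟨e⟩⟩ := Four.iso_psl2 (E := E) ⟨h, inferInstance, hna, h4⟩
  refine ⟨F, iF, iF', hodd, ?_, ⟨e⟩⟩
  obtain ⟨j, hj⟩ := hodd
  have := Fintype.one_lt_card (α := F)
  by_contra h5
  have hq : Fintype.card F = 3 := by omega
  have hcard := CfsgLib.Classical.card_psl2 (F := F)
  rw [← Nat.card_congr e.toEquiv, hq, show Nat.gcd 2 (3 - 1) = 2 from rfl] at hcard
  exact not_solvable_of_simple hna (Cfsg.Agent.S0144.result 2 3 2 1 Nat.prime_two Nat.prime_three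
    (by omega))

/-- If all elements of even order are involutions the group is `PSL₂` of even degree. -/
theorem iso_psl2_even [IsSimpleGroup G] (hna : ¬ IsMulCommutative G)
    (h : ∀ g : G, 2 ∣ orderOf g → orderOf g = 2) :
    ∃ (F : Type) (_ : Field F) (_ : Fintype F) (n : ℕ), 2 ≤ n ∧ Fintype.card F = 2 ^ n ∧
      Nonempty (G ≃* Matrix.ProjectiveSpecialLinearGroup (Fin 2) F) := by
  classical
  haveI : Fact (Nat.Prime 2) := ⟨Nat.prime_two⟩
  let E : Sylow 2 G := default
  obtain ⟨k, hk⟩ := E.isPGroup'.exists_card_eq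
  have h2 := two_lt_card_sylow hna E
  have hsq : ∀ x ∈ (E : Subgroup G), x * x = 1 := by
    intro x hx
    by_cases h1 : x = 1
    · rw [h1, one_mul]
    obtain ⟨j, hj⟩ := IsPGroup.iff_orderOf.1 E.isPGroup' ⟨x, hx⟩
    rw [← Subgroup.orderOf_coe] at hj
    rw [← pow_two, ← h x (hj ▸ dvd_pow_self 2 fun e => h1 (orderOf_eq_one_iff.1 (by
      rw [hj, e, pow_zero]))), pow_orderOf_eq_one]
  have hnn : ¬ (E : Subgroup G).Normal := by
    intro hn
    rcases hn.eq_bot_or_eq_top with e | e
    · rw [e, card_bot] at h2; omega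
    · exact hna ⟨⟨fun x y => comm_of_sq hsq (e ▸ mem_top x) (e ▸ mem_top y)⟩⟩
  have hC : ∀ t : G, orderOf t = 2 → IsMulCommutative (centralizer ({t} : Set G)) ∧
      ∀ c ∈ centralizer ({t} : Set G), c ^ 2 = 1 := by
    intro t ht
    have hc2 : ∀ c ∈ centralizer ({t} : Set G), c * c = 1 := by
      intro c hc
      by_cases h2c : 2 ∣ orderOf c
      · rw [← pow_two, ← h c h2c, pow_orderOf_eq_one]
      · have hodd : Odd (orderOf c) := Nat.odd_iff.2 (by omega)
        have ho := (show Commute t c from (mem_centralizer_singleton_iff.1 hc).symm).orderOf_mul_eq_mul_orderOf_of_coprime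
          (ht ▸ Nat.coprime_two_left.2 hodd)
        have h3 := h (t * c) (by rw [ho, ht]; exact dvd_mul_right 2 _)
        rw [ho, ht] at h3
        rw [orderOf_eq_one_iff.1 (show orderOf c = 1 by omega), one_mul]
    exact ⟨⟨⟨fun a b => Subtype.ext (comm_of_sq hc2 a.2 b.2)⟩⟩, fun c hc => by rw [pow_two]; exact hc2 c hc⟩
  obtain ⟨F, iF, iF', hF, ⟨e⟩⟩ := Cfsg.Agent.S1230.result E (not_isCyclic_of_sq hsq h2) hnn hC
  refine ⟨F, iF, iF', k, ?_, hF.trans hk, ⟨e⟩⟩
  by_contra hk2
  interval_cases k <;> simp_all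

end CfsgLib.OneComposite
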