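import Cfsg.Agent.Lib.OneComposite.Embedded
import Cfsg.Agent.Lib.Perm.Small.MidSylowPrimes

/-!
# Rank at least three has no element of order `2r`

With the odd part of `C(E)` trivial, an element of order `2r` gives a linear group of order `(q - 1) r`.
The two-point stabilizers then show that the cosets of `N(E)` are `q + 1` in number, and an element of
order `r` fixes three of them, which forces `r = 3` and the order `1512`.
-/

set_option autoImplicit false
set_option linter.unusedSectionVars false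
set_option linter.style.haveILetI false

namespace CfsgLib.OneComposite

open Subgroup

universe u

variable {G : Type u} [Group G] [Finite G] {r : ℕ} {E : Sylow 2 G} {L K : Subgroup G}

/-- The order of `N(E)`. -/
theorem Ctx.card_normalizer (d : Ctx G r E) (c : Compl E L) :
    Nat.card (normalizer ((E : Subgroup G) : Set G)) = Nat.card (E : Subgroup G) * Nat.card L := by
  rw [← Nat.card_prod]
  refine (Nat.card_congr (Equiv.ofBijective
    (fun p : ↥(E : Subgroup G) × ↥L => (⟨(p.1 : G) * p.2, mul_mem (le_normalizer p.1.2) (c.le p.2.2)⟩ :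
      normalizer ((E : Subgroup G) : Set G))) ⟨?_, ?_⟩)).symm
  · rintro ⟨e, l⟩ ⟨e', l'⟩ h
    have h' : (e : G) * l = e' * l' := congrArg Subtype.val h
    have h1 : (e' : G)⁻¹ * e = l' * (l : G)⁻¹ := by
      calc (e' : G)⁻¹ * e = (e' : G)⁻¹ * (e * l) * (l : G)⁻¹ := by group
        _ = l' * (l : G)⁻¹ := by rw [h']; group
    have h2 : (e' : G)⁻¹ * e = 1 := disjoint_sq_odd d.sq c.odd ((E : Subgroup G).mul_mem
      ((E : Subgroup G).inv_mem e'.2) e.2) (h1 ▸ L.mul_mem l'.2 (L.inv_mem l.2))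
    obtain rfl : e' = e := Subtype.ext (inv_mul_eq_one.1 h2)
    obtain rfl : l = l' := Subtype.ext (mul_left_cancel h')
    rfl
  · rintro ⟨m, hm⟩
    obtain ⟨e, he, l, hl, rfl⟩ := c.decomp m hm
    exact ⟨(⟨e, he⟩, ⟨l, hl⟩), rfl⟩

theorem Ctx.invol_mem (_d : Ctx G r E) {t : G} (ht : t ∈ normalizer ((E : Subgroup G) : Set G))
    (hto : orderOf t = 2) : t ∈ (E : Subgroup G) :=
  CIT.mem_of_two_normalizer ht (CIT.isPGroup_zpowers_invol hto)

theorem Ctx.card_invol (d : Ctx G r E) :
    Nat.card {t : G // orderOf t = 2 ∧ t ∈ normalizer ((E : Subgroup G) : Set G)} =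
      Nat.card (E : Subgroup G) - 1 := by
  rw [← nat_card_ne_one]
  exact Nat.card_congr (Equiv.subtypeEquivRight fun t =>
    ⟨fun h => ⟨d.invol_mem h.2 h.1, Invol.invol_ne_one h.1⟩,
      fun h => ⟨orderOf_of_sq (d.sq t h.1) h.2, le_normalizer h.1⟩⟩)

/-- What commutes with an element of odd order prime to `r`. -/
theorem Spec.commutes_prime_to (h : Spec G r) {k y : G} (hk : Odd (orderOf k)) (hkr : ¬ r ∣ orderOf k)
    (hk1 : k ≠ 1) (hc : k * y = y * k) : Odd (orderOf y) ∧ ¬ r ∣ orderOf y := by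
  have hcy : ∀ j : ℕ, k * y ^ j = y ^ j * k := fun j => ((show Commute k y from hc).pow_right j).eq
  refine ⟨?_, fun hd => ?_⟩
  · by_contra he
    rw [Nat.not_odd_iff_even] at he
    rcases h.invol_pair (Invol.orderOf_pow_half he) hk (hcy _).symm with e | e
    · exact hk1 e
    · exact hkr e.symm.dvd
  · have hy : orderOf (y ^ (orderOf y / r)) = r := orderOf_pow_orderOf_div (orderOf_pos y).ne' hd
    obtain ⟨s, hs, hsd⟩ := Nat.exists_prime_and_dvd (fun e => hk1 (orderOf_eq_one_iff.1 e))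
    have hk' : orderOf (k ^ (orderOf k / s)) = s := orderOf_pow_orderOf_div (orderOf_pos k).ne' hsd
    rcases h.prime_pair hy (hk'.symm ▸ hs)
      ((show Commute k (y ^ (orderOf y / r)) from hcy _).pow_left _).eq.symm with e | e <;>
      rw [hk'] at e
    · exact absurd (hk.of_dvd_nat (e ▸ hsd)) (by decide)
    · exact hkr (e ▸ hsd)

/-- An involution permuting a set of odd size fixes a point. -/
theorem exists_fixed_of_not_dvd {α : Type*} [Finite α] {p : ℕ} [Fact p.Prime]
    (σ : Equiv.Perm α) (hσ : σ ^ p = 1) (hn : ¬ p ∣ Nat.card α) : ∃ a, σ a = a := by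
  classical
  haveI := Fintype.ofFinite α
  exact Equiv.Perm.exists_fixed_point_of_prime (n := 1) (by rwa [← Nat.card_eq_fintype_card])
    (by rwa [pow_one])

/-- The linear group of order `(q - 1) r`. -/
structure Reg (G : Type u) [Group G] [Finite G] (r : ℕ) (E : Sylow 2 G) (L K : Subgroup G) : Prop where
  ctx : Ctx G r E
  compl : Compl E L
  x_bot : xCore E = ⊥
  le : K ≤ L
  norm : L ≤ normalizer (K : Set G)
  card : Nat.card K * r = Nat.card L
  coprime : ¬ r ∣ Nat.card K
  succ : Nat.card K + 1 = Nat.card (E : Subgroup G)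
  pow : Nat.card (E : Subgroup G) = 2 ^ r
  fix : ∀ l ∈ L, orderOf l = r →
    Nat.card ((E : Subgroup G) ⊓ centralizer ({l} : Set G) : Subgroup G) = 2

theorem Reg.card_M (d : Reg G r E L K) : Nat.card (normalizer ((E : Subgroup G) : Set G)) =
    Nat.card (E : Subgroup G) * (Nat.card K * r) := by
  rw [d.ctx.card_normalizer d.compl, d.card]

theorem Reg.large (d : Reg G r E L K) : 7 ≤ Nat.card K := by
  have := d.ctx.large
  have := d.succ
  omega

theorem Reg.coprime_E (d : Reg G r E L K) {n : ℕ} (hn : Odd n) : n.Coprime (Nat.card (E : Subgroup G)) := by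
  rw [d.pow]
  exact Nat.Coprime.pow_right r (Nat.coprime_two_right.2 hn)

/-- An odd subgroup of `N(E)` of order prime to `r` has order dividing `q - 1`. -/
theorem Reg.dvd_card_K (d : Reg G r E L K) {H : Subgroup G}
    (hH : H ≤ normalizer ((E : Subgroup G) : Set G)) (hodd : Odd (Nat.card H))
    (hr : ¬ r ∣ Nat.card H) : Nat.card H ∣ Nat.card K := by
  have h1 := card_dvd_of_le hH
  rw [d.card_M] at h1
  exact ((d.ctx.spec.prime.coprime_iff_not_dvd.2 hr).symm).dvd_of_dvd_mul_right
    ((d.coprime_E hodd).dvd_of_dvd_mul_left h1)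

/-- `E K`. -/
theorem Reg.sup_facts (d : Reg G r E L K) :
    (E : Subgroup G) ⊔ K ≤ normalizer ((E : Subgroup G) : Set G) ∧
    normalizer ((E : Subgroup G) : Set G) ≤ normalizer (((E : Subgroup G) ⊔ K : Subgroup G) : Set G) ∧
    Nat.card ((E : Subgroup G) ⊔ K : Subgroup G) = Nat.card (E : Subgroup G) * Nat.card K := by
  refine ⟨sup_le le_normalizer (d.le.trans d.compl.le), fun m hm => ?_, ?_⟩
  · obtain ⟨e, he, l, hl, rfl⟩ := d.compl.decomp m hm
    exact mul_mem (le_normalizer (mem_sup_left he)) (Coprime.sup_le_normalizer d.compl.le d.norm hl)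
  · rw [sup_comm, mul_comm]
    refine Nat.dvd_antisymm (Coprime.card_sup_dvd_of_le_normalizer (d.le.trans d.compl.le)) ?_
    exact (d.coprime_E (d.compl.odd.of_dvd_nat (card_dvd_of_le d.le))).mul_dvd_of_dvd_of_dvd
      (card_dvd_of_le le_sup_left) (card_dvd_of_le le_sup_right)

/-- The two-point stabilizer. -/
theorem Reg.two_point (d : Reg G r E L K) {u : G} (hu : orderOf u = 2)
    (huM : u ∉ normalizer ((E : Subgroup G) : Set G)) :
    ∃ KD : Subgroup G, KD ≤ normalizer ((E : Subgroup G) : Set G) ∧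
      (∀ x ∈ KD, u * x * u⁻¹ ∈ normalizer ((E : Subgroup G) : Set G)) ∧
      Nat.card KD = Nat.card K ∧ KD ≤ (E : Subgroup G) ⊔ K ∧
      (∀ x ∈ normalizer ((E : Subgroup G) : Set G), u * x * u⁻¹ ∈ normalizer ((E : Subgroup G) : Set G) →
        ¬ r ∣ orderOf x → x ∈ KD) ∧
      ∀ x ∈ KD, u * x * u⁻¹ = x⁻¹ := by
  classical
  set M := normalizer ((E : Subgroup G) : Set G) with hMdef
  obtain ⟨hNM, hMN, hNcard⟩ := d.sup_facts
  set N := (E : Subgroup G) ⊔ K with hNdef
  have hr := d.ctx.spec.prime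
  -- elements of `N(E)` of order prime to `r`
  haveI hNn : (N.subgroupOf M).Normal := (normal_subgroupOf_iff_le_normalizer hNM).2 hMN
  have hindex : (N.subgroupOf M).index = r := by
    have h1 := (N.subgroupOf M).card_mul_index
    rw [Nat.card_congr (subgroupOfEquivOfLe hNM).toEquiv, hNcard, d.card_M, mul_assoc] at h1
    exact Nat.eq_of_mul_eq_mul_left Nat.card_pos (Nat.eq_of_mul_eq_mul_left Nat.card_pos h1)
  have hmemN : ∀ x ∈ M, ¬ r ∣ orderOf x → x ∈ N := by
    intro x hx hxr
    have h1 : QuotientGroup.mk' (N.subgroupOf M) ⟨x, hx⟩ = 1 := by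
      refine orderOf_eq_one_iff.1 (Nat.eq_one_of_dvd_coprimes (hr.coprime_iff_not_dvd.2 hxr)
        ?_ ((orderOf_map_dvd _ _).trans (Subgroup.orderOf_mk x hx).dvd))
      rw [← hindex, Subgroup.index_eq_card]
      exact orderOf_dvd_natCard _
    exact mem_subgroupOf.1 ((QuotientGroup.eq_one_iff _).1 h1)
  -- the two-point stabilizer
  set D := M ⊓ M.map (MulAut.conj u).toMonoidHom with hD
  have hmemD : ∀ x : G, x ∈ D ↔ x ∈ M ∧ u * x * u⁻¹ ∈ M := fun x => by
    rw [hD, mem_inf, mem_map_equiv, MulAut.conj_symm_apply, Invol.invol_inv hu]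
  have hDodd : Odd (Nat.card D) := d.ctx.se.2.2 u huM
  have linD : Lin G r (E : Subgroup G) D :=
    { spec := d.ctx.spec
      sq := d.ctx.sq
      le := inf_le_left
      odd := hDodd
      faith := eq_bot_iff.2 fun x hx => d.x_bot ▸
        d.ctx.mem_x_of_centralizes (odd_orderOf_of_mem hDodd hx.1) hx.2
      trans := fun a ha ha1 b hb hb1 =>
        Invol.transitive_two_point d.ctx.se (orderOf_of_sq (d.ctx.sq a ha) ha1) (le_normalizer ha)
          (le_normalizer hb) (orderOf_of_sq (d.ctx.sq b hb) hb1)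
      large := lt_of_lt_of_le (by norm_num) d.ctx.large }
  obtain ⟨a0, ha0, ha01⟩ := d.ctx.exists_invol
  have hdvd : Nat.card K ∣ Nat.card D := by
    have h1 := linD.orbit_card ha0 ha01
    rw [← d.succ, Nat.add_sub_cancel] at h1
    exact h1 ▸ index_dvd_card _
  -- its part prime to `r`
  have hKDr : ¬ r ∣ Nat.card (D ⊓ N : Subgroup G) := fun h => by
    have h1 := h.trans (card_dvd_of_le inf_le_right)
    rw [hNcard] at h1
    rcases hr.dvd_mul.1 h1 with h2 | h2
    · rw [d.pow] at h2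
      exact d.ctx.spec.ne_two ((Nat.prime_dvd_prime_iff_eq hr Nat.prime_two).1 (hr.dvd_of_dvd_pow h2))
    · exact d.coprime h2
  have hcard : Nat.card (D ⊓ N : Subgroup G) = Nat.card K := by
    refine Nat.dvd_antisymm (d.dvd_card_K (inf_le_left.trans inf_le_left)
      (hDodd.of_dvd_nat (card_dvd_of_le inf_le_left)) hKDr) ?_
    let φ : D →* M ⧸ N.subgroupOf M :=
      (QuotientGroup.mk' (N.subgroupOf M)).comp (inclusion inf_le_left)
    have hker : φ.ker = (D ⊓ N).subgroupOf D := by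
      ext x
      simp [φ, MonoidHom.mem_ker, mem_subgroupOf, x.2]
    have h1 := φ.ker.card_mul_index
    rw [hker, Nat.card_congr (subgroupOfEquivOfLe (inf_le_left : D ⊓ N ≤ D)).toEquiv, ← hker,
      Subgroup.index_ker] at h1
    have h2 : Nat.card φ.range ∣ r := by
      rw [← hindex, Subgroup.index_eq_card]
      exact card_subgroup_dvd_card _
    rw [← h1] at hdvd
    exact (Nat.Coprime.coprime_dvd_right h2
      (hr.coprime_iff_not_dvd.2 d.coprime).symm).dvd_of_dvd_mul_right hdvd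
  have hiff : ∀ x, x ∈ D ⊓ N ↔ x ∈ D ∧ ¬ r ∣ orderOf x := fun x =>
    ⟨fun hx => ⟨hx.1, fun h => d.coprime (h.trans (hcard ▸ Subgroup.orderOf_dvd_natCard _ hx))⟩,
      fun hx => ⟨hx.1, hmemN x hx.1.1 hx.2⟩⟩
  have hstable : ∀ x, x ∈ D ⊓ N → u * x * u⁻¹ ∈ D ⊓ N := fun x hx => by
    rw [hiff] at hx ⊢
    refine ⟨(hmemD _).2 ⟨((hmemD x).1 hx.1).2, ?_⟩, by rw [CIT.orderOf_conj_eq]; exact hx.2⟩
    rw [show u * (u * x * u⁻¹) * u⁻¹ = (u * u) * x * (u * u)⁻¹ by group, Invol.invol_mul_self hu]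
    simpa using ((hmemD x).1 hx.1).1
  refine ⟨D ⊓ N, inf_le_left.trans inf_le_left, fun x hx => ((hmemD x).1 hx.1).2, hcard, inf_le_right,
    fun x hx hxu hxr => (hiff x).2 ⟨(hmemD x).2 ⟨hx, hxu⟩, hxr⟩, ?_⟩
  let ψ : (D ⊓ N : Subgroup G) →* (D ⊓ N : Subgroup G) :=
    MonoidHom.mk' (fun x => ⟨u * x * u⁻¹, hstable x x.2⟩) fun x y => Subtype.ext (by simp [mul_assoc])
  have hψ : MonoidHom.FixedPointFree ψ := fun x hx => Subtype.ext (by
    have h1 : u * (x : G) = x * u := mul_inv_eq_iff_eq_mul.1 (congrArg Subtype.val hx)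
    rcases d.ctx.spec.invol_pair hu (odd_orderOf_of_mem hDodd x.2.1) h1 with e | e
    · exact e
    · exact absurd e.symm.dvd ((hiff x).1 x.2).2)
  have hinvo : Function.Involutive ψ := fun x => Subtype.ext (by
    show u * (u * (x : G) * u⁻¹) * u⁻¹ = x
    rw [show u * (u * (x : G) * u⁻¹) * u⁻¹ = (u * u) * x * (u * u)⁻¹ by group,
      Invol.invol_mul_self hu, one_mul, inv_one, mul_one])
  intro x hx
  exact congrArg Subtype.val (congrFun (hψ.coe_eq_inv_of_involutive hinvo) ⟨x, hx⟩)

/-- The fixed points of an element of a two-point stabilizer of order prime to `r`. -/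
theorem Reg.fixed_two (d : Reg G r E L K) {u : G} (hu : orderOf u = 2)
    (huM : u ∉ normalizer ((E : Subgroup G) : Set G)) {k : G}
    (hk : k ∈ normalizer ((E : Subgroup G) : Set G))
    (huk : u * k * u⁻¹ = k⁻¹) (hkr : ¬ r ∣ orderOf k) (hkodd : Odd (orderOf k)) (hk1 : k ≠ 1) :
    ∀ q : G ⧸ normalizer ((E : Subgroup G) : Set G), k • q = q →
      q = ((1 : G) : G ⧸ normalizer ((E : Subgroup G) : Set G)) ∨
      q = u • ((1 : G) : G ⧸ normalizer ((E : Subgroup G) : Set G)) := by
  classical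
  set M := normalizer ((E : Subgroup G) : Set G) with hMdef
  set o : G ⧸ M := ((1 : G) : G ⧸ M) with ho
  have hfix : ∀ {m : G}, m • o = o ↔ m ∈ M := fun {m} => Invol.fixed_one_iff
  set C := centralizer ({k} : Set G) with hCdef
  set F : Set (G ⧸ M) := {q | k • q = q} with hF
  have hkinv : ∀ q ∈ F, k⁻¹ • q = q := fun q (hq : k • q = q) => inv_smul_eq_iff.2 hq.symm
  -- an inverting involution has no fixed point in `F`
  have hfpf : ∀ i : G, orderOf i = 2 → i * k * i⁻¹ = k⁻¹ → ∀ q ∈ F, i • q ≠ q := by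
    intro i hi hik q hq hiq
    obtain ⟨g, rfl⟩ := MulAction.exists_smul_eq G o q
    have hi' : g⁻¹ * i * g ∈ M := hfix.1 (by rw [mul_smul, mul_smul, hiq, inv_smul_smul])
    have hk' : g⁻¹ * k * g ∈ M := hfix.1 (by
      rw [mul_smul, mul_smul, show k • g • o = g • o from hq, inv_smul_smul])
    have hiE : g⁻¹ * i * g ∈ (E : Subgroup G) := d.ctx.invol_mem hi' (by
      rw [show g⁻¹ * i * g = g⁻¹ * i * g⁻¹⁻¹ by group, CIT.orderOf_conj_eq, hi])
    have h2 : (g⁻¹ * k * g) * (g⁻¹ * k * g) ∈ (E : Subgroup G) := by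
      have h3 := mul_mem ((mem_normalizer_iff.1 hk' _).1 hiE) (inv_mem hiE)
      rwa [show g⁻¹ * k * g * (g⁻¹ * i * g) * (g⁻¹ * k * g)⁻¹ * (g⁻¹ * i * g)⁻¹ =
        g⁻¹ * (k * (i * k * i⁻¹)⁻¹) * g by group, hik, inv_inv,
        show g⁻¹ * (k * k) * g = (g⁻¹ * k * g) * (g⁻¹ * k * g) by group] at h3
    have hodd : Odd (orderOf (g⁻¹ * k * g)) := by
      rwa [show g⁻¹ * k * g = g⁻¹ * k * g⁻¹⁻¹ by group, CIT.orderOf_conj_eq]
    have h3 : (g⁻¹ * k * g) * (g⁻¹ * k * g) = 1 := by
      refine eq_one_of_sq_of_odd ?_ (d.ctx.sq _ h2)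
      rw [← pow_two]
      exact hodd.of_dvd_nat (orderOf_pow_dvd 2)
    have h4 := eq_one_of_sq_of_odd hodd h3
    exact hk1 (by
      have : k = g * (g⁻¹ * k * g) * g⁻¹ := by group
      rw [this, h4, mul_one, mul_inv_cancel])
  have hoF : o ∈ F := hfix.2 hk
  have huoF : u • o ∈ F := by
    show k • u • o = u • o
    rw [← mul_smul, show k * u = u * k⁻¹ by
      rw [← huk, show u * (u * k * u⁻¹) = (u * u) * (k * u⁻¹) by group, Invol.invol_mul_self hu,
        one_mul, Invol.invol_inv hu], mul_smul, hkinv o hoF]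
  have huo : u • o ≠ o := fun e => huM (hfix.1 e)
  -- the orbit of `C(k)`
  set O : Set (G ⧸ M) := MulAction.orbit C o with hOdef
  have hOF : O ⊆ F := by
    rintro _ ⟨c, rfl⟩
    show k • (c : G) • o = (c : G) • o
    rw [← mul_smul, ← mem_centralizer_singleton_iff.1 c.2, mul_smul, hfix.2 hk]
  have hCodd : Odd (Nat.card C) := by
    by_contra h
    rw [Nat.not_odd_iff_even] at h
    obtain ⟨t, ht, hto⟩ := Invol.exists_invol_mem h
    exact absurd (d.ctx.spec.commutes_prime_to hkodd hkr hk1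
      (mem_centralizer_singleton_iff.1 ht).symm).1 (by rw [hto]; decide)
  have hOcard : O.ncard * Nat.card (MulAction.stabilizer C o) = Nat.card C := by
    rw [← MulAction.index_stabilizer C o]
    exact index_mul_card _
  have hOodd : Odd O.ncard := hCodd.of_dvd_nat ⟨_, hOcard.symm⟩
  have hstab : Nat.card (MulAction.stabilizer C o) ≤ Nat.card K := by
    have h1 : Nat.card (C ⊓ M : Subgroup G) ∣ Nat.card K := by
      refine d.dvd_card_K inf_le_right (hCodd.of_dvd_nat (card_dvd_of_le inf_le_left)) fun h => ?_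
      haveI : Fact r.Prime := ⟨d.ctx.spec.prime⟩
      obtain ⟨y, hy⟩ := exists_prime_orderOf_dvd_card' r h
      rw [← Subgroup.orderOf_coe] at hy
      exact (d.ctx.spec.commutes_prime_to hkodd hkr hk1
        (mem_centralizer_singleton_iff.1 y.2.1).symm).2 hy.symm.dvd
    refine le_trans (Nat.card_le_card_of_injective (fun c : MulAction.stabilizer C o =>
      (⟨((c : C) : G), (c : C).2, hfix.1 (MulAction.mem_stabilizer_iff.1 c.2)⟩ : (C ⊓ M : Subgroup G)))
      fun a b e => Subtype.ext (Subtype.ext (congrArg (fun z : (C ⊓ M : Subgroup G) => (z : G)) e)))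
      (Nat.le_of_dvd Nat.card_pos h1)
  -- the two orbits are interchanged
  have hunorm : ∀ c : C, u * (c : G) * u⁻¹ ∈ C := by
    intro c
    refine mem_centralizer_singleton_iff.2 ?_
    have e1 : k = u * k⁻¹ * u⁻¹ := by
      rw [← inv_inj]
      simp only [mul_inv_rev, inv_inv]
      rw [← mul_assoc, huk]
    have e2 : (c : G) * k⁻¹ = k⁻¹ * c :=
      (show Commute (c : G) k from mem_centralizer_singleton_iff.1 c.2).inv_right.eq
    calc u * (c : G) * u⁻¹ * k = u * (c : G) * u⁻¹ * (u * k⁻¹ * u⁻¹) := by rw [← e1]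
      _ = u * (c * k⁻¹) * u⁻¹ := by group
      _ = u * k⁻¹ * u⁻¹ * (u * c * u⁻¹) := by rw [e2]; group
      _ = k * (u * (c : G) * u⁻¹) := by rw [← e1]
  have hdisj : Disjoint O ((u • ·) '' O) := by
    rw [Set.disjoint_left]
    rintro q hq ⟨q', hq', rfl⟩
    obtain ⟨c, rfl⟩ := hq'
    -- `u • o` lies in the orbit
    have h1 : u • o ∈ O := by
      have h2 : (⟨_, hunorm c⟩ : C) • (u • o) ∈ O := by
        show (u * (c : G) * u⁻¹) • u • o ∈ O
        rw [mul_smul, inv_smul_smul, mul_smul]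
        exact hq
      have h3 := MulAction.mem_orbit_of_mem_orbit (⟨_, hunorm c⟩ : C)⁻¹ h2
      rwa [inv_smul_smul] at h3
    have hu' : ∀ z ∈ O, u • z ∈ O := by
      rintro _ ⟨c', rfl⟩
      show u • (c' : G) • o ∈ O
      rw [← mul_smul, show u * (c' : G) = u * c' * u⁻¹ * u by group, mul_smul]
      exact MulAction.mem_orbit_of_mem_orbit (⟨_, hunorm c'⟩ : C) h1
    let σ : Equiv.Perm O :=
      { toFun := fun z => ⟨u • z.1, hu' z z.2⟩
        invFun := fun z => ⟨u • z.1, hu' z z.2⟩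
        left_inv := fun z => Subtype.ext (Invol.invol_smul_smul hu _)
        right_inv := fun z => Subtype.ext (Invol.invol_smul_smul hu _) }
    haveI : Fact (Nat.Prime 2) := ⟨Nat.prime_two⟩
    obtain ⟨z, hz⟩ := exists_fixed_of_not_dvd (p := 2) σ
      (Equiv.ext fun z => by
        rw [pow_two]
        exact Subtype.ext (Invol.invol_smul_smul hu _))
      (by rw [Nat.card_coe_set_eq]; exact Nat.two_dvd_ne_zero.2 (Nat.odd_iff.1 hOodd))
    exact hfpf u hu huk z (hOF z.2) (congrArg Subtype.val hz)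
  have h2O : 2 * O.ncard ≤ F.ncard := by
    have h1 : O ∪ (u • ·) '' O ⊆ F := by
      refine Set.union_subset hOF ?_
      rintro _ ⟨z, hz, rfl⟩
      show k • u • z = u • z
      rw [← mul_smul, show k * u = u * k⁻¹ by
        rw [← huk, show u * (u * k * u⁻¹) = (u * u) * (k * u⁻¹) by group, Invol.invol_mul_self hu,
          one_mul, Invol.invol_inv hu], mul_smul, hkinv z (hOF hz)]
    refine le_trans (le_of_eq ?_) (Set.ncard_le_ncard h1)
    rw [Set.ncard_union_eq hdisj, Set.ncard_image_of_injective _ (MulAction.injective u)]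
    omega
  -- the inverting involutions
  have hswap : ∀ q : {q // q ∈ F \ {o}},
      Nat.card {i : G // orderOf i = 2 ∧ i • o = q.1} = Nat.card K := fun q => by
    rw [Cfsg.Agent.S1224.result M d.ctx.se o q.1 (fun e => q.2.2 e.symm), d.ctx.card_invol, ← d.succ,
      Nat.add_sub_cancel]
  have hinvert : ∀ q : {q // q ∈ F \ {o}}, ∀ i : {i : G // orderOf i = 2 ∧ i • o = q.1},
      i.1 * k * i.1⁻¹ = k⁻¹ := by
    intro q i
    have hiM : i.1 ∉ M := fun h => q.2.2 (i.2.2.symm.trans (hfix.2 h))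
    obtain ⟨KD, -, -, -, -, hmem, hinv⟩ := d.two_point i.2.1 hiM
    refine hinv k (hmem k hk (hfix.1 ?_) hkr)
    have h1 : i.1 • q.1 = o :=
      (congrArg (i.1 • ·) i.2.2.symm).trans (Invol.invol_smul_smul i.2.1 o)
    rw [mul_smul, mul_smul, Invol.invol_inv i.2.1, i.2.2, show k • q.1 = q.1 from q.2.1, h1]
  have hcount : (F \ {o}).ncard * Nat.card K ≤ Nat.card C := by
    haveI : Fintype {q // q ∈ F \ {o}} := Fintype.ofFinite _
    have h1 : Nat.card (Σ q : {q // q ∈ F \ {o}}, {i : G // orderOf i = 2 ∧ i • o = q.1}) ≤ Nat.card C := by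
      refine Nat.card_le_card_of_injective (fun p => (⟨u * p.2.1, mem_centralizer_singleton_iff.2 ?_⟩ : C)) ?_
      · have e1 : p.2.1 * k = k⁻¹ * p.2.1 := mul_inv_eq_iff_eq_mul.1 (hinvert p.1 p.2)
        have e2 : u * k⁻¹ = k * u := by
          rw [← huk, show u * (u * k * u⁻¹) = (u * u) * (k * u⁻¹) by group, Invol.invol_mul_self hu,
            one_mul, Invol.invol_inv hu]
        calc u * p.2.1 * k = u * k⁻¹ * p.2.1 := by rw [mul_assoc, e1, ← mul_assoc]
          _ = k * (u * p.2.1) := by rw [e2, mul_assoc]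
      · rintro ⟨q, i⟩ ⟨q', i'⟩ e
        have e' : i.1 = i'.1 := mul_left_cancel (congrArg Subtype.val e)
        obtain rfl : q = q' := Subtype.ext (by rw [← i.2.2, e', i'.2.2])
        rw [Subtype.ext e']
    rw [Nat.card_sigma, Finset.sum_congr rfl fun q _ => hswap q, Finset.sum_const, smul_eq_mul,
      Finset.card_univ, ← Nat.card_eq_fintype_card] at h1
    rw [← Nat.card_coe_set_eq]
    exact h1
  have hF2 : F.ncard ≤ 2 := by
    have h1 : (F \ {o}).ncard ≤ O.ncard := by
      refine Nat.le_of_mul_le_mul_right (hcount.trans ?_) Nat.card_pos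
      rw [← hOcard]
      exact Nat.mul_le_mul_left _ hstab
    rw [Set.ncard_diff_singleton_of_mem hoF] at h1
    omega
  intro q hq
  by_contra hcon
  push Not at hcon
  have h1 : ({o, u • o, q} : Set (G ⧸ M)) ⊆ F := by
    rintro z (rfl | rfl | rfl)
    exacts [hoF, huoF, hq]
  have h2 : ({o, u • o, q} : Set (G ⧸ M)).ncard = 3 :=
    Set.ncard_eq_three.2 ⟨o, u • o, q, huo.symm, hcon.1.symm, hcon.2.symm, rfl⟩
  have := Set.ncard_le_ncard h1
  omega

/-- The cosets other than the base one form a regular orbit of `E`. -/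
theorem Reg.torsor (d : Reg G r E L K) :
    Nat.card (G ⧸ normalizer ((E : Subgroup G) : Set G)) = Nat.card (E : Subgroup G) + 1 ∧
    ∀ p q : G ⧸ normalizer ((E : Subgroup G) : Set G),
      p ≠ ((1 : G) : G ⧸ normalizer ((E : Subgroup G) : Set G)) →
      q ≠ ((1 : G) : G ⧸ normalizer ((E : Subgroup G) : Set G)) →
      ∃ e ∈ (E : Subgroup G), e • p = q ∧ ∀ e' ∈ (E : Subgroup G), e' • p = q → e' = e := by
  classical
  set M := normalizer ((E : Subgroup G) : Set G) with hMdef
  set o : G ⧸ M := ((1 : G) : G ⧸ M) with ho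
  have hfix : ∀ {m : G}, m • o = o ↔ m ∈ M := fun {m} => Invol.fixed_one_iff
  obtain ⟨hNM, -, hNcard⟩ := d.sup_facts
  have hu : ∀ q : {q : G ⧸ M // q ≠ o}, ∃ u : G, orderOf u = 2 ∧ u • o = q.1 := by
    intro q
    have h := Cfsg.Agent.S1224.result M d.ctx.se o q.1 q.2.symm
    rw [d.ctx.card_invol, ← d.succ, Nat.add_sub_cancel] at h
    obtain ⟨⟨u, hu⟩⟩ := (Nat.card_pos_iff.1 (h ▸ lt_of_lt_of_le (by norm_num) d.large)).1
    exact ⟨u, hu⟩
  choose u hu huo using hu
  have huM : ∀ q, u q ∉ M := fun q h => q.2 ((huo q).symm.trans (hfix.2 h))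
  choose KD hKDM hKDu hKDcard hKDN hKDmem hKDinv using fun q => d.two_point (hu q) (huM q)
  haveI : Fintype {q : G ⧸ M // q ≠ o} := Fintype.ofFinite _
  -- the disjoint parts
  have hKodd : Odd (Nat.card K) := d.compl.odd.of_dvd_nat (card_dvd_of_le d.le)
  have hle : Nat.card {q : G ⧸ M // q ≠ o} ≤ Nat.card (E : Subgroup G) := by
    have h1 : Nat.card (Σ q : {q : G ⧸ M // q ≠ o}, {x : G // x ∈ KD q ∧ x ≠ 1}) ≤
        Nat.card {x : ((E : Subgroup G) ⊔ K : Subgroup G) // (x : G) ∉ (E : Subgroup G)} := by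
      refine Nat.card_le_card_of_injective (fun p => ⟨⟨p.2.1, hKDN p.1 p.2.2.1⟩, fun h => p.2.2.2 ?_⟩) ?_
      · exact disjoint_sq_odd d.ctx.sq (hKDcard p.1 ▸ hKodd) h p.2.2.1
      · rintro ⟨q, x⟩ ⟨q', x'⟩ e
        have e' : x.1 = x'.1 := congrArg (fun z => ((z.1 : ((E : Subgroup G) ⊔ K : Subgroup G)) : G)) e
        obtain rfl : q = q' := by
          have hxM : x.1 ∈ M := hKDM q x.2.1
          have hfixed : x.1 • q'.1 = q'.1 := by
            rw [← huo q', ← mul_smul, show x.1 * u q' = u q' * (u q' * x.1 * (u q')⁻¹) by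
              rw [show u q' * (u q' * x.1 * (u q')⁻¹) = u q' * u q' * (x.1 * (u q')⁻¹) by group,
                Invol.invol_mul_self (hu q'), one_mul, Invol.invol_inv (hu q')], mul_smul,
              hfix.2 (hKDu q' x.1 (e' ▸ x'.2.1))]
          have hord : orderOf x.1 ∣ Nat.card K := hKDcard q ▸ Subgroup.orderOf_dvd_natCard _ x.2.1
          rcases d.fixed_two (hu q) (huM q) hxM (hKDinv q x.1 x.2.1) (fun h => d.coprime (h.trans hord))
            (hKodd.of_dvd_nat hord) x.2.2 q'.1 hfixed with h | h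
          · exact absurd h q'.2
          · exact Subtype.ext ((huo q).symm.trans h.symm)
        rw [Subtype.ext e']
    rw [Nat.card_sigma, Finset.sum_congr rfl fun q _ => (nat_card_ne_one (KD q)).trans
      (by rw [hKDcard q]), Finset.sum_const, smul_eq_mul, Finset.card_univ, ← Nat.card_eq_fintype_card]
      at h1
    have h2 : Nat.card {x : ((E : Subgroup G) ⊔ K : Subgroup G) // (x : G) ∉ (E : Subgroup G)} =
        Nat.card (E : Subgroup G) * (Nat.card K - 1) := by
      have h3 : Nat.card {x : ((E : Subgroup G) ⊔ K : Subgroup G) // (x : G) ∈ (E : Subgroup G)} =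
          Nat.card (E : Subgroup G) :=
        Nat.card_congr
          { toFun := fun x => ⟨_, x.2⟩
            invFun := fun x => ⟨⟨x.1, mem_sup_left x.2⟩, x.2⟩
            left_inv := fun _ => rfl
            right_inv := fun _ => rfl }
      have h4 := Nat.card_congr (Equiv.sumCompl
        fun x : ((E : Subgroup G) ⊔ K : Subgroup G) => (x : G) ∈ (E : Subgroup G))
      rw [Nat.card_sum, h3, hNcard] at h4
      rw [Nat.mul_sub, mul_one]
      omega
    rw [h2] at h1
    exact Nat.le_of_mul_le_mul_right h1 (by have := d.large; omega)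
  have hsemi : ∀ p : G ⧸ M, p ≠ o → ∀ e ∈ (E : Subgroup G), e • p = p → e = 1 := by
    intro p hp e he hep
    by_contra he1
    exact hp (Invol.fixed_unique d.ctx.se (orderOf_of_sq (d.ctx.sq e he) he1) hep
      (hfix.2 (le_normalizer he)))
  have hbij : ∀ p : {q : G ⧸ M // q ≠ o}, Function.Bijective (fun e : (E : Subgroup G) =>
      (⟨(e : G) • p.1, fun h => p.2 (by
        rw [← inv_smul_smul (e : G) p.1, h, hfix.2 (le_normalizer (inv_mem e.2))])⟩ :
        {q : G ⧸ M // q ≠ o})) := by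
    intro p
    have hinj : Function.Injective (fun e : (E : Subgroup G) =>
      (⟨(e : G) • p.1, fun h => p.2 (by
        rw [← inv_smul_smul (e : G) p.1, h, hfix.2 (le_normalizer (inv_mem e.2))])⟩ :
        {q : G ⧸ M // q ≠ o})) := by
      intro e e' h
      have h1 : (e : G) • p.1 = (e' : G) • p.1 := congrArg Subtype.val h
      have h2 := hsemi p.1 p.2 _ ((E : Subgroup G).mul_mem ((E : Subgroup G).inv_mem e'.2) e.2)
        (by rw [mul_smul, h1, inv_smul_smul])
      exact (Subtype.ext (inv_mul_eq_one.1 h2)).symm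
    exact (Nat.bijective_iff_injective_and_card _).2
      ⟨hinj, le_antisymm (Nat.card_le_card_of_injective _ hinj) hle⟩
  refine ⟨?_, fun p q hp hq => ?_⟩
  · obtain ⟨g, hg⟩ : ∃ g : G, g ∉ M := by
      by_contra h
      push Not at h
      exact d.ctx.se.1 (eq_top_iff.2 fun x _ => h x)
    have h1 : Nat.card {q : G ⧸ M // q ≠ o} = Nat.card (E : Subgroup G) :=
      (Nat.card_congr (Equiv.ofBijective _ (hbij ⟨g • o, fun h => hg (hfix.1 h)⟩))).symm
    have h4 := Nat.card_congr (Equiv.sumCompl fun q : G ⧸ M => q = o)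
    rw [Nat.card_sum, h1, Nat.card_unique] at h4
    omega
  · obtain ⟨⟨e, he⟩, h⟩ := (hbij ⟨p, hp⟩).2 ⟨q, hq⟩
    refine ⟨e, he, congrArg Subtype.val h, fun e' he' h' => ?_⟩
    exact congrArg Subtype.val ((hbij ⟨p, hp⟩).1 (a₁ := ⟨e', he'⟩) (a₂ := ⟨e, he⟩)
      (Subtype.ext (h'.trans (congrArg Subtype.val h).symm)))

/-- The linear group cannot have order `(q - 1) r`. -/
theorem Reg.false (d : Reg G r E L K) : False := by
  classical
  haveI := d.ctx.simple
  have hr := d.ctx.spec.prime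
  haveI : Fact r.Prime := ⟨hr⟩
  set M := normalizer ((E : Subgroup G) : Set G) with hMdef
  set o : G ⧸ M := ((1 : G) : G ⧸ M) with ho
  have hfix : ∀ {m : G}, m • o = o ↔ m ∈ M := fun {m} => Invol.fixed_one_iff
  obtain ⟨hn, htor⟩ := d.torsor
  obtain ⟨l, hl⟩ := exists_prime_orderOf_dvd_card' (G := L) r (d.card ▸ dvd_mul_left r _)
  rw [← Subgroup.orderOf_coe] at hl
  obtain ⟨x, hx, hx1⟩ := exists_mem_ne_one ((d.fix l l.2 hl).symm ▸ one_lt_two)
  have hxl : (l : G) * x = x * l := (mem_centralizer_singleton_iff.1 hx.2).symm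
  have hxo := orderOf_of_sq (d.ctx.sq x hx.1) hx1
  have honly : ∀ e ∈ (E : Subgroup G), (l : G) * e = e * l → e = 1 ∨ e = x := by
    intro e he hel
    by_contra hcon
    push Not at hcon
    have h3 : ({1, x, e} : Set G).ncard ≤ 2 := by
      rw [← d.fix l l.2 hl]
      refine le_trans (Set.ncard_le_ncard (t := (((E : Subgroup G) ⊓ centralizer ({(l : G)} : Set G) :
        Subgroup G) : Set G)) ?_) (le_of_eq (Nat.card_coe_set_eq _).symm)
      rintro z (rfl | rfl | rfl)
      exacts [one_mem _, hx, ⟨he, mem_centralizer_singleton_iff.2 hel.symm⟩]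
    rw [Set.ncard_eq_three.2 ⟨1, x, e, hx1.symm, hcon.1.symm, hcon.2.symm, rfl⟩] at h3
    omega
  -- a second fixed point
  have hlo : (l : G) • o = o := hfix.2 (d.compl.le l.2)
  have hlstab : ∀ q : G ⧸ M, q ≠ o → (l : G) • q ≠ o := fun q hq h => hq (by
    rwa [← hlo, smul_left_cancel_iff] at h)
  obtain ⟨p, hp⟩ : ∃ p : {q : G ⧸ M // q ≠ o}, (l : G) • p.1 = p.1 := by
    let f : {q : G ⧸ M // q ≠ o} → {q : G ⧸ M // q ≠ o} := fun q => ⟨(l : G) • q.1, hlstab q q.2⟩
    let σ : Equiv.Perm {q : G ⧸ M // q ≠ o} :=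
      { toFun := f
        invFun := fun q => ⟨(l : G)⁻¹ • q.1, fun h => q.2 (by
          rw [inv_smul_eq_iff, hlo] at h; exact h)⟩
        left_inv := fun q => Subtype.ext (inv_smul_smul _ _)
        right_inv := fun q => Subtype.ext (smul_inv_smul _ _) }
    have hpow : ∀ (n : ℕ) (q : {q : G ⧸ M // q ≠ o}), ((σ ^ n) q).1 = (l : G) ^ n • q.1 := by
      intro n
      induction n with
      | zero => intro q; rw [pow_zero, pow_zero, one_smul]; rfl
      | succ n ih => intro q; rw [pow_succ', pow_succ', Equiv.Perm.mul_apply, mul_smul, ← ih]; rfl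
    obtain ⟨q, hq⟩ := exists_fixed_of_not_dvd (p := r) σ (Equiv.ext fun q => Subtype.ext (by
      rw [hpow, ← hl, pow_orderOf_eq_one, one_smul]; rfl)) (by
      have h4 := Nat.card_congr (Equiv.sumCompl fun q : G ⧸ M => q = o)
      rw [Nat.card_sum, Nat.card_unique, hn] at h4
      rw [show Nat.card {q : G ⧸ M // q ≠ o} = Nat.card (E : Subgroup G) from
        Nat.add_left_cancel (h4.trans (Nat.add_comm _ 1)), d.pow]
      exact fun h => d.ctx.spec.ne_two ((Nat.prime_dvd_prime_iff_eq hr Nat.prime_two).1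
        (hr.dvd_of_dvd_pow h)))
    exact ⟨q, congrArg Subtype.val hq⟩
  have hpfix : ∀ q : G ⧸ M, q ≠ o → (l : G) • q = q → q = p.1 ∨ q = x • p.1 := by
    intro q hq hlq
    obtain ⟨e, he, hep, huniq⟩ := htor p.1 q p.2 hq
    have h1 : (l : G) * e * (l : G)⁻¹ = e := by
      refine huniq _ ((mem_normalizer_iff.1 (d.compl.le l.2) e).1 he) ?_
      rw [mul_smul, mul_smul, inv_smul_eq_iff.2 hp.symm, hep, hlq]
    rcases honly e he (mul_inv_eq_iff_eq_mul.1 h1) with h | h
    · exact Or.inl (by rw [← hep, h, one_smul])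
    · exact Or.inr (by rw [← hep, h])
  -- the involution fixing it
  obtain ⟨g, hg⟩ := MulAction.exists_smul_eq G o p.1
  have hl'M : g⁻¹ * (l : G) * g ∈ M := hfix.1 (by rw [mul_smul, mul_smul, hg, hp, ← hg, inv_smul_smul])
  obtain ⟨y, hy, hy1, hyl⟩ : ∃ y ∈ (E : Subgroup G), y ≠ 1 ∧
      g⁻¹ * (l : G) * g * y * (g⁻¹ * (l : G) * g)⁻¹ = y := by
    set m := g⁻¹ * (l : G) * g with hm
    have hmo : orderOf m = r := by
      rw [hm, show g⁻¹ * (l : G) * g = g⁻¹ * l * g⁻¹⁻¹ by group, CIT.orderOf_conj_eq, hl]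
    let σ : Equiv.Perm {e : G // e ∈ (E : Subgroup G) ∧ e ≠ 1} :=
      (MulAut.conj m).toEquiv.subtypeEquiv fun e => by
        show _ ↔ m * e * m⁻¹ ∈ (E : Subgroup G) ∧ m * e * m⁻¹ ≠ 1
        exact and_congr (mem_normalizer_iff.1 hl'M e) (not_congr conj_eq_one_iff.symm)
    have hpow : ∀ (n : ℕ) (e : {e : G // e ∈ (E : Subgroup G) ∧ e ≠ 1}),
        ((σ ^ n) e).1 = m ^ n * e.1 * (m ^ n)⁻¹ := by
      intro n
      induction n with
      | zero => intro e; simp
      | succ n ih =>
        intro e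
        rw [pow_succ', pow_succ', Equiv.Perm.mul_apply]
        show m * ((σ ^ n) e).1 * m⁻¹ = _
        rw [ih]
        group
    obtain ⟨e, he⟩ := exists_fixed_of_not_dvd (p := r) σ (Equiv.ext fun e => Subtype.ext (by
      rw [hpow, ← hmo, pow_orderOf_eq_one, one_mul, inv_one, mul_one]; rfl)) (by
      rw [nat_card_ne_one, ← d.succ, Nat.add_sub_cancel]
      exact d.coprime)
    exact ⟨e.1, e.2.1, e.2.2, congrArg Subtype.val he⟩
  set b := g * y * g⁻¹ with hb
  have hbo : orderOf b = 2 := by rw [hb, CIT.orderOf_conj_eq, orderOf_of_sq (d.ctx.sq y hy) hy1]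
  have hbp : b • p.1 = p.1 := by
    rw [← hg, hb, Invol.conj_fixes, hfix]
    exact le_normalizer hy
  have hbl : b * (l : G) = (l : G) * b := by
    have h1 := mul_inv_eq_iff_eq_mul.1 hyl
    calc b * (l : G) = g * (y * (g⁻¹ * (l : G) * g)) * g⁻¹ := by rw [hb]; group
      _ = g * (g⁻¹ * (l : G) * g * y) * g⁻¹ := by rw [h1]
      _ = (l : G) * b := by rw [hb]; group
  have hxo' : x • o = o := hfix.2 (le_normalizer hx.1)
  have hbne : b • o ≠ o := fun h => p.2 (Invol.fixed_unique d.ctx.se hbo hbp h)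
  have hxp : x • p.1 ≠ p.1 := fun h => p.2 (Invol.fixed_unique d.ctx.se hxo h hxo')
  have hbox : b • o = x • p.1 := by
    rcases hpfix (b • o) hbne (by rw [← mul_smul, ← hbl, mul_smul, hlo]) with h | h
    · exact absurd (by rw [← hbp, smul_left_cancel_iff] at h; exact h) p.2.symm
    · exact h
  set c := x * b with hc
  have hc1 : c • o = p.1 := by rw [hc, mul_smul, hbox, Invol.invol_smul_smul hxo]
  have hc2 : c • p.1 = x • p.1 := by rw [hc, mul_smul, hbp]
  have hc3 : c • (x • p.1) = o := by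
    rw [hc, mul_smul, ← hbox, Invol.invol_smul_smul hbo, hxo']
  have h3 : 3 ∣ orderOf c := by
    have hcube : (c ^ 3) • o = o := by
      rw [pow_succ, pow_succ, pow_one, mul_smul, mul_smul, hc1, hc2, hc3]
    have hmul : ∀ j, (c ^ (3 * j)) • o = o := by
      intro j
      induction j with
      | zero => simp
      | succ j ih => rw [mul_add, mul_one, pow_add, mul_smul, hcube, ih]
    have hmod : (c ^ (orderOf c % 3)) • o = o := by
      have h1 := pow_orderOf_eq_one c
      rw [← Nat.mod_add_div (orderOf c) 3, pow_add] at h1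
      have h2 := congrArg (· • o) h1
      simp only [mul_smul, hmul, one_smul] at h2
      exact h2
    refine Nat.dvd_of_mod_eq_zero ?_
    have := Nat.mod_lt (orderOf c) (show 0 < 3 by norm_num)
    interval_cases hj : orderOf c % 3
    · rfl
    · rw [pow_one, hc1] at hmod
      exact absurd hmod p.2
    · rw [pow_two, mul_smul, hc1, hc2] at hmod
      exact absurd ((smul_left_cancel_iff x).1 (hmod.trans hxo'.symm)) p.2
  have hcl : (l : G) * (c ^ (orderOf c / 3)) = c ^ (orderOf c / 3) * l :=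
    ((show Commute (l : G) x from hxl).mul_right (show Commute (l : G) b from hbl.symm)).pow_right _
  have hr3 : r = 3 := by
    have ho3 := orderOf_pow_orderOf_div (orderOf_pos c).ne' h3
    rcases d.ctx.spec.prime_pair hl (ho3.symm ▸ Nat.prime_three) hcl with e | e <;> rw [ho3] at e
    · omega
    · exact e.symm
  subst hr3
  refine CfsgLib.Perm.MidPrimes.card_ne_1512 (G := G) ?_
  rw [← M.index_mul_card, Subgroup.index_eq_card, hn, d.card_M]
  have hK := d.succ
  rw [d.pow] at hK ⊢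
  rw [show Nat.card K = 7 by omega]
  all_goals norm_num

/-- Rank at least three has no element of order `2r`. -/
theorem Ctx.no_pair (d : Ctx G r E) {g : G} (hg : orderOf g = 2 * r) : False := by
  classical
  obtain ⟨L, c⟩ := exists_compl E
  have hdiv : r ∣ Nat.card (img E L) := by
    by_contra h
    exact d.not_pair_of_coprime c h hg
  have hX := d.x_eq_bot c hdiv
  have lin : Lin G r (E : Subgroup G) L :=
    { spec := d.spec
      sq := d.sq
      le := c.le
      odd := c.odd
      faith := eq_bot_iff.2 fun x hx => hX ▸ d.mem_x_of_centralizes (odd_orderOf_of_mem c.odd hx.1) hx.2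
      trans := fun a ha ha1 b hb hb1 => by
        obtain ⟨m, hm, hmab⟩ := Invol.transitive_two_point d.se (u := (1 : G))
          (orderOf_of_sq (d.sq a ha) ha1) (le_normalizer ha) (le_normalizer hb)
          (orderOf_of_sq (d.sq b hb) hb1)
        obtain ⟨e, he, l, hl, rfl⟩ := c.decomp m hm.1
        refine ⟨l, hl, ?_⟩
        have h1 : l * a * l⁻¹ ∈ (E : Subgroup G) := (mem_normalizer_iff.1 (c.le hl) a).1 ha
        calc l * a * l⁻¹ = e * (l * a * l⁻¹) * e⁻¹ := by
              rw [comm_of_sq d.sq he h1, mul_inv_cancel_right]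
          _ = b := by rw [← hmab]; group
      large := lt_of_lt_of_le (by norm_num) d.large }
  rcases lin.cases (hdiv.trans (card_img_dvd L c.le)) with h | ⟨K, h1, h2, h3, h4, h5, h6, h7⟩
  · obtain ⟨a, ha, ha1, y, hy, hay⟩ := d.exists_pair hg
    have hst : ∀ l ∈ L, a * l = l * a → l ∈ xCore E := by
      intro l hl hal
      have ho := lin.orbit_card ha ha1
      have hidx := ((L ⊓ centralizer ({a} : Set G)).subgroupOf L).card_mul_index
      rw [h, ho] at hidx
      have hlarge := d.large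
      rcases (Nat.dvd_prime d.spec.prime).1 ⟨_, (mul_comm _ _).trans hidx |>.symm⟩ with e | e
      · omega
      · rw [e] at hidx
        have hone := Nat.eq_of_mul_eq_mul_right d.spec.prime.pos (hidx.trans (one_mul r).symm)
        have hbot := eq_bot_of_card_eq _ hone
        have hmem : (⟨l, hl⟩ : L) ∈ (L ⊓ centralizer ({a} : Set G)).subgroupOf L :=
          mem_subgroupOf.2 ⟨hl, mem_centralizer_singleton_iff.2 hal.symm⟩
        rw [hbot, mem_bot] at hmem
        rw [show l = 1 from congrArg Subtype.val hmem]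
        exact one_mem _
    have := d.pair_mem_x c ha ha1 hst (by rw [hy]; exact d.spec.odd_prime) hay
    rw [hX, mem_bot] at this
    rw [this, orderOf_one] at hy
    exact d.spec.prime.ne_one hy.symm
  · exact Reg.false ⟨d, c, hX, h1, h2, h3, h4, h5, h6, h7⟩

end CfsgLib.OneComposite
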