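import Cfsg.Agent.Lib.OneComposite.Complement
import Cfsg.Agent.Lib.CIT.Main
import Cfsg.Agent.S1224
import Cfsg.Agent.S2475
import Cfsg.Agent.S0330

/-!
# Rank at least three: the cases in which the odd part `X` of `C(E)` is nontrivial

If the linear group has order prime to `r`, the group is a rank one group in characteristic two, which
has no element of order `2r`.  Otherwise the linear group has a quotient of order `r`, and the transfer
of an element commuting with a central element of `X` gives the group a quotient of order `r`.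
-/

set_option autoImplicit false
set_option linter.unusedSectionVars false
set_option linter.style.haveILetI false

namespace CfsgLib.OneComposite

open Subgroup
open scoped commutatorElement

universe u

variable {G : Type u} [Group G] [Finite G] {r : ℕ} {E : Sylow 2 G} {L : Subgroup G}

/-- An element of order `2r` gives an involution of `E` centralizing an element of order `r`. -/
theorem Ctx.exists_pair (d : Ctx G r E) {g : G} (hg : orderOf g = 2 * r) :
    ∃ a ∈ (E : Subgroup G), a ≠ 1 ∧ ∃ y : G, orderOf y = r ∧ a * y = y * a := by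
  haveI : Fact (Nat.Prime 2) := ⟨Nat.prime_two⟩
  have ht : orderOf (g ^ r) = 2 := by
    rw [orderOf_pow_of_dvd d.spec.prime.ne_zero (hg ▸ dvd_mul_left r 2), hg,
      Nat.mul_div_cancel _ d.spec.prime.pos]
  have hy : orderOf (g ^ 2) = r := by
    rw [orderOf_pow_of_dvd two_ne_zero (hg ▸ dvd_mul_right 2 r), hg,
      Nat.mul_div_cancel_left _ two_pos]
  obtain ⟨c, hc⟩ := Invol.exists_conj_le_sylow (CIT.isPGroup_zpowers_invol ht) E
  refine ⟨c * g ^ r * c⁻¹, hc _ (mem_zpowers _), fun e => Invol.invol_ne_one ht (conj_eq_one_iff.1 e),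
    c * g ^ 2 * c⁻¹, by rw [CIT.orderOf_conj_eq, hy], ?_⟩
  calc c * g ^ r * c⁻¹ * (c * g ^ 2 * c⁻¹) = c * (g ^ r * g ^ 2) * c⁻¹ := by group
    _ = c * (g ^ 2 * g ^ r) * c⁻¹ := by rw [← pow_add, ← pow_add, add_comm]
    _ = c * g ^ 2 * c⁻¹ * (c * g ^ r * c⁻¹) := by group

/-- If `C(a) ∩ L ≤ X` and `y` is an element of order `r` centralizing `a`, then `y ∈ X`. -/
theorem Ctx.pair_mem_x (d : Ctx G r E) (c : Compl E L) {a : G} (ha : a ∈ (E : Subgroup G)) (ha1 : a ≠ 1)
    (hst : ∀ l ∈ L, a * l = l * a → l ∈ xCore E) {y : G} (hy : Odd (orderOf y)) (hay : a * y = y * a) :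
    y ∈ xCore E := by
  have hyM := d.cent_invol ha ha1 (mem_centralizer_singleton_iff.2 hay.symm)
  obtain ⟨e, he, l, hl, rfl⟩ := c.decomp y hyM
  have hla : a * l = l * a := by
    calc a * l = e⁻¹ * (e * a) * l := by group
      _ = e⁻¹ * (a * (e * l)) := by rw [comm_of_sq d.sq he ha]; group
      _ = l * a := by rw [hay]; group
  have hlX := hst l hl hla
  have hcom : Commute (e * l) l⁻¹ := by
    refine Commute.inv_right ?_
    show e * l * l = l * (e * l)
    rw [← mul_assoc, ← Ctx.x_comm hlX he]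
  have he1 : e = 1 := by
    refine eq_one_of_sq_of_odd ?_ (d.sq e he)
    have h1 : e = e * l * l⁻¹ := by group
    rw [h1]
    refine Odd.of_dvd_nat ?_ hcom.orderOf_mul_dvd_lcm
    refine Odd.of_dvd_nat (hy.mul (odd_orderOf_of_mem c.odd (L.inv_mem hl))) (Nat.lcm_dvd_mul _ _)
  rw [he1, one_mul]
  exact hlX

/-- No element of order `2r` when the linear group has order prime to `r`. -/
theorem Ctx.not_pair_of_coprime (d : Ctx G r E) (c : Compl E L) (hr : ¬ r ∣ Nat.card (img E L)) {g : G}
    (hg : orderOf g = 2 * r) : False := by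
  classical
  haveI := d.simple
  haveI : Fact (Nat.Prime 2) := ⟨Nat.prime_two⟩
  have hstab : ∀ z : G, (∀ e ∈ (E : Subgroup G), e * z = z * e) →
      (∀ y ∈ centralizer ({z} : Set G), (orderOf y).Prime → orderOf y = 2 ∨ orderOf y = r) →
      ∀ m ∈ normalizer ((E : Subgroup G) : Set G), m * z = z * m →
        m ∈ centralizer ((E : Subgroup G) : Set G) := by
    intro z hz hord m hm hmz
    obtain ⟨e, he, l, hl, rfl⟩ := c.decomp m hm
    have hlz : l * z = z * l := by
      calc l * z = e⁻¹ * (e * l * z) := by group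
        _ = e⁻¹ * (z * e) * l := by rw [hmz]; group
        _ = z * l := by rw [← hz e he]; group
    have hU : IsPGroup r (L ⊓ centralizer ({z} : Set G) : Subgroup G) :=
      isPGroup_of_odd_two_prime d.spec.prime d.spec.ne_two (c.odd.of_dvd_nat (card_dvd_of_le inf_le_left))
        fun y hy => hord y hy.2
    have hlX := d.le_x_of_isPGroup c hr inf_le_left hU ⟨hl, mem_centralizer_singleton_iff.2 hlz⟩
    exact mul_mem (sylow_le_centralizer_self E d.spec he) (xCore_le E hlX)
  have hEC : CIT.tiKer (E : Subgroup G) = centralizer ((E : Subgroup G) : Set G) :=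
    sup_eq_right.2 (sylow_le_centralizer_self E d.spec)
  obtain ⟨a0, ha0, ha01⟩ := d.exists_invol
  have hTI : ∀ g' : G, g' ∉ normalizer ((E : Subgroup G) : Set G) → ∀ x ∈ (E : Subgroup G),
      g' * x * g'⁻¹ ∈ (E : Subgroup G) → x = 1 := by
    intro g' hg' x hx hgx
    by_contra hx1
    exact hg' (Invol.mem_of_conj_mem d.se (le_normalizer hx) (orderOf_of_sq (d.sq x hx) hx1)
      (le_normalizer hgx))
  have hker : ∀ x ∈ CIT.tiKer (E : Subgroup G), x ≠ 1 → ∀ c' : G, c' * x = x * c' →
      c' ∈ CIT.tiKer (E : Subgroup G) := by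
    intro x hx hx1 c' hc'
    rw [hEC] at hx ⊢
    obtain ⟨e, he, y, hy, rfl⟩ := d.spec.centralizer_decomp E ha0 ha01 hx
    by_cases hy1 : y = 1
    · subst hy1
      rw [mul_one] at hx1 hc'
      exact hstab e (fun f hf => comm_of_sq d.sq hf he)
        (d.spec.invol_centralizer_orders (orderOf_of_sq (d.sq e he) hx1)) c'
        (d.cent_invol he hx1 (mem_centralizer_singleton_iff.2 hc')) hc'
    · have hsq : (e * y) * (e * y) = y * y := by
        calc (e * y) * (e * y) = e * (y * e) * y := by group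
          _ = (e * e) * (y * y) := by rw [← Ctx.x_comm hy he]; group
          _ = y * y := by rw [d.sq e he, one_mul]
      have hy2 : y * y ∈ xCore E := mul_mem hy hy
      have hy21 : y * y ≠ 1 := fun h2 => hy1 (eq_one_of_sq_of_odd (odd_orderOf_of_mem (xCore_odd E) hy) h2)
      have hc2 : c' * (y * y) = (y * y) * c' := by
        rw [← hsq, ← mul_assoc, hc', mul_assoc (e * y) c' (e * y), hc', ← mul_assoc]
      have hyo : orderOf (y * y) = r := by
        rcases d.spec.invol_pair (orderOf_of_sq (d.sq a0 ha0) ha01)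
          (odd_orderOf_of_mem (xCore_odd E) hy2) (Ctx.x_comm hy2 ha0) with h1 | h1
        · exact absurd h1 hy21
        · exact h1
      exact hstab (y * y) (fun f hf => Ctx.x_comm hy2 hf) (d.spec.r_centralizer_orders hyo) c'
        (d.cent_x hy2 hy21 (mem_centralizer_singleton_iff.2 hc2)) hc2
  rcases CIT.ti_classification d.nonab E hTI hker with ⟨K, iK, iK', ⟨n, hn, hK⟩, ⟨e⟩⟩ | h
  · haveI : CharP K 2 := CfsgLib.Classical.PSL2Spectrum.char_two_of_dvd (hK ▸ dvd_pow_self 2 (by omega))
    have h4 : 4 ≤ Fintype.card K := hK ▸ le_trans (by norm_num) (Nat.pow_le_pow_right two_pos hn)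
    have hmem : orderOf (e g) ∈ Set.range (orderOf : Matrix.ProjectiveSpecialLinearGroup (Fin 2) K → ℕ) :=
      ⟨e g, rfl⟩
    rw [Cfsg.Agent.S2475.result 2 h4, MulEquiv.orderOf_eq, hg] at hmem
    have heven : 2 ∣ Fintype.card K := hK ▸ dvd_pow_self 2 (by omega)
    have hodd : Nat.gcd 2 (Fintype.card K - 1) = 1 :=
      Nat.coprime_two_left.2 (Nat.odd_iff.2 (by omega))
    rw [Set.mem_ofPred_eq, hodd, Nat.div_one, Nat.div_one] at hmem
    have := d.spec.two_lt
    rcases hmem with h | h | h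
    · have := Nat.le_of_dvd two_pos h
      omega
    · have := (dvd_mul_right 2 r).trans h
      omega
    · have := (dvd_mul_right 2 r).trans h
      omega
  · obtain ⟨F, iF, iF', m, hm, hF, ⟨e⟩⟩ := h
    obtain ⟨e'⟩ := CfsgLib.Lie.Suz.exists_twEquiv (F := F) hm hF
    have hS : Spec (Cfsg.Sz F m) r :=
      d.spec.of_injective (e'.trans e.symm).toMonoidHom (e'.trans e.symm).injective
    haveI : Finite (Cfsg.Sz F m) := Finite.of_equiv _ (e.trans e'.symm).toEquiv
    have hexp := (Cfsg.Agent.S0330.result hm hF (default : Sylow 2 (Cfsg.Sz F m))).2.1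
    have h2 : Monoid.exponent (default : Sylow 2 (Cfsg.Sz F m)) ∣ 2 :=
      Monoid.exponent_dvd_of_forall_pow_eq_one fun x => Subtype.ext (by
        push_cast
        rw [pow_two]
        exact hS.sylow_sq _ x.2)
    rw [hexp] at h2
    exact absurd h2 (by norm_num)

/-- The cosets fixed by a central element of `X` when the linear group has order `r`. -/
theorem Ctx.single_fixed_cyclic (d : Ctx G r E) (c : Compl E L)
    (hst : ∀ a ∈ (E : Subgroup G), a ≠ 1 → ∀ l ∈ L, a * l = l * a → l ∈ xCore E)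
    {y : G} (hy : y ∈ xCore E) (hy1 : y ≠ 1)
    (hcentral : ∀ m ∈ normalizer ((E : Subgroup G) : Set G), m * y = y * m)
    : ∀ q : G ⧸ normalizer ((E : Subgroup G) : Set G), y • q = q →
    q = ((1 : G) : G ⧸ normalizer ((E : Subgroup G) : Set G)) := by
  classical
  set M := normalizer ((E : Subgroup G) : Set G) with hMdef
  set o : G ⧸ M := ((1 : G) : G ⧸ M) with ho
  have hfix : ∀ {m : G}, m • o = o ↔ m ∈ M := fun {m} => Invol.fixed_one_iff
  intro q hq
  by_contra hne
  obtain ⟨a0, ha0, ha01⟩ := d.exists_invol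
  have hsw := Cfsg.Agent.S1224.result M d.se o q (Ne.symm hne)
  have hMinv : 0 < Nat.card {t : G // orderOf t = 2 ∧ t ∈ M} :=
    Nat.card_pos_iff.2 ⟨⟨⟨a0, orderOf_of_sq (d.sq a0 ha0) ha01, le_normalizer ha0⟩⟩, inferInstance⟩
  obtain ⟨⟨u, hu, huq⟩⟩ : Nonempty {i : G // orderOf i = 2 ∧ i • o = q} :=
    (Nat.card_pos_iff.1 (hsw ▸ hMinv)).1
  have huM : u ∉ M := fun h => hne (huq ▸ hfix.2 h)
  have huq' : u • q = o := by rw [← huq, Invol.invol_smul_smul hu]
  set D := M ⊓ M.map (MulAut.conj u).toMonoidHom with hD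
  have hmemD : ∀ x : G, x ∈ D ↔ x ∈ M ∧ u * x * u⁻¹ ∈ M := fun x => by
    rw [hD, mem_inf, mem_map_equiv, MulAut.conj_symm_apply, Invol.invol_inv hu]
  have hDodd : Odd (Nat.card D) := d.se.2.2 u huM
  have huD : u ∈ normalizer (D : Set G) := by
    have key : ∀ x, x ∈ D → u * x * u⁻¹ ∈ D := fun x hx => (hmemD _).2 ⟨((hmemD x).1 hx).2, by
      rw [show u * (u * x * u⁻¹) * u⁻¹ = (u * u) * x * (u * u)⁻¹ by group, Invol.invol_mul_self hu]
      simpa using ((hmemD x).1 hx).1⟩
    refine mem_normalizer_iff.2 fun x => ⟨key x, fun h => ?_⟩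
    have := key _ h
    rwa [show u * (u * x * u⁻¹) * u⁻¹ = (u * u) * x * (u * u)⁻¹ by group, Invol.invol_mul_self hu,
      one_mul, inv_one, mul_one] at this
  have hyM : y ∈ M := Coprime.centralizer_le_normalizer_self _ (xCore_le E hy)
  have hyD : y ∈ D := by
    refine (hmemD y).2 ⟨hyM, hfix.1 ?_⟩
    rw [mul_smul, mul_smul, Invol.invol_inv hu, huq, hq, huq']
  -- an element of `D` centralized by `u`
  obtain ⟨v, hvD, hv1, hvu⟩ : ∃ v ∈ D, v ≠ 1 ∧ u * v = v * u := by
    by_contra hno
    push Not at hno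
    have hinv : ∀ x ∈ D, u * x * u⁻¹ = x⁻¹ := by
      let φ : D →* D := MonoidHom.mk' (fun x => ⟨u * x * u⁻¹, (mem_normalizer_iff.1 huD _).1 x.2⟩)
        fun x y => Subtype.ext (by simp [mul_assoc])
      have hφ : MonoidHom.FixedPointFree φ := fun x hx => Subtype.ext (by
        by_contra hx1
        exact hno x x.2 hx1 (mul_inv_eq_iff_eq_mul.1 (congrArg Subtype.val hx)))
      have hinvo : Function.Involutive φ := fun x => Subtype.ext (by
        show u * (u * (x : G) * u⁻¹) * u⁻¹ = x
        rw [show u * (u * (x : G) * u⁻¹) * u⁻¹ = (u * u) * x * (u * u)⁻¹ by group,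
          Invol.invol_mul_self hu, one_mul, inv_one, mul_one])
      intro x hx
      exact congrArg Subtype.val (congrFun (hφ.coe_eq_inv_of_involutive hinvo) ⟨x, hx⟩)
    -- then `u D` swaps the two cosets
    have h1 : Nat.card D ≤ Nat.card {i : G // orderOf i = 2 ∧ i • o = q} := by
      refine Nat.card_le_card_of_injective (fun x : D => ⟨u * x, ?_, ?_⟩) fun x y e => ?_
      · refine orderOf_of_sq ?_ fun e => huM ?_
        · calc u * (x : G) * (u * x) = (u * x * u⁻¹) * (u * u) * x := by group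
            _ = 1 := by rw [hinv x x.2, Invol.invol_mul_self hu, mul_one, inv_mul_cancel]
        · rw [eq_inv_of_mul_eq_one_left e]
          exact inv_mem ((hmemD x).1 x.2).1
      · rw [mul_smul, hfix.2 ((hmemD x).1 x.2).1, huq]
      · exact Subtype.ext (mul_left_cancel (congrArg Subtype.val e))
    -- but `D` is transitive on the involutions of `M` with `y` in each stabilizer
    choose f hfD hf using fun t : {t : G // orderOf t = 2 ∧ t ∈ M} =>
      Invol.transitive_two_point d.se (u := u) (orderOf_of_sq (d.sq a0 ha0) ha01) (le_normalizer ha0)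
        t.2.2 t.2.1
    have hya : ∀ i : Fin 2, y ^ (i : ℕ) * a0 * (y ^ (i : ℕ))⁻¹ = a0 := fun i =>
      mul_inv_eq_iff_eq_mul.2 ((show Commute a0 y from Ctx.x_comm hy ha0).pow_right _).eq.symm
    have h2 : Nat.card {t : G // orderOf t = 2 ∧ t ∈ M} * 2 ≤ Nat.card D := by
      have h3 : Nat.card ({t : G // orderOf t = 2 ∧ t ∈ M} × Fin 2) ≤ Nat.card D := by
        refine Nat.card_le_card_of_injective
          (fun p => ⟨f p.1 * y ^ (p.2 : ℕ), D.mul_mem (hfD p.1) (pow_mem hyD _)⟩) ?_
        rintro ⟨t, i⟩ ⟨t', i'⟩ e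
        have e' : f t * y ^ (i : ℕ) = f t' * y ^ (i' : ℕ) := congrArg Subtype.val e
        have ht : ∀ (s : {t : G // orderOf t = 2 ∧ t ∈ M}) (j : Fin 2),
            (f s * y ^ (j : ℕ)) * a0 * (f s * y ^ (j : ℕ))⁻¹ = s := by
          intro s j
          calc (f s * y ^ (j : ℕ)) * a0 * (f s * y ^ (j : ℕ))⁻¹
              = f s * (y ^ (j : ℕ) * a0 * (y ^ (j : ℕ))⁻¹) * (f s)⁻¹ := by group
            _ = s := by rw [hya, hf]
        obtain rfl : t = t' := Subtype.ext (by rw [← ht t i, e', ht])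
        obtain rfl : i = i' := by
          have e2 := mul_left_cancel e'
          fin_cases i <;> fin_cases i' <;> simp_all
        rfl
      rwa [Nat.card_prod, Nat.card_fin] at h3
    omega
  -- `v` gives `y` a fixed point where it commutes with `u`
  obtain ⟨g, hg⟩ := isConj_iff.1 (Invol.exists_conj_fixing d.se (orderOf_of_sq (d.sq a0 ha0) ha01) hu)
  set v' := g⁻¹ * v * g with hv'
  have hv'X : v' ∈ xCore E := by
    refine d.pair_mem_x c ha0 ha01 (hst a0 ha0 ha01) ?_ ?_
    · rw [hv', show g⁻¹ * v * g = g⁻¹ * v * g⁻¹⁻¹ by group, CIT.orderOf_conj_eq]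
      exact odd_orderOf_of_mem hDodd hvD
    · calc a0 * (g⁻¹ * v * g) = g⁻¹ * ((g * a0 * g⁻¹) * v) * g := by group
        _ = g⁻¹ * (v * (g * a0 * g⁻¹)) * g := by rw [hg, hvu]
        _ = g⁻¹ * v * g * a0 := by group
  have hv'1 : v' ≠ 1 := fun e => hv1 (by
    have : v = g * v' * g⁻¹ := by rw [hv']; group
    rw [this, e, mul_one, mul_inv_cancel])
  have hy'M : g⁻¹ * y * g ∈ M := d.cent_x hv'X hv'1 (mem_centralizer_singleton_iff.2 (by
    calc g⁻¹ * y * g * v' = g⁻¹ * (y * v) * g := by rw [hv']; group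
      _ = g⁻¹ * (v * y) * g := by rw [hcentral v ((hmemD v).1 hvD).1]
      _ = v' * (g⁻¹ * y * g) := by rw [hv']; group))
  have hzD : y * u * y⁻¹ * u⁻¹ ∈ D := by
    rw [show y * u * y⁻¹ * u⁻¹ = y * (u * y⁻¹ * u⁻¹) by group]
    exact mul_mem hyD ((mem_normalizer_iff.1 huD _).1 (inv_mem hyD))
  have hzE : g⁻¹ * (y * u * y⁻¹ * u⁻¹) * g ∈ (E : Subgroup G) := by
    rw [show g⁻¹ * (y * u * y⁻¹ * u⁻¹) * g =
      ((g⁻¹ * y * g) * (g⁻¹ * u * g) * (g⁻¹ * y * g)⁻¹) * (g⁻¹ * u * g)⁻¹ by group,
      show g⁻¹ * u * g = a0 by rw [← hg]; group]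
    exact mul_mem ((mem_normalizer_iff.1 hy'M _).1 ha0) (inv_mem ha0)
  have hz1 : y * u * y⁻¹ * u⁻¹ = 1 := by
    refine eq_one_of_sq_of_odd (odd_orderOf_of_mem hDodd hzD) ?_
    have h1 := d.sq _ hzE
    set z := y * u * y⁻¹ * u⁻¹
    calc z * z = g * (g⁻¹ * z * g * (g⁻¹ * z * g)) * g⁻¹ := by group
      _ = 1 := by rw [h1, mul_one, mul_inv_cancel]
  rw [mul_inv_eq_one, mul_inv_eq_iff_eq_mul] at hz1
  exact huM (d.cent_x hy hy1 (mem_centralizer_singleton_iff.2 hz1.symm))

/-- A transfer homomorphism kills everything in a perfect group. -/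
theorem Ctx.transfer_eq_one (d : Ctx G r E) {A : Type*} [CommGroup A] {M : Subgroup G} (φ : M →* A)
    (g : G) : MonoidHom.transfer φ g = 1 := by
  haveI := d.simple
  have hperf : commutator G = ⊤ :=
    ((inferInstance : (commutator G).Normal).eq_bot_or_eq_top).resolve_left fun e =>
      d.nonab ((commutator_eq_bot_iff G).1 e)
  exact MonoidHom.mem_ker.1 (Abelianization.commutator_subset_ker _ (hperf ▸ mem_top g))

/-- Lift a commutation from the linear group. -/
theorem Ctx.lift_comm (d : Ctx G r E) {e : G} (he : e ∈ (E : Subgroup G))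
    {m : normalizer ((E : Subgroup G) : Set G)}
    (h : QuotientGroup.mk' (xIn E) m * QuotientGroup.mk' (xIn E) ⟨e, le_normalizer he⟩ =
      QuotientGroup.mk' (xIn E) ⟨e, le_normalizer he⟩ * QuotientGroup.mk' (xIn E) m) :
    (m : G) * e = e * m := by
  rw [← commutatorElement_eq_one_iff_mul_comm, ← map_commutatorElement, mk_eq_one,
    commutatorElement_def] at h
  push_cast at h
  have h2 : (m : G) * e * (m : G)⁻¹ * e⁻¹ ∈ (E : Subgroup G) :=
    mul_mem ((mem_normalizer_iff.1 m.2 _).1 he) (inv_mem he)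
  have h3 := disjoint_sq_odd d.sq (xCore_odd E) h2 h
  rw [mul_inv_eq_one, mul_inv_eq_iff_eq_mul] at h3
  exact h3

/-- With a quotient of order `r` of the linear group, the odd part of `C(E)` is trivial. -/
theorem Ctx.x_eq_bot (d : Ctx G r E) (c : Compl E L) (hr : r ∣ Nat.card (img E L)) : xCore E = ⊥ := by
  classical
  haveI := d.simple
  haveI : Fact r.Prime := ⟨d.spec.prime⟩
  haveI : Fact (Nat.Prime 2) := ⟨Nat.prime_two⟩
  by_contra hX
  set M := normalizer ((E : Subgroup G) : Set G) with hMdef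
  have lin := d.lin c
  set E' := img E (E : Subgroup G) with hE'
  set L' := img E L with hL'
  -- the normal subgroup of index `r`
  obtain ⟨K, hKL, hKn, hKcard, hKr, hcase⟩ : ∃ K : Subgroup (M ⧸ xIn E), K ≤ L' ∧
      L' ≤ normalizer (K : Set (M ⧸ xIn E)) ∧ Nat.card K * r = Nat.card L' ∧ ¬ r ∣ Nat.card K ∧
      (Nat.card L' = r ∨ ∀ l ∈ L', orderOf l = r →
        Nat.card (E' ⊓ centralizer ({l} : Set (M ⧸ xIn E)) : Subgroup _) = 2) := by
    rcases lin.cases hr with h | ⟨K, h1, h2, h3, h4, -, -, h7⟩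
    · exact ⟨⊥, bot_le, le_top.trans (normalizer_eq_top_iff.2 inferInstance).ge, by rw [card_bot, one_mul, h],
        by rw [card_bot]; exact d.spec.prime.not_dvd_one, Or.inl h⟩
    · exact ⟨K, h1, h2, h3, h4, Or.inr h7⟩
  have hgen : ∀ m : M, ∃ e ∈ E', ∃ l ∈ L', QuotientGroup.mk' (xIn E) m = e * l := by
    intro m
    obtain ⟨e, he, l, hl, e'⟩ := c.decomp m m.2
    refine ⟨_, mk_mem_img (m := ⟨e, le_normalizer he⟩) he, _, mk_mem_img (m := ⟨l, c.le hl⟩) hl, ?_⟩
    rw [← map_mul]
    exact congrArg _ (Subtype.ext e')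
  have hKodd : ∀ {H : Subgroup (M ⧸ xIn E)}, H ≤ L' → (Nat.card E').Coprime (Nat.card H) := fun {H} hH =>
    card_coprime_of_sq_odd lin.sq (lin.odd.of_dvd_nat (card_dvd_of_le hH))
  haveI hNn : (E' ⊔ K).Normal := by
    refine normalizer_eq_top_iff.1 (eq_top_iff.2 fun x _ => ?_)
    obtain ⟨m, rfl⟩ := QuotientGroup.mk'_surjective _ x
    obtain ⟨e, he, l, hl, em⟩ := hgen m
    rw [em]
    exact mul_mem (le_normalizer (mem_sup_left he)) (Coprime.sup_le_normalizer lin.le hKn hl)
  have hindex : (E' ⊔ K).index = r := by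
    have hcardK : Nat.card (E' ⊔ K : Subgroup (M ⧸ xIn E)) = Nat.card E' * Nat.card K := by
      rw [sup_comm, mul_comm]
      refine Nat.dvd_antisymm (Coprime.card_sup_dvd_of_le_normalizer (hKL.trans lin.le)) ?_
      exact (hKodd hKL).symm.mul_dvd_of_dvd_of_dvd (card_dvd_of_le le_sup_left) (card_dvd_of_le le_sup_right)
    have htop : E' ⊔ L' = ⊤ := eq_top_iff.2 fun x _ => by
      obtain ⟨m, rfl⟩ := QuotientGroup.mk'_surjective _ x
      obtain ⟨e, he, l, hl, em⟩ := hgen m
      rw [em]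
      exact mul_mem (mem_sup_left he) (mem_sup_right hl)
    have hcardT : Nat.card (M ⧸ xIn E) = Nat.card E' * Nat.card L' := by
      rw [← card_top, ← htop, sup_comm, mul_comm]
      refine Nat.dvd_antisymm (Coprime.card_sup_dvd_of_le_normalizer lin.le) ?_
      exact (hKodd le_rfl).symm.mul_dvd_of_dvd_of_dvd (card_dvd_of_le le_sup_left) (card_dvd_of_le le_sup_right)
    have h1 := (E' ⊔ K).card_mul_index
    rw [hcardK, hcardT, ← hKcard, mul_assoc] at h1
    exact Nat.eq_of_mul_eq_mul_left Nat.card_pos (Nat.eq_of_mul_eq_mul_left Nat.card_pos h1)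
  haveI hcyc : IsCyclic ((M ⧸ xIn E) ⧸ (E' ⊔ K)) := by
    refine isCyclic_of_prime_card (p := r) ?_
    rw [← Subgroup.index_eq_card, hindex]
  letI : CommGroup ((M ⧸ xIn E) ⧸ (E' ⊔ K)) := IsCyclic.commGroup
  set φ : M →* (M ⧸ xIn E) ⧸ (E' ⊔ K) :=
    (QuotientGroup.mk' (E' ⊔ K)).comp (QuotientGroup.mk' (xIn E)) with hφ
  have hφsurj : Function.Surjective φ :=
    (QuotientGroup.mk'_surjective _).comp (QuotientGroup.mk'_surjective _)
  have hA : ∀ x : (M ⧸ xIn E) ⧸ (E' ⊔ K), x ^ r = 1 := fun x => by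
    rw [← hindex, Subgroup.index_eq_card, pow_card_eq_one']
  -- a Sylow subgroup of `L` and a central element of `X`
  set R0 : Sylow r L := default with hR0
  set R := (R0 : Subgroup L).map L.subtype with hR
  have hRL : R ≤ L := map_subtype_le _
  have hRp : IsPGroup r R := R0.isPGroup'.map _
  obtain ⟨a0, ha0, ha01⟩ := d.exists_invol
  have hRX : R ≤ normalizer (xCore E : Set G) :=
    (hRL.trans c.le).trans (normalizer_le_normalizer_xCore E)
  obtain ⟨y, hy, hyo, hyR⟩ := Invol.exists_fixed_of_normalized hRp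
    (d.spec.xCore_isPGroup E ha0 ha01) hX hRX
  have hy1 : y ≠ 1 := fun e => by rw [e, orderOf_one] at hyo; exact d.spec.prime.ne_one hyo.symm
  have hyM : y ∈ M := Coprime.centralizer_le_normalizer_self _ (xCore_le E hy)
  -- an element of `R` off the kernel
  obtain ⟨h, hhR, hhφ⟩ : ∃ h : M, (h : G) ∈ R ∧ φ h ≠ 1 := by
    let ψ : L →* (M ⧸ xIn E) ⧸ (E' ⊔ K) := φ.comp (inclusion c.le)
    have hψ : Function.Surjective ψ := by
      intro x
      obtain ⟨m, rfl⟩ := hφsurj x
      obtain ⟨e, he, l, hl, em⟩ := c.decomp m m.2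
      refine ⟨⟨l, hl⟩, ?_⟩
      have h1 : φ ⟨e, le_normalizer he⟩ = 1 :=
        (QuotientGroup.eq_one_iff _).2 (mem_sup_left (mk_mem_img he))
      show φ (inclusion c.le ⟨l, hl⟩) = φ m
      rw [show m = ⟨e, le_normalizer he⟩ * inclusion c.le ⟨l, hl⟩ from Subtype.ext em, map_mul, h1,
        one_mul]
    by_contra hno
    push Not at hno
    have hc1 : r ∣ Nat.card (R0.mapSurjective hψ) := by
      refine Sylow.dvd_card_of_dvd_card _ ?_
      rw [← Subgroup.index_eq_card, hindex]
    rw [Sylow.coe_mapSurjective, show (R0 : Subgroup L).map ψ = ⊥ from eq_bot_iff.2 (by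
      rintro _ ⟨x, hx, rfl⟩
      exact mem_bot.2 (hno _ (mem_map_of_mem L.subtype hx))), card_bot] at hc1
    exact d.spec.prime.not_dvd_one hc1
  have hhy : (h : G) * y = y * h := mem_centralizer_singleton_iff.1 (hyR hhR)
  have hyr : y ^ r = 1 := hyo ▸ pow_orderOf_eq_one y
  have hhr : (h : G) ^ r = 1 := by
    obtain ⟨n, hn⟩ := IsPGroup.iff_orderOf.1 hRp ⟨h, hhR⟩
    rw [← Subgroup.orderOf_coe] at hn
    exact d.spec.exp_r hn
  have hsingle : ∀ q : G ⧸ M, y • q = q → q = ((1 : G) : G ⧸ M) := by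
    rcases hcase with hLr | hfix
    · -- `L` is an `r`-group acting semiregularly
      have hLp : IsPGroup r L := by
        refine isPGroup_of_odd_two_prime d.spec.prime d.spec.ne_two c.odd fun z hz hzp => ?_
        by_contra hcon
        push Not at hcon
        have h1 : QuotientGroup.mk' (xIn E) (⟨z, c.le hz⟩ : M) = 1 := by
          refine orderOf_eq_one_iff.1 (Nat.eq_one_of_dvd_coprimes
            ((Nat.coprime_primes hzp d.spec.prime).2 hcon.2) ((orderOf_map_dvd _ _).trans
              (Subgroup.orderOf_mk z (c.le hz)).dvd) (hLr ▸ Subgroup.orderOf_dvd_natCard _ (mk_mem_img hz)))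
        have hzX := mk_eq_one.1 h1
        rcases d.spec.invol_pair (orderOf_of_sq (d.sq a0 ha0) ha01)
          (odd_orderOf_of_mem (xCore_odd E) hzX) (Ctx.x_comm hzX ha0) with h2 | h2
        · rw [show z = 1 from h2, orderOf_one] at hzp
          exact Nat.not_prime_one hzp
        · exact hcon.2 h2
      have hLR : L ≤ R := by
        have h1 : (⊤ : Subgroup L) = (R0 : Subgroup L) :=
          R0.is_maximal' (hLp.of_equiv Subgroup.topEquiv.symm) le_top
        intro z hz
        exact ⟨⟨z, hz⟩, h1 ▸ mem_top (⟨z, hz⟩ : L), rfl⟩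
      have hst : ∀ a ∈ (E : Subgroup G), a ≠ 1 → ∀ l ∈ L, a * l = l * a → l ∈ xCore E := by
        intro a ha ha1 l hl hal
        set a' := QuotientGroup.mk' (xIn E) (⟨a, le_normalizer ha⟩ : M) with ha'
        have ha'1 : a' ≠ 1 := fun e => ha1 (disjoint_sq_odd d.sq (xCore_odd E) ha (mk_eq_one.1 e))
        have ho := lin.orbit_card (mk_mem_img (m := ⟨a, le_normalizer ha⟩) ha) ha'1
        have hlarge := lin.large
        have hidx := ((L' ⊓ centralizer ({a'} : Set (M ⧸ xIn E))).subgroupOf L').card_mul_index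
        rw [hLr] at hidx
        have hi : ((L' ⊓ centralizer ({a'} : Set (M ⧸ xIn E))).subgroupOf L').index = r := by
          rcases (Nat.dvd_prime d.spec.prime).1 ⟨_, (mul_comm _ _).trans hidx |>.symm⟩ with h1 | h1
          · exfalso
            have h2 := h1.symm.trans ho
            omega
          · exact h1
        rw [hi] at hidx
        have hone : Nat.card ((L' ⊓ centralizer ({a'} : Set (M ⧸ xIn E))).subgroupOf L') = 1 :=
          Nat.eq_of_mul_eq_mul_right d.spec.prime.pos (by rw [hidx, one_mul])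
        have hbot := eq_bot_of_card_eq _ hone
        have hmem : (⟨QuotientGroup.mk' (xIn E) ⟨l, c.le hl⟩, mk_mem_img hl⟩ : L') ∈
            (L' ⊓ centralizer ({a'} : Set (M ⧸ xIn E))).subgroupOf L' := by
          refine mem_subgroupOf.2 ⟨mk_mem_img hl, mem_centralizer_singleton_iff.2 ?_⟩
          rw [← map_mul, ← map_mul]
          exact congrArg _ (Subtype.ext hal.symm)
        rw [hbot, mem_bot] at hmem
        exact mk_eq_one.1 (congrArg Subtype.val hmem)
      intro q hq
      refine d.single_fixed_cyclic c hst hy hy1 (fun m hm => ?_) q hq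
      obtain ⟨e, he, l, hl, rfl⟩ := c.decomp m hm
      calc e * l * y = e * (l * y) := by group
        _ = (e * y) * l := by rw [mem_centralizer_singleton_iff.1 (hyR (hLR hl))]; group
        _ = y * (e * l) := by rw [Ctx.x_comm hy he]; group
    · -- a conjugate in `M` of `y` centralizes an involution of `E`
      intro q hq
      obtain ⟨g, rfl⟩ := QuotientGroup.mk_surjective q
      have hy' : g⁻¹ * y * g ∈ M := by
        have := inv_mem (QuotientGroup.eq.1 (show ((y * g : G) : G ⧸ M) = (g : G ⧸ M) from hq))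
        rwa [mul_inv_rev, inv_inv, ← mul_assoc] at this
      obtain ⟨a, ha, ha1, hya⟩ : ∃ a ∈ (E : Subgroup G), a ≠ 1 ∧ g⁻¹ * y * g * a = a * (g⁻¹ * y * g) := by
        obtain ⟨e, he, l, hl, em⟩ := c.decomp _ hy'
        by_cases hlX : QuotientGroup.mk' (xIn E) (⟨l, c.le hl⟩ : M) = 1
        · refine ⟨a0, ha0, ha01, ?_⟩
          rw [em]
          calc e * l * a0 = e * (l * a0) := by group
            _ = (e * a0) * l := by rw [← Ctx.x_comm (mk_eq_one.1 hlX) ha0]; group
            _ = a0 * (e * l) := by rw [comm_of_sq d.sq he ha0]; group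
        have hlo : orderOf (QuotientGroup.mk' (xIn E) (⟨l, c.le hl⟩ : M)) = r := by
          refine orderOf_eq_prime ?_ hlX
          have hd : orderOf (g⁻¹ * y * g) = r := by
            rw [show g⁻¹ * y * g = g⁻¹ * y * g⁻¹⁻¹ by group, CIT.orderOf_conj_eq, hyo]
          have h1 : (QuotientGroup.mk' (xIn E) ⟨g⁻¹ * y * g, hy'⟩) ^ r = 1 := by
            rw [← map_pow, show (⟨g⁻¹ * y * g, hy'⟩ : M) ^ r = 1 from Subtype.ext (by
              push_cast; rw [← hd, pow_orderOf_eq_one]), map_one]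
          have hs : ∀ t : M, QuotientGroup.mk' (xIn E) ⟨l, c.le hl⟩ ^ r =
              QuotientGroup.mk' (xIn E) (⟨l, c.le hl⟩ ^ r) := fun _ => (map_pow _ _ _).symm
          have hodd := odd_orderOf_of_mem lin.odd (mk_mem_img (H := L) (m := ⟨l, c.le hl⟩) hl)
          have hmod : QuotientGroup.mk' (xIn E) ⟨l, c.le hl⟩ ^ r ∈ E' := by
            haveI : E'.Normal := normalizer_eq_top_iff.1 (eq_top_iff.2 fun x _ => by
              obtain ⟨m, rfl⟩ := QuotientGroup.mk'_surjective _ x
              exact Subgroup.le_normalizer_map _ ⟨m, mem_normalizer_iff.2 fun z => by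
                simpa [mem_subgroupOf] using mem_normalizer_iff.1 m.2 (z : G), rfl⟩)
            rw [← QuotientGroup.eq_one_iff (N := E'), ← QuotientGroup.mk'_apply, map_pow]
            have h2 : (QuotientGroup.mk' E') (QuotientGroup.mk' (xIn E) ⟨g⁻¹ * y * g, hy'⟩) =
                (QuotientGroup.mk' E') (QuotientGroup.mk' (xIn E) ⟨l, c.le hl⟩) := by
              rw [show (⟨g⁻¹ * y * g, hy'⟩ : M) = ⟨e, le_normalizer he⟩ * ⟨l, c.le hl⟩ from
                Subtype.ext em, map_mul, map_mul, show (QuotientGroup.mk' E')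
                (QuotientGroup.mk' (xIn E) ⟨e, le_normalizer he⟩) = 1 from
                (QuotientGroup.eq_one_iff _).2 (mk_mem_img he), one_mul]
            rw [← h2, ← map_pow, h1, map_one]
          exact eq_one_of_sq_of_odd (hodd.of_dvd_nat (orderOf_pow_dvd r)) (lin.sq _ hmod)
        have hcard := hfix _ (mk_mem_img (m := ⟨l, c.le hl⟩) hl) hlo
        obtain ⟨x', hx', hx'1⟩ := exists_mem_ne_one (hcard.symm ▸ one_lt_two)
        obtain ⟨a, ha, rfl⟩ := hx'.1
        have hla : l * (a : G) = a * l :=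
          d.lift_comm (e := a) (mem_subgroupOf.1 ha) (m := ⟨l, c.le hl⟩)
            (mem_centralizer_singleton_iff.1 hx'.2).symm
        refine ⟨a, mem_subgroupOf.1 ha, fun h1 => hx'1 (by rw [show a = 1 from Subtype.ext h1, map_one]), ?_⟩
        rw [em]
        calc e * l * (a : G) = (e * a) * l := by rw [mul_assoc, hla]; group
          _ = (a : G) * (e * l) := by rw [comm_of_sq d.sq he (mem_subgroupOf.1 ha)]; group
      have hgM : g ∈ M := by
        refine Invol.mem_of_conj_mem d.se (le_normalizer ha) (orderOf_of_sq (d.sq a ha) ha1)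
          (d.cent_x hy hy1 (mem_centralizer_singleton_iff.2 ?_))
        calc g * a * g⁻¹ * y = g * (a * (g⁻¹ * y * g)) * g⁻¹ := by group
          _ = g * (g⁻¹ * y * g * a) * g⁻¹ := by rw [hya]
          _ = y * (g * a * g⁻¹) := by group
      exact QuotientGroup.eq.2 (by simpa using hgM)
  have key := transfer_eq_of_single_fixed φ hA h.2 hyM hhr hyr hhy hsingle
  rw [d.transfer_eq_one φ h] at key
  exact hhφ key.symm

end CfsgLib.OneComposite
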