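import Cfsg.Agent.Lib.OneComposite.Outer
import Cfsg.Agent.Lib.CIT.Main
import Cfsg.Agent.Lib.CIT.Insoluble
import Cfsg.Agent.S0200
import Cfsg.Agent.S0144

/-!
# CIT groups whose even element orders are two and four

An element of order four modulo the largest normal 2-subgroup forces that subgroup to be trivial, and
the quotient is simple.
-/

set_option autoImplicit false
set_option linter.unusedSectionVars false
set_option linter.style.haveILetI false

namespace CfsgLib.OneComposite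

open Subgroup

universe u v

variable {G : Type u} [Group G] [Finite G]

/-- A normal 2-subgroup is trivial below an element of order four. -/
theorem eq_bot_of_four (hc : CIT.IsCIT G) (h24 : ∀ g : G, 2 ∣ orderOf g → orderOf g = 2 ∨ orderOf g = 4)
    (O : Subgroup G) [O.Normal] (hO : IsPGroup 2 O)
    (hQ : ∀ W : Subgroup (G ⧸ O), W.Normal → IsPGroup 2 W → W = ⊥)
    {x : G ⧸ O} (hx : orderOf x = 4) : O = ⊥ := by
  classical
  haveI : Fact (Nat.Prime 2) := ⟨Nat.prime_two⟩
  by_contra hO1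
  -- an inverted element of odd order
  have hs2 : orderOf (x ^ 2) = 2 := by rw [orderOf_pow_of_dvd two_ne_zero (by rw [hx]; norm_num), hx]
  obtain ⟨yq, hy1, hyodd, hyinv⟩ := Cfsg.Agent.S0200.result (x ^ 2) hs2 fun W hW hWp hm => by
    rw [hQ W hW hWp, mem_bot] at hm
    rw [hm, orderOf_one] at hs2
    omega
  obtain ⟨x0, rfl⟩ := QuotientGroup.mk'_surjective O x
  obtain ⟨y0, rfl⟩ := QuotientGroup.mk'_surjective O yq
  obtain ⟨y, hyo, hye⟩ := CIT.exists_odd_preimage _ hyodd
  rw [← hye] at hy1 hyinv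
  have hy : y ≠ 1 := fun e => hy1 (by rw [e, map_one])
  -- lifts of elements of order four
  have hfour : ∀ g : G, orderOf (QuotientGroup.mk' O g) = 4 → g ^ 4 = 1 := fun g hg => by
    have hd : 4 ∣ orderOf g := hg ▸ orderOf_map_dvd _ g
    rcases h24 g ((by norm_num : 2 ∣ 4).trans hd) with e | e
    · rw [e] at hd; norm_num at hd
    · rw [← e, pow_orderOf_eq_one]
  have hx4 : x0 ^ 4 = 1 := hfour _ hx
  -- the module
  set V := CIT.omZ O with hV
  haveI : V.Normal := ⟨fun v hv g => CIT.conj_mem_omZ (by rw [normalizer_eq_top]; exact mem_top g) hv⟩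
  obtain ⟨v0, hv0⟩ : ∃ v : V, v ≠ 1 := by
    haveI : Nontrivial O := (nontrivial_iff_ne_bot O).2 hO1
    haveI := hO.center_nontrivial
    obtain ⟨i, hi⟩ := IsPGroup.iff_card.1 (hO.to_subgroup (center O))
    have h1 : 1 < Nat.card (center O) := Finite.one_lt_card
    obtain ⟨⟨z, hz⟩, hzo⟩ := exists_prime_orderOf_dvd_card' (G := center O) 2 (by
      rw [hi]
      exact dvd_pow_self 2 fun e => by rw [hi, e, pow_zero] at h1; omega)
    rw [← orderOf_coe, ← orderOf_coe] at hzo
    exact ⟨⟨((z : O) : G), z.2, Invol.invol_mul_self hzo,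
      fun u hu => congrArg Subtype.val (mem_center_iff.1 hz ⟨u, hu⟩)⟩,
      fun e => Invol.invol_ne_one hzo (congrArg Subtype.val e)⟩
  letI : CommGroup V :=
    { (inferInstance : Group V) with mul_comm := fun a b => Subtype.ext (b.2.2.2 a a.2.1) }
  have hVsq : ∀ v : V, v * v = 1 := fun v => Subtype.ext v.2.2.1
  have hinv : ∀ v : V, v⁻¹ = v := fun v => inv_eq_of_mul_eq_one_right (hVsq v)
  let φ : G →* MulAut V := MulAut.conjNormal
  have hφ : ∀ (g : G) (v : V), (φ g v : G) = g * v * g⁻¹ := fun g v => MulAut.conjNormal_apply g v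
  have hker : ∀ o ∈ O, φ o = 1 := fun o ho => MulEquiv.ext fun v => Subtype.ext (by
    show (φ o v : G) = v
    rw [hφ, v.2.2.2 o ho, mul_inv_cancel_right])
  set X := φ x0 with hX
  set Y := φ y with hY
  set m := orderOf y with hm
  -- the norm of an element of order four
  have hnorm : ∀ v : V, v * X v * (X ^ 2) v * (X ^ 3) v = 1 := by
    intro v
    have h1 : ((v : G) * x0) ^ 4 = 1 := hfour _ (by
      rw [map_mul, show QuotientGroup.mk' O (v : G) = 1 from (QuotientGroup.eq_one_iff _).2 v.2.1, one_mul]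
      exact hx)
    refine Subtype.ext ?_
    rw [hX, ← map_pow, ← map_pow, coe_mul, coe_mul, coe_mul, hφ, hφ, hφ, Subgroup.coe_one,
      show (v : G) * (x0 * v * x0⁻¹) * (x0 ^ 2 * v * (x0 ^ 2)⁻¹) * (x0 ^ 3 * v * (x0 ^ 3)⁻¹) =
        ((v : G) * x0) ^ 4 * (x0 ^ 4)⁻¹ by simp [pow_succ, mul_assoc], h1, hx4, inv_one, mul_one]
  -- the odd element has no fixed point
  have hfix : ∀ v : V, Y v = v → v = 1 := by
    intro v hv
    by_contra hv1
    have h1 := congrArg Subtype.val hv
    rw [hφ] at h1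
    exact hy (hc (v : G) y (orderOf_of_sq v.2.2.1 fun e => hv1 (Subtype.ext e)) hyo
      (mul_inv_eq_iff_eq_mul.1 h1))
  have hYm : Y ^ m = 1 := by rw [hY, ← map_pow, hm, pow_orderOf_eq_one, map_one]
  have hSY : X ^ 2 * Y * (X ^ 2)⁻¹ = Y⁻¹ := by
    rw [← mul_eq_one_iff_eq_inv, hX, hY, ← map_pow, ← map_inv, ← map_mul, ← map_mul, ← map_mul]
    refine hker _ ((QuotientGroup.eq_one_iff _).1 ?_)
    show QuotientGroup.mk' O (x0 ^ 2 * y * (x0 ^ 2)⁻¹ * y) = 1
    rw [map_mul, map_mul, map_mul, map_inv, map_pow, hyinv, inv_mul_cancel]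
  obtain ⟨k, hk⟩ := hyo
  -- a fixed point of the square is a sum of two conjugates
  have hdec : ∀ v : V, (X ^ 2) v = v → ∃ w : V, w * (X ^ 2) w = v := by
    intro v hv
    set w := ∏ i ∈ Finset.range k, (Y ^ (i + 1)) v with hw
    refine ⟨w, ?_⟩
    have hzero : ∏ i ∈ Finset.range m, (Y ^ i) v = 1 := by
      refine hfix _ ?_
      rw [map_prod]
      calc ∏ i ∈ Finset.range m, Y ((Y ^ i) v) = ∏ i ∈ Finset.range m, (Y ^ (i + 1)) v :=
            Finset.prod_congr rfl fun i _ => by rw [pow_succ', MulAut.mul_apply]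
        _ = ∏ i ∈ Finset.range m, (Y ^ i) v := by
          have h1 := Finset.prod_range_succ' (fun i => (Y ^ i) v) m
          rw [Finset.prod_range_succ, hYm, pow_zero] at h1
          exact (mul_right_cancel h1).symm
    have hrefl : ∏ i ∈ Finset.range k, (Y ^ (k + 1 + i)) v = (X ^ 2) w := by
      rw [hw, map_prod, ← Finset.prod_range_reflect (fun i => (Y ^ (k + 1 + i)) v) k]
      refine Finset.prod_congr rfl fun i hi => ?_
      rw [Finset.mem_range] at hi
      have e1 : Y ^ (k + 1 + (k - 1 - i)) = X ^ 2 * Y ^ (i + 1) * (X ^ 2)⁻¹ := by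
        rw [← conj_pow, hSY, inv_pow, eq_inv_iff_mul_eq_one, ← pow_add, ← hYm]
        congr 1
        omega
      have e2 : ((X ^ 2)⁻¹ : MulAut V) v = v := by
        conv_lhs => rw [← hv]
        rw [← MulAut.mul_apply, inv_mul_cancel, MulAut.one_apply]
      rw [e1, MulAut.mul_apply, MulAut.mul_apply, e2]
    rw [hk, show 2 * k + 1 = (k + 1) + k by omega, Finset.prod_range_add, Finset.prod_range_succ',
      pow_zero, MulAut.one_apply, hrefl, ← hw, mul_comm w v, mul_assoc] at hzero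
    rw [eq_inv_of_mul_eq_one_right hzero, hinv]
  have hfixX : ∀ v : V, (X ^ 2) v = v → X v = v := by
    intro v hv
    obtain ⟨w, hwv⟩ := hdec v hv
    have e : X ((X ^ 2) w) = (X ^ 3) w := by rw [← MulAut.mul_apply, ← pow_succ']
    have h1 : v * X v = 1 := by
      calc v * X v = (w * (X ^ 2) w) * (X w * X ((X ^ 2) w)) := by rw [← map_mul, hwv]
        _ = w * X w * (X ^ 2) w * (X ^ 3) w := by
          rw [e, mul_mul_mul_comm, mul_assoc (w * X w)]
        _ = 1 := hnorm w
    rw [eq_inv_of_mul_eq_one_right h1, hinv]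
  have hS : ∀ v : V, (X ^ 2) v = v := by
    intro v
    have e : (X ^ 2) (X v) = (X ^ 3) v := by rw [← MulAut.mul_apply, ← pow_succ]
    have hu : (X ^ 2) (v * X v) = v * X v := by
      rw [map_mul, e, eq_comm, ← mul_inv_eq_one, hinv, ← mul_assoc]
      exact hnorm v
    have h2 := hfixX _ hu
    rw [map_mul, ← MulAut.mul_apply, ← pow_two, mul_comm v (X v)] at h2
    exact mul_left_cancel h2
  -- so the odd element acts trivially
  have hS1 : X ^ 2 = 1 := MulEquiv.ext hS
  rw [hS1, one_mul, inv_one, mul_one] at hSY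
  have hY1 : Y = 1 := by
    have h2 : Y ^ 2 = 1 := by
      rw [pow_two]; nth_rw 2 [hSY]; exact mul_inv_cancel Y
    have h3 : Y ^ m = Y := by rw [hk, pow_succ, pow_mul, h2, one_pow, one_mul]
    rw [← h3, hYm]
  exact hv0 (hfix v0 (by rw [hY1, MulAut.one_apply]))

/-- A normal subgroup with trivial centralizer is everything, by its automorphisms. -/
theorem eq_top_of_inner {N : Subgroup G} [N.Normal] {M : Type v} [Group M] (e : N ≃* M)
    (hC : centralizer (N : Set G) = ⊥)
    (h : ∀ 𝒢 : Subgroup (MulAut M), (MulAut.conj : M →* MulAut M).range ≤ 𝒢 → Nonempty (G ≃* 𝒢) →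
      𝒢 = (MulAut.conj : M →* MulAut M).range) : N = ⊤ := by
  let ψ : G →* MulAut M := (MulAut.congr e).toMonoidHom.comp MulAut.conjNormal
  have hψ : Function.Injective ψ := by
    refine (MulAut.congr e).injective.comp ((injective_iff_map_eq_one _).2 fun g hg => ?_)
    rw [← mem_bot, ← hC, mem_centralizer_iff]
    intro n hn
    have h1 : g * n * g⁻¹ = n := by
      rw [← MulAut.conjNormal_apply (H := N) g ⟨n, hn⟩, hg]; rfl
    exact (mul_inv_eq_iff_eq_mul.1 h1).symm
  have hconj : ∀ n : N, ψ (n : G) = MulAut.conj (e n) := fun n => MulEquiv.ext fun z => by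
    show e (MulAut.conjNormal (n : G) (e.symm z)) = _
    rw [show MulAut.conjNormal (n : G) (e.symm z) = n * e.symm z * n⁻¹ from
      Subtype.ext (MulAut.conjNormal_apply _ _), map_mul, map_mul, map_inv, e.apply_symm_apply,
      MulAut.conj_apply]
  have hin : (MulAut.conj : M →* MulAut M).range ≤ ψ.range := by
    rintro _ ⟨z, rfl⟩
    exact ⟨(e.symm z : G), by rw [hconj, e.apply_symm_apply]⟩
  have key := h ψ.range hin ⟨MonoidHom.ofInjective hψ⟩
  refine eq_top_iff.2 fun g _ => ?_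
  obtain ⟨z, hz⟩ : ψ g ∈ (MulAut.conj : M →* MulAut M).range := key ▸ ⟨g, rfl⟩
  rw [← e.apply_symm_apply z, ← hconj] at hz
  exact hψ hz ▸ (e.symm z).2

theorem isCIT_equiv {H : Type v} [Group H] (e : G ≃* H) (hc : CIT.IsCIT G) : CIT.IsCIT H := by
  intro t y ht hy h
  have key := hc (e.symm t) (e.symm y) (by rw [MulEquiv.orderOf_eq, ht]) (by rwa [MulEquiv.orderOf_eq])
    (by rw [← map_mul, ← map_mul, h])
  simpa using congrArg e key

theorem orderOf_four_equiv {H : Type v} [Group H] (e : G ≃* H)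
    (h24 : ∀ g : G, 2 ∣ orderOf g → orderOf g = 2 ∨ orderOf g = 4) :
    ∀ x : H, 2 ∣ orderOf x → orderOf x = 2 ∨ orderOf x = 4 := fun x hx => by
  rw [← MulEquiv.orderOf_eq e.symm x] at hx ⊢
  exact h24 _ hx

/-- `PSL₂` of two or three elements is not simple nonabelian. -/
theorem five_le_card_of_simple {F : Type} [Field F] [Fintype F] [IsSimpleGroup G]
    (hna : ¬ IsMulCommutative G) (e : G ≃* Matrix.ProjectiveSpecialLinearGroup (Fin 2) F)
    (hq : (Fintype.card F).Prime) : 5 ≤ Fintype.card F := by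
  by_contra h5
  have hcard := CfsgLib.Classical.card_psl2 (F := F)
  rw [← Nat.card_congr e.toEquiv] at hcard
  have hs : ¬ Group.IsSolvable G := fun h =>
    hna (isMulCommutative_iff.2 (IsSimpleGroup.comm_iff_isSolvable.2 h))
  have h4 : Fintype.card F ≠ 4 := fun e => by rw [e] at hq; norm_num at hq
  rcases (show Fintype.card F = 2 ∨ Fintype.card F = 3 by have := hq.two_le; omega) with h | h <;>
    rw [h] at hcard
  · rw [show Nat.gcd 2 (2 - 1) = 1 from rfl] at hcard
    exact hs (Cfsg.Agent.S0144.result 2 3 1 1 Nat.prime_two Nat.prime_three (by omega))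
  · rw [show Nat.gcd 2 (3 - 1) = 2 from rfl] at hcard
    exact hs (Cfsg.Agent.S0144.result 2 3 2 1 Nat.prime_two Nat.prime_three (by omega))

/-- The models of the simple groups with these spectra. -/
theorem cit_models [IsSimpleGroup G] (hna : ¬ IsMulCommutative G) (hc : CIT.IsCIT G)
    (h24 : ∀ g : G, 2 ∣ orderOf g → orderOf g = 2 ∨ orderOf g = 4) :
    (∃ (K : Type) (_ : Field K) (_ : Fintype K), (∃ n : ℕ, 2 ≤ n ∧ Fintype.card K = 2 ^ n) ∧
      Nonempty (G ≃* Matrix.ProjectiveSpecialLinearGroup (Fin 2) K)) ∨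
    (∃ (K : Type) (_ : Field K) (_ : Fintype K),
      (Fintype.card K = 5 ∨ Fintype.card K = 7 ∨ Fintype.card K = 9) ∧
      Nonempty (G ≃* Matrix.ProjectiveSpecialLinearGroup (Fin 2) K)) ∨
    (∃ (K : Type) (_ : Field K) (_ : Fintype K), Fintype.card K = 4 ∧
        Nonempty (G ≃* Matrix.ProjectiveSpecialLinearGroup (Fin 3) K)) ∨
    Cfsg.Lie.IsoSuzuki G := by
  rcases CIT.simple_cases hna hc with ⟨K, iK, iK', hK, ⟨e⟩⟩ | h | h
  · rcases hK with h9 | h2 | ⟨hp, k, hk⟩
    · exact Or.inr (Or.inl ⟨K, iK, iK', Or.inr (Or.inr h9), ⟨e⟩⟩)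
    · exact Or.inl ⟨K, iK, iK', h2, ⟨e⟩⟩
    refine Or.inr (Or.inl ⟨K, iK, iK', ?_, ⟨e⟩⟩)
    have h5 := five_le_card_of_simple hna e hp
    by_contra hcon
    push Not at hcon
    have hodd : Fintype.card K % 2 = 1 := Nat.odd_iff.1 (hp.odd_of_ne_two (by omega))
    -- a two-power element order of at least eight
    have hk3 : 4 ≤ k := by
      by_contra hk3
      push Not at hk3
      interval_cases k <;> omega
    obtain ⟨p, hpc⟩ := CharP.exists K
    haveI := hpc
    obtain ⟨f, hpp, hf⟩ := FiniteField.card K p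
    haveI : Fact p.Prime := ⟨hpp⟩
    have hmem : 2 ^ 3 ∈ Set.range (orderOf : Matrix.ProjectiveSpecialLinearGroup (Fin 2) K → ℕ) := by
      rw [Cfsg.Agent.S2475.result p (by omega),
        show Nat.gcd 2 (Fintype.card K - 1) = 2 from Nat.gcd_eq_left (by omega)]
      obtain ⟨j, rfl⟩ : ∃ j, k = j + 4 := ⟨k - 4, by omega⟩
      rw [pow_add] at hk
      rcases hk with hk | hk
      · exact Or.inr (Or.inl (Nat.dvd_of_mod_eq_zero (by omega)))
      · exact Or.inr (Or.inr (Nat.dvd_of_mod_eq_zero (by omega)))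
    obtain ⟨x, hx⟩ := hmem
    have hx' : orderOf (e.symm x) = 8 := (MulEquiv.orderOf_eq _ x).trans hx
    rcases h24 _ (hx' ▸ (by norm_num : 2 ∣ 8)) with e' | e' <;> omega
  · exact Or.inr (Or.inr (Or.inl h))
  · exact Or.inr (Or.inr (Or.inr h))

/-- A CIT group of this kind with a simple normal subgroup with trivial centralizer is that subgroup. -/
theorem eq_top_of_cit (hc : CIT.IsCIT G) (h24 : ∀ g : G, 2 ∣ orderOf g → orderOf g = 2 ∨ orderOf g = 4)
    {N : Subgroup G} [N.Normal] [IsSimpleGroup N] (hna : ¬ IsMulCommutative N)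
    (hC : centralizer (N : Set G) = ⊥) : N = ⊤ := by
  have transfer : ∀ {M : Type} [Group M], (N ≃* M) → IsSimpleGroup M ∧ ¬ IsMulCommutative M := by
    intro M _ e
    haveI : Nontrivial M := e.symm.toEquiv.nontrivial
    exact ⟨e.symm.isSimpleGroup, fun h => hna (isMulCommutative_iff.2 fun a b => e.injective (by
      rw [map_mul, map_mul, isMulCommutative_iff.1 h]))⟩
  have hN : ∀ g : N, 2 ∣ orderOf g → orderOf g = 2 ∨ orderOf g = 4 := fun g hg => by
    rw [← orderOf_coe] at hg ⊢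
    exact h24 _ hg
  rcases cit_models hna (hc.subgroup N) hN with ⟨K, iK, iK', ⟨n, hn, hK⟩, ⟨e⟩⟩ |
    ⟨K, iK, iK', hK, ⟨e⟩⟩ | ⟨K, iK, iK', hK, ⟨e⟩⟩ | ⟨K, iK, iK', m, hm, hK, ⟨e⟩⟩
  · haveI : CharP K 2 := CfsgLib.Classical.PSL2Spectrum.char_two_of_dvd (hK ▸ dvd_pow_self 2 (by omega))
    obtain ⟨hs, hnaM⟩ := transfer e
    haveI := hs
    exact eq_top_of_inner e hC fun 𝒢 hin ⟨eG⟩ => CIT.inner_psl_two_even_of_fix hnaM hin
      (fixTrivial_of_isCIT (CIT.conj_injective_of_simple hnaM) hin (isCIT_equiv eG hc))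
  · obtain ⟨hs, hnaM⟩ := transfer e
    haveI := hs
    exact eq_top_of_inner e hC fun 𝒢 hin ⟨eG⟩ => inner_psl_two_small_of_cit hnaM hin hK
      (isCIT_equiv eG hc) (orderOf_four_equiv eG h24)
  · haveI : CharP K 2 := CfsgLib.Classical.PSL2Spectrum.char_two_of_dvd (hK ▸ (by norm_num))
    obtain ⟨hs, hnaM⟩ := transfer e
    haveI := hs
    exact eq_top_of_inner e hC fun 𝒢 hin ⟨eG⟩ => CIT.inner_psl_three_of_fix hnaM hin
      (fixTrivial_of_isCIT (CIT.conj_injective_of_simple hnaM) hin (isCIT_equiv eG hc))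
  · obtain ⟨e'⟩ := CfsgLib.Lie.Suz.exists_twEquiv (F := K) (m := m) hm hK
    exact eq_top_of_inner (e.trans e'.symm) hC fun 𝒢 hin ⟨eG⟩ => CIT.inner_suz_of_fix hm hK hin
      (fixTrivial_of_isCIT (CfsgLib.Lie.Suz.conj_injective hm hK) hin (isCIT_equiv eG hc))

end CfsgLib.OneComposite
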