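import Mathlib

/-!
# Numbers next to a prime power with few composite divisors
-/

set_option autoImplicit false

namespace CfsgLib.OneComposite

/-- `2 ^ n - 1` and `2 ^ n + 1` with one composite divisor between them. -/
theorem even_numeric {n : ℕ} (hn : 2 ≤ n)
    (hU : ∀ a b : ℕ, (a ∣ 2 ^ n - 1 ∨ a ∣ 2 ^ n + 1) → (b ∣ 2 ^ n - 1 ∨ b ∣ 2 ^ n + 1) →
      1 < a → ¬ a.Prime → 1 < b → ¬ b.Prime → a = b) :
    n = 2 ∨ n = 3 ∨ n = 4 ∨
      ((2 ^ n - 1).Prime ∧ ∃ r : ℕ, r.Prime ∧ 2 ^ n + 1 = 3 * r) := by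
  rcases Nat.even_or_odd' n with ⟨k, rfl | rfl⟩
  · by_cases hk : k ≤ 2
    · omega
    exfalso
    have h8 : 8 ≤ 2 ^ k := le_trans (by norm_num) (Nat.pow_le_pow_right two_pos (show 3 ≤ k by omega))
    have hsq : 2 ^ (2 * k) - 1 = (2 ^ k - 1) * (2 ^ k + 1) := by
      rw [mul_comm 2 k, pow_mul, sq, mul_comm (2 ^ k - 1), ← Nat.mul_self_sub_mul_self_eq, one_mul]
    have hcomp : ¬ (2 ^ (2 * k) - 1).Prime := by
      rw [hsq]
      exact Nat.not_prime_mul (by omega) (by omega)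
    have hgt : 2 ^ k + 1 < 2 ^ (2 * k) - 1 := by
      rw [hsq]
      nlinarith [show 2 ≤ 2 ^ k - 1 by omega]
    have hA : (2 ^ k - 1).Prime := by
      by_contra hA
      have := hU (2 ^ k - 1) _ (Or.inl (hsq ▸ dvd_mul_right _ _)) (Or.inl dvd_rfl) (by omega) hA
        (by omega) hcomp
      omega
    have hB : (2 ^ k + 1).Prime := by
      by_contra hB
      have := hU (2 ^ k + 1) _ (Or.inl (hsq ▸ dvd_mul_left _ _)) (Or.inl dvd_rfl) (by omega) hB
        (by omega) hcomp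
      omega
    have h3 : 3 ∣ 2 ^ k - 1 ∨ 3 ∣ 2 ^ k + 1 := by
      have : 2 ^ k % 3 ≠ 0 := fun h => by
        have := Nat.Prime.dvd_of_dvd_pow Nat.prime_three (Nat.dvd_of_mod_eq_zero h)
        norm_num at this
      omega
    rcases h3 with h | h
    · have := (Nat.prime_dvd_prime_iff_eq Nat.prime_three hA).1 h; omega
    · have := (Nat.prime_dvd_prime_iff_eq Nat.prime_three hB).1 h; omega
  · by_cases hk : k ≤ 1
    · omega
    refine Or.inr (Or.inr (Or.inr ?_))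
    obtain ⟨r, hr⟩ : 3 ∣ 2 ^ (2 * k + 1) + 1 := by
      rw [pow_succ, pow_mul]
      have : (2 ^ 2) ^ k % 3 = 1 := by rw [Nat.pow_mod]; norm_num
      omega
    have h32 : 32 ≤ 2 ^ (2 * k + 1) :=
      le_trans (by norm_num) (Nat.pow_le_pow_right two_pos (show 5 ≤ 2 * k + 1 by omega))
    have hcomp : ¬ (2 ^ (2 * k + 1) + 1).Prime := hr ▸ Nat.not_prime_mul (by omega) (by omega)
    refine ⟨?_, r, ?_, hr⟩
    · by_contra hA
      have := hU (2 ^ (2 * k + 1) - 1) _ (Or.inl dvd_rfl) (Or.inr dvd_rfl) (by omega) hA (by omega) hcomp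
      omega
    · by_contra hA
      have := hU r _ (Or.inr (hr ▸ dvd_mul_left _ _)) (Or.inr dvd_rfl) (by omega) hA (by omega) hcomp
      omega

/-- `(q - 1) / 2` and `(q + 1) / 2` with no composite divisor other than `2r`. -/
theorem odd_numeric {p n q r : ℕ} (hp : p.Prime) (hq : q = p ^ n) (hodd : Odd q) (h5 : 5 ≤ q)
    (hr : r.Prime) (hr2 : r ≠ 2)
    (hU : ∀ a : ℕ, (a ∣ (q - 1) / 2 ∨ a ∣ (q + 1) / 2) → 1 < a → ¬ a.Prime → a = 2 * r) :
    q = 5 ∨ q = 7 ∨ q = 11 ∨ q = 13 ∨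
      (p = 3 ∧ ∃ a s : ℕ, a.Prime ∧ s.Prime ∧ 3 ^ n - 1 = 2 * a ∧ 3 ^ n + 1 = 4 * s) := by
  obtain ⟨m, hm⟩ := hodd
  have e1 : (q - 1) / 2 = m := by omega
  have e2 : (q + 1) / 2 = m + 1 := by omega
  rw [e1, e2] at hU
  have hev : ∀ e, (e ∣ m ∨ e ∣ m + 1) → e % 2 = 0 → 2 < e → e = 2 * r := fun e he h2 hlt =>
    hU e he (by omega) fun h => by rcases h.eq_two_or_odd with h' | h' <;> omega
  have hodd' : ∀ c, (c ∣ m ∨ c ∣ m + 1) → c % 2 = 1 → 1 < c → c.Prime := fun c hc h2 hlt => by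
    by_contra h
    have := hU c hc hlt h
    omega
  have hr1 : r % 2 = 1 := Nat.odd_iff.1 (hr.odd_of_ne_two hr2)
  by_cases hp3 : p = 3
  · subst hp3
    refine Or.inr (Or.inr (Or.inr (Or.inr ⟨rfl, ?_⟩)))
    rcases Nat.even_or_odd' n with ⟨j, rfl | rfl⟩
    · exfalso
      have h8 : q % 8 = 1 := by rw [hq, pow_mul, Nat.pow_mod]; norm_num
      have := hev m (Or.inl dvd_rfl) (by omega) (by omega)
      omega
    · have h4 : q % 4 = 3 := by
        rw [hq, pow_succ, pow_mul, Nat.mul_mod, Nat.pow_mod]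
        norm_num
      have h3 := hev (m + 1) (Or.inr dvd_rfl) (by omega) (by omega)
      exact ⟨m, r, hodd' m (Or.inl dvd_rfl) (by omega) (by omega), hr, by omega, by omega⟩
  · have hq3 : q % 3 ≠ 0 := fun h => hp3 ((Nat.prime_dvd_prime_iff_eq Nat.prime_three hp).1
      (Nat.prime_three.dvd_of_dvd_pow (hq ▸ Nat.dvd_of_mod_eq_zero h))).symm
    by_cases hm2 : m ≤ 3
    · omega
    have hm1 : m % 3 ≠ 1 := fun h => hq3 (by rw [hm, Nat.add_mod, Nat.mul_mod, h]; norm_num)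
    have h3 : m % 3 = 0 ∨ (m + 1) % 3 = 0 := by
      rcases (show m % 3 = 0 ∨ m % 3 = 1 ∨ m % 3 = 2 by omega) with h | h | h
      · exact Or.inl h
      · exact absurd h hm1
      · exact Or.inr (by rw [Nat.add_mod, h])
    rcases Nat.mod_two_eq_zero_or_one m with h | h
    · have h1 := hev m (Or.inl dvd_rfl) h (by omega)
      have h2 := hodd' (m + 1) (Or.inr dvd_rfl) (by omega) (by omega)
      rcases h3 with h3 | h3
      · have := (Nat.prime_dvd_prime_iff_eq Nat.prime_three hr).1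
          ((Nat.prime_three.dvd_mul.1 (h1 ▸ Nat.dvd_of_mod_eq_zero h3)).resolve_left (by norm_num))
        omega
      · have := (Nat.prime_dvd_prime_iff_eq Nat.prime_three h2).1 (Nat.dvd_of_mod_eq_zero h3)
        omega
    · have h1 := hev (m + 1) (Or.inr dvd_rfl) (by omega) (by omega)
      have h2 := hodd' m (Or.inl dvd_rfl) h (by omega)
      rcases h3 with h3 | h3
      · have := (Nat.prime_dvd_prime_iff_eq Nat.prime_three h2).1 (Nat.dvd_of_mod_eq_zero h3)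
        omega
      · have := (Nat.prime_dvd_prime_iff_eq Nat.prime_three hr).1
          ((Nat.prime_three.dvd_mul.1 (h1 ▸ Nat.dvd_of_mod_eq_zero h3)).resolve_left (by norm_num))
        omega

end CfsgLib.OneComposite
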