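import Cfsg.Agent.Lib.CIT.Outer
import Cfsg.Agent.Lib.OneComposite.Basic
import Cfsg.Agent.S2475
import Cfsg.Agent.Lib.Descent.FixedField

/-!
# Automorphism groups of `PSL₂(q)` with a restricted spectrum

A group of automorphisms containing the inner ones, in which the even element orders are two and `2r`
and the multiples of `r` are `r` and `2r`, is the inner group.  So is a CIT group of automorphisms in
which they are two and four.
-/

set_option autoImplicit false
set_option linter.unusedSectionVars false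
set_option linter.style.haveILetI false

namespace CfsgLib.OneComposite

open scoped Matrix

open CfsgLib.AutPSL
open CfsgLib.Descent (glMap nprod)

universe u

section General

variable {P : Type u} [Group P] [Finite P] {𝒢 : Subgroup (MulAut P)}

theorem conj_comm_of_fix {f : MulAut P} {w : P} (h : f w = w) :
    MulAut.conj w * f = f * MulAut.conj w := MulEquiv.ext fun x => by simp [map_mul, h]

theorem orderOf_inner (hinj : Function.Injective (MulAut.conj : P →* MulAut P))
    (hin : (MulAut.conj : P →* MulAut P).range ≤ 𝒢) (w : P) :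
    orderOf (⟨MulAut.conj w, hin ⟨w, rfl⟩⟩ : 𝒢) = orderOf w := by
  rw [Subgroup.orderOf_mk, orderOf_injective MulAut.conj hinj w]

/-- A fixed involution and a fixed element of odd order restrict a nontrivial member. -/
theorem fixTrivial_of_isCIT (hinj : Function.Injective (MulAut.conj : P →* MulAut P))
    (hin : (MulAut.conj : P →* MulAut P).range ≤ 𝒢) (hc : CIT.IsCIT 𝒢) : CIT.FixTrivial 𝒢 := by
  haveI : Finite (MulAut P) := Finite.of_injective _ DFunLike.coe_injective
  intro f hf z y hz hy hne hfz hfy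
  set f' : 𝒢 := ⟨f, hf⟩
  set Z : 𝒢 := ⟨MulAut.conj z, hin ⟨z, rfl⟩⟩
  set Y : 𝒢 := ⟨MulAut.conj y, hin ⟨y, rfl⟩⟩
  by_contra hf1
  have hzf : Z * f' = f' * Z := Subtype.ext (conj_comm_of_fix hfz)
  have hyf : Y * f' = f' * Y := Subtype.ext (conj_comm_of_fix hfy)
  obtain ⟨s, hs, hsd⟩ := Nat.exists_prime_and_dvd (n := orderOf f')
    (fun e => hf1 (congrArg Subtype.val (orderOf_eq_one_iff.1 e)))
  have ho : orderOf (f' ^ (orderOf f' / s)) = s := orderOf_pow_orderOf_div (orderOf_pos f').ne' hsd
  rcases hs.eq_two_or_odd' with e | e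
  · have h := hc (f' ^ (orderOf f' / s)) Y (ho.trans e)
      (by rw [orderOf_inner hinj hin]; exact hy) ((show Commute Y f' from hyf).pow_right _).eq
    have h' : y = 1 := hinj ((congrArg Subtype.val h).trans (map_one MulAut.conj).symm)
    exact hne (by rw [h', one_mul, mul_one])
  · have h := hc Z (f' ^ (orderOf f' / s)) (by rw [orderOf_inner hinj hin, hz]) (ho.symm ▸ e)
      (((show Commute Z f' from hzf).pow_right _).symm).eq
    rw [h, orderOf_one] at ho
    exact hs.ne_one ho.symm

/-- With the spectrum hypothesis a fixed involution and a fixed element of order three force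
`r = 3`. -/
theorem eq_three_of_fix {r : ℕ} (hinj : Function.Injective (MulAut.conj : P →* MulAut P))
    (hin : (MulAut.conj : P →* MulAut P).range ≤ 𝒢) (hS : Spec 𝒢 r) {f : MulAut P} (hf : f ∈ 𝒢)
    (hf1 : f ≠ 1) {z y : P} (hz : orderOf z = 2) (hy : orderOf y = 3) (hfz : f z = z) (hfy : f y = y) :
    r = 3 := by
  haveI : Finite (MulAut P) := Finite.of_injective _ DFunLike.coe_injective
  set f' : 𝒢 := ⟨f, hf⟩
  set Z : 𝒢 := ⟨MulAut.conj z, hin ⟨z, rfl⟩⟩
  set Y : 𝒢 := ⟨MulAut.conj y, hin ⟨y, rfl⟩⟩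
  have hzf : Z * f' = f' * Z := Subtype.ext (conj_comm_of_fix hfz)
  have hyf : Y * f' = f' * Y := Subtype.ext (conj_comm_of_fix hfy)
  have hYo : orderOf Y = 3 := by rw [orderOf_inner hinj hin, hy]
  obtain ⟨s, hs, hsd⟩ := Nat.exists_prime_and_dvd (n := orderOf f')
    (fun e => hf1 (congrArg Subtype.val (orderOf_eq_one_iff.1 e)))
  set w := f' ^ (orderOf f' / s)
  have ho : orderOf w = s := orderOf_pow_orderOf_div (orderOf_pos f').ne' hsd
  have hcz : Commute Z w := (show Commute Z f' from hzf).pow_right _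
  have hcy : Commute Y w := (show Commute Y f' from hyf).pow_right _
  rcases hs.eq_two_or_odd' with e | e
  · rcases hS.invol_pair (ho.trans e) (by rw [hYo]; decide) hcy.symm.eq with h | h
    · rw [h, orderOf_one] at hYo; omega
    · exact h.symm.trans hYo
  · have hwr : orderOf w = r := by
      rcases hS.invol_pair (by rw [orderOf_inner hinj hin, hz]) (ho.symm ▸ e) hcz.eq with h | h
      · rw [h, orderOf_one] at ho; exact absurd ho.symm hs.ne_one
      · exact h
    rcases hS.prime_pair hwr (by rw [hYo]; exact Nat.prime_three) hcy.symm.eq with h | h <;>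
      rw [hYo] at h
    · omega
    · exact h.symm

end General

section SLTwo

variable {F : Type} [Field F] [Fintype F] {𝒢 : Subgroup (MulAut (Matrix.ProjectiveSpecialLinearGroup (Fin 2) F))}

local notation "P2" => Matrix.ProjectiveSpecialLinearGroup (Fin 2) F

/-- Change the linear part of a member inside its determinant class. -/
theorem ind_mem_of_det (hin : (MulAut.conj : P2 →* MulAut P2).range ≤ 𝒢) {g H : GL (Fin 2) F}
    {σ : RingAut F} (hg : ind g σ ∈ 𝒢) {x : F} (hx : g.1.det = H.1.det * (x * x)) : ind H σ ∈ 𝒢 := by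
  have hH : H.1.det ≠ 0 := (Matrix.GeneralLinearGroup.det H).ne_zero
  have hx0 : x ≠ 0 := fun e => (Matrix.GeneralLinearGroup.det g).ne_zero (by
    show g.1.det = 0
    rw [hx, e, mul_zero, mul_zero])
  let s : Matrix.SpecialLinearGroup (Fin 2) F := ⟨x⁻¹ • (g * H⁻¹).1, by
    have h' : (g * H⁻¹).1.det * H.1.det = g.1.det := by
      rw [← Matrix.det_mul, ← Units.val_mul, inv_mul_cancel_right]
    have h'' : (g * H⁻¹).1.det = x * x := mul_right_cancel₀ hH (h'.trans (hx.trans (mul_comm _ _)))
    rw [Matrix.det_smul, Fintype.card_fin, h'']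
    field_simp⟩
  have hg' : g = scal (Units.mk0 x hx0) * (Matrix.SpecialLinearGroup.toGL s * H) := by
    refine Units.ext ?_
    rw [Units.val_mul, Units.val_mul, scal_val]
    show g.1 = (x • (1 : Matrix (Fin 2) (Fin 2) F)) * ((x⁻¹ • (g * H⁻¹).1) * H.1)
    rw [Matrix.smul_mul, one_mul, Matrix.smul_mul, smul_smul, mul_inv_cancel₀ hx0, one_smul,
      ← Units.val_mul, inv_mul_cancel_right]
  have he : ind g σ = MulAut.conj (proj s) * ind H σ := by
    rw [hg', ind_scal_mul, conj_proj, indHom_apply, ind_mul, one_mul]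
    rfl
  have := Subgroup.mul_mem _ (Subgroup.inv_mem _ (hin ⟨proj s, rfl⟩)) hg
  rwa [he, inv_mul_cancel_left] at this

/-- The criterion for being inner. -/
theorem inner_of_parts (hin : (MulAut.conj : P2 →* MulAut P2).range ≤ 𝒢)
    (h1 : ∀ σ : RingAut F, ind (1 : GL (Fin 2) F) σ ∈ 𝒢 → σ = 1)
    (h2 : ∀ (g : GL (Fin 2) F) (σ : RingAut F), ¬ IsSquare g.1.det → ind g σ ∈ 𝒢 → False) :
    𝒢 = (MulAut.conj : P2 →* MulAut P2).range := by
  refine le_antisymm (fun β hβ => ?_) hin
  obtain ⟨g, σ, h | ⟨h3, -⟩⟩ := aut_classify le_rfl β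
  swap; · omega
  subst h
  by_cases hsq : IsSquare g.1.det
  swap; · exact (h2 g σ hsq hβ).elim
  obtain ⟨x, hx⟩ := hsq
  have hσ : σ = 1 := h1 σ (ind_mem_of_det hin hβ (H := 1) (x := x) (by rw [Units.val_one, Matrix.det_one, one_mul, hx]))
  subst hσ
  have hx0 : x ≠ 0 := fun e => (Matrix.GeneralLinearGroup.det g).ne_zero (by
    show g.1.det = 0
    rw [hx, e, mul_zero])
  let s : Matrix.SpecialLinearGroup (Fin 2) F := ⟨x⁻¹ • g.1, by
    rw [Matrix.det_smul, Fintype.card_fin, hx]; field_simp⟩
  have hg : g = scal (Units.mk0 x hx0) * Matrix.SpecialLinearGroup.toGL s := by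
    refine Units.ext ?_
    rw [Units.val_mul, scal_val]
    show g.1 = (x • (1 : Matrix (Fin 2) (Fin 2) F)) * (x⁻¹ • g.1)
    rw [Matrix.smul_mul, one_mul, smul_smul, mul_inv_cancel₀ hx0, one_smul]
  rw [hg, ind_scal_mul, ← indHom_apply, ← conj_proj]
  exact ⟨_, rfl⟩

theorem ringChar_ne_two (hodd : Fintype.card F % 2 = 1) : ringChar F ≠ 2 := fun e => by
  have := FiniteField.even_card_iff_char_two.1 e
  omega

theorem pow_half_of_not_isSquare (hodd : Fintype.card F % 2 = 1) {a : F} (ha : ¬ IsSquare a) :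
    a ^ (Fintype.card F / 2) = -1 := by
  have ha0 : a ≠ 0 := fun e => ha (e ▸ ⟨0, (mul_zero 0).symm⟩)
  exact (FiniteField.pow_dichotomy (ringChar_ne_two hodd) ha0).resolve_left
    fun h => ha ((FiniteField.isSquare_iff (ringChar_ne_two hodd) ha0).2 h)

theorem exists_mul_sq (hodd : Fintype.card F % 2 = 1) {a b : F} (ha : ¬ IsSquare a) (hb : ¬ IsSquare b) :
    ∃ x : F, a = b * (x * x) := by
  have hb0 : b ≠ 0 := fun e => hb (e ▸ ⟨0, (mul_zero 0).symm⟩)
  have ha0 : a ≠ 0 := fun e => ha (e ▸ ⟨0, (mul_zero 0).symm⟩)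
  obtain ⟨y, hy⟩ : IsSquare (a * b) := by
    refine (FiniteField.isSquare_iff (ringChar_ne_two hodd) (mul_ne_zero ha0 hb0)).2 ?_
    rw [mul_pow, pow_half_of_not_isSquare hodd ha, pow_half_of_not_isSquare hodd hb]
    norm_num
  refine ⟨y / b, ?_⟩
  field_simp
  linear_combination hy

theorem det_nprod (σ : RingAut F) (A : GL (Fin 2) F) {m : ℕ} (hm : ∀ a : F, σ a ^ m = σ (a ^ m))
    (hA : A.1.det ^ m = -1) : ∀ k, (nprod σ A k).1.det ^ m = (-1) ^ k
  | 0 => by simp [nprod]
  | k + 1 => by
    have ih := det_nprod σ A hm hA k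
    rw [nprod, Units.val_mul, Matrix.det_mul, mul_pow, CfsgLib.Descent.glMap_val,
      show ((nprod σ A k).1.map σ).det = σ (nprod σ A k).1.det from
        (RingHom.map_det σ.toRingHom _).symm, hm, ih, hA, map_pow, map_neg, map_one, pow_succ']

/-- Diagonal matrices. -/
def diag2 (a b : Fˣ) : GL (Fin 2) F :=
  Matrix.GeneralLinearGroup.mkOfDetNeZero !![(a : F), 0; 0, (b : F)] (by simp [Matrix.det_fin_two])

theorem diag2_val (a b : Fˣ) : (diag2 a b).1 = !![(a : F), 0; 0, (b : F)] := rfl

/-- The diagonal automorphisms. -/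
def diagAut : Fˣ →* MulAut P2 where
  toFun a := indHom (diag2 a 1)
  map_one' := by
    rw [← map_one (indHom (n := 2) (F := F))]
    refine congrArg indHom (Units.ext ?_)
    rw [diag2_val]
    ext i j; fin_cases i <;> fin_cases j <;> simp
  map_mul' a b := by
    rw [← map_mul]
    refine congrArg indHom (Units.ext ?_)
    rw [Units.val_mul, diag2_val, diag2_val, diag2_val]
    ext i j; fin_cases i <;> fin_cases j <;> simp [Matrix.mul_apply, Fin.sum_univ_two]

theorem diagAut_injective : Function.Injective (diagAut (F := F)) := by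
  refine (injective_iff_map_eq_one _).2 fun a h => ?_
  obtain ⟨c, hc⟩ := scalar_of_indHom le_rfl (show indHom (diag2 a 1) = (1 : MulAut P2) from h)
  have h00 := congrFun (congrFun hc 0) 0
  have h11 := congrFun (congrFun hc 1) 1
  simp [diag2_val] at h00 h11
  exact Units.ext (by rw [Units.val_one, h00, ← h11])

theorem indHom_diag2 (a b : Fˣ) : (indHom (diag2 a b) : MulAut P2) = diagAut (a * b⁻¹) := by
  have h : diag2 a b = scal b * diag2 (a * b⁻¹) 1 := by
    refine Units.ext ?_
    rw [Units.val_mul, scal_val, diag2_val, diag2_val]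
    ext i j
    fin_cases i <;> fin_cases j <;>
      simp [Matrix.mul_apply, Fin.sum_univ_two, mul_left_comm (b : F) (a : F)]
  rw [h, indHom_apply, ind_scal_mul, ← indHom_apply]
  rfl

theorem exists_unit_gen : ∃ ν : Fˣ, orderOf ν = Fintype.card F - 1 := by
  obtain ⟨ν, hν⟩ := IsCyclic.exists_ofOrder_eq_natCard (α := Fˣ)
  exact ⟨ν, by rw [hν, Nat.card_units, Nat.card_eq_fintype_card]⟩

theorem not_isSquare_gen (hodd : Fintype.card F % 2 = 1) {ν : Fˣ} (hν : orderOf ν = Fintype.card F - 1) :
    ¬ IsSquare (ν : F) := fun h => by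
  have h1 := (FiniteField.isSquare_iff (ringChar_ne_two hodd) ν.ne_zero).1 h
  have := Fintype.one_lt_card (α := F)
  have h2 : orderOf ν ∣ Fintype.card F / 2 := orderOf_dvd_of_pow_eq_one (Units.ext (by
    rw [Units.val_pow_eq_pow_val, h1, Units.val_one]))
  have := Nat.le_of_dvd (by omega) h2
  omega

/-- The element `[0, -1; 1, -1]` of order three. -/
def threeEl : Matrix.SpecialLinearGroup (Fin 2) F := ⟨!![0, -1; 1, -1], by simp [Matrix.det_fin_two]⟩

/-- The element `[0, 1; -1, 0]`. -/
def twoEl : Matrix.SpecialLinearGroup (Fin 2) F := ⟨!![0, 1; -1, 0], by simp [Matrix.det_fin_two]⟩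

theorem proj_ne_one_of_offdiag {s : Matrix.SpecialLinearGroup (Fin 2) F} (h : s.1 1 0 ≠ 0) :
    (proj s : P2) ≠ 1 := fun e => by
  obtain ⟨c, hc⟩ := proj_eq_imp (e.trans (map_one proj).symm)
  have := congrFun (congrFun hc 1) 0
  simp at this
  exact h this

theorem orderOf_threeEl : orderOf (proj (threeEl (F := F)) : P2) = 3 := by
  haveI : Fact (Nat.Prime 3) := ⟨Nat.prime_three⟩
  refine orderOf_eq_prime ?_ (proj_ne_one_of_offdiag (by simp [threeEl]))
  rw [← map_pow, show (threeEl (F := F)) ^ 3 = 1 from Subtype.ext (by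
    rw [Matrix.SpecialLinearGroup.coe_pow, pow_succ, pow_two]
    ext i j; fin_cases i <;> fin_cases j <;> simp [threeEl, Matrix.mul_apply, Fin.sum_univ_two]),
    map_one]

theorem orderOf_twoEl : orderOf (proj (twoEl (F := F)) : P2) = 2 := by
  haveI : Fact (Nat.Prime 2) := ⟨Nat.prime_two⟩
  refine orderOf_eq_prime ?_ (proj_ne_one_of_offdiag (by simp [twoEl]))
  rw [← map_pow]
  refine proj_eq_one_of_scalar le_rfl (c := (-1 : F)) ?_
  rw [Matrix.SpecialLinearGroup.coe_pow, pow_two]
  ext i j; fin_cases i <;> fin_cases j <;> simp [twoEl, Matrix.mul_apply, Fin.sum_univ_two]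

theorem twoEl_threeEl_ne :
    (proj (twoEl (F := F)) : P2) * proj threeEl ≠ proj threeEl * proj twoEl := fun e => by
  rw [← map_mul, ← map_mul] at e
  obtain ⟨c, hc⟩ := proj_eq_imp e
  rw [Matrix.SpecialLinearGroup.coe_mul, Matrix.SpecialLinearGroup.coe_mul] at hc
  have h1 := congrFun (congrFun hc 1) 0
  have h0 := congrFun (congrFun hc 0) 0
  simp [Matrix.SpecialLinearGroup.coe_mul, twoEl, threeEl, Matrix.mul_apply, Fin.sum_univ_two] at h1 h0
  rw [← h1] at h0
  exact one_ne_zero h0

theorem field_fix (σ : RingAut F) :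
    ind (1 : GL (Fin 2) F) σ (proj twoEl : P2) = proj twoEl ∧
      ind (1 : GL (Fin 2) F) σ (proj threeEl : P2) = proj threeEl := by
  constructor <;> rw [field_proj] <;> refine congrArg proj (Subtype.ext ?_) <;> rw [slField_val] <;>
    ext i j <;> fin_cases i <;> fin_cases j <;> simp [twoEl, threeEl]

theorem eq_one_of_ind_one {σ : RingAut F} (h : (ind (1 : GL (Fin 2) F) σ : MulAut P2) = 1) : σ = 1 :=
  (eq_one_of_ind_eq_one le_rfl h).1

theorem ringAut_eq_one_of_prime (h : (Fintype.card F).Prime) (σ : RingAut F) : σ = 1 := by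
  haveI : Fact (Fintype.card F).Prime := ⟨h⟩
  have h1 : Nat.card (RingAut F) = 1 := card_ringAut (p := Fintype.card F) (pow_one _).symm
  exact (Nat.card_eq_one_iff_unique.1 h1).1.elim _ _

variable [IsSimpleGroup (Matrix.ProjectiveSpecialLinearGroup (Fin 2) F)]
  (hna : ¬ IsMulCommutative (Matrix.ProjectiveSpecialLinearGroup (Fin 2) F))
include hna

/-- The even half of `q ± 1` is an element order. -/
theorem exists_even_order (hin : (MulAut.conj : P2 →* MulAut P2).range ≤ 𝒢)
    (hodd : Fintype.card F % 2 = 1) (h4 : 4 ≤ Fintype.card F) {a : ℕ}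
    (ha : a ∣ (Fintype.card F - 1) / 2 ∨ a ∣ (Fintype.card F + 1) / 2) :
    ∃ x : 𝒢, orderOf x = a := by
  obtain ⟨p, hp⟩ := CharP.exists F
  haveI := hp
  obtain ⟨n, hpp, hn⟩ := FiniteField.card F p
  haveI : Fact p.Prime := ⟨hpp⟩
  have hmem : a ∈ Set.range (orderOf : P2 → ℕ) := by
    rw [Cfsg.Agent.S2475.result p h4,
      show Nat.gcd 2 (Fintype.card F - 1) = 2 from Nat.gcd_eq_left (by omega)]
    exact Or.inr ha
  obtain ⟨x, hx⟩ := hmem
  exact ⟨_, (orderOf_inner (CIT.conj_injective_of_simple hna) hin x).trans hx⟩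

/-- The even spectrum case in odd characteristic. -/
theorem inner_psl_two_odd_of_spec (hin : (MulAut.conj : P2 →* MulAut P2).range ≤ 𝒢)
    (hodd : Fintype.card F % 2 = 1) (h5 : 5 ≤ Fintype.card F) {r : ℕ} (hS : Spec 𝒢 r) :
    𝒢 = (MulAut.conj : P2 →* MulAut P2).range ∧
      (Fintype.card F % 8 = 3 ∨ Fintype.card F % 8 = 5) := by
  classical
  haveI : Finite (MulAut P2) := Finite.of_injective _ DFunLike.coe_injective
  have hinj := CIT.conj_injective_of_simple hna
  have hev : ∀ a, (a ∣ (Fintype.card F - 1) / 2 ∨ a ∣ (Fintype.card F + 1) / 2) → 2 ∣ a →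
      a = 2 ∨ a = 2 * r := by
    intro a ha h2
    obtain ⟨x, rfl⟩ := exists_even_order hna hin hodd (by omega) ha
    exact hS.two x h2
  have h8 : Fintype.card F % 8 = 3 ∨ Fintype.card F % 8 = 5 := by
    have hr := Nat.odd_iff.1 hS.odd_prime
    by_contra hcon
    push Not at hcon
    have h4 : 4 ∣ (Fintype.card F - 1) / 2 ∨ 4 ∣ (Fintype.card F + 1) / 2 := by omega
    rcases hev 4 h4 (by norm_num) with e | e <;> omega
  have hsig : ∀ σ : RingAut F, ind (1 : GL (Fin 2) F) σ ∈ 𝒢 → σ = 1 := by
    intro σ hσ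
    by_contra hσ1
    have hr : r = 3 := eq_three_of_fix hinj hin hS hσ (fun e => hσ1 (eq_one_of_ind_one e))
      orderOf_twoEl orderOf_threeEl (field_fix σ).1 (field_fix σ).2
    subst hr
    refine hσ1 (ringAut_eq_one_of_prime ?_ σ)
    rcases h8 with h | h
    · rcases hev _ (Or.inr dvd_rfl) (by omega) with e | e
      · omega
      · rw [show Fintype.card F = 11 by omega]; norm_num
    · rcases hev _ (Or.inl dvd_rfl) (by omega) with e | e
      · rw [show Fintype.card F = 5 by omega]; norm_num
      · rw [show Fintype.card F = 13 by omega]; norm_num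
  refine ⟨inner_of_parts hin hsig fun g σ hg hgm => ?_, h8⟩
  -- the order of a field automorphism is odd
  have hk : Odd (orderOf σ) := by
    by_contra hk
    rw [Nat.not_odd_iff_even] at hk
    obtain ⟨j, hj⟩ := hk
    have h := CfsgLib.Descent.card_fixedField_pow σ
    rw [hj, ← two_mul, mul_comm, pow_mul] at h
    set m := Nat.card (CfsgLib.Descent.fixedField σ) ^ j
    have h' : Fintype.card F % 8 = m % 8 * (m % 8) % 8 := by rw [← h, pow_two, Nat.mul_mod]
    have : m % 8 < 8 := Nat.mod_lt _ (by norm_num)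
    interval_cases (m % 8) <;> omega
  obtain ⟨ν, hν⟩ := exists_unit_gen (F := F)
  have hns := not_isSquare_gen hodd hν
  -- a diagonal automorphism
  have hpow : ind g σ ^ orderOf σ = (ind (nprod σ g (orderOf σ)) 1 : MulAut P2) := by
    rw [ind_pow, pow_orderOf_eq_one]
  have hmem : ind (nprod σ g (orderOf σ)) 1 ∈ 𝒢 := hpow ▸ pow_mem hgm _
  have hd : ¬ IsSquare (nprod σ g (orderOf σ)).1.det := fun hsq => by
    have h1 := (FiniteField.isSquare_iff (ringChar_ne_two hodd)
      (Matrix.GeneralLinearGroup.det (nprod σ g (orderOf σ))).ne_zero).1 hsq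
    have h2 := det_nprod σ g (m := Fintype.card F / 2) (fun a => (map_pow σ a _).symm)
      (pow_half_of_not_isSquare hodd hg) (orderOf σ)
    rw [hk.neg_one_pow] at h2
    exact Ring.neg_one_ne_one_of_char_ne_two (ringChar_ne_two hodd) (h2.symm.trans h1)
  have hD : (diag2 ν (1 : Fˣ)).1.det = (ν : F) := by simp [diag2_val, Matrix.det_fin_two]
  obtain ⟨x, hx⟩ := exists_mul_sq hodd hd hns
  have hmD : ind (diag2 ν 1) 1 ∈ 𝒢 := ind_mem_of_det hin hmem (H := diag2 ν 1) (by rw [hD]; exact hx)
  have ho : orderOf (⟨ind (diag2 ν 1) 1, hmD⟩ : 𝒢) = Fintype.card F - 1 := by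
    rw [Subgroup.orderOf_mk, ← indHom_apply, ← hν]
    exact orderOf_injective diagAut diagAut_injective ν
  have hr2 := hS.two_lt
  rcases hS.two _ (ho ▸ (show 2 ∣ Fintype.card F - 1 by omega)) with e | e <;> rw [ho] at e
  · omega
  · rcases h8 with h | h
    · rcases hev _ (Or.inr dvd_rfl) (by omega) with e' | e' <;> omega
    · rcases hev _ (Or.inl dvd_rfl) (by omega) with e' | e' <;> omega

/-- The even spectrum case in characteristic two. -/
theorem inner_psl_two_even_of_spec [CharP F 2] (hin : (MulAut.conj : P2 →* MulAut P2).range ≤ 𝒢)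
    {n : ℕ} (hn : 2 ≤ n) (hF : Fintype.card F = 2 ^ n) {r : ℕ} (hS : Spec 𝒢 r) :
    𝒢 = (MulAut.conj : P2 →* MulAut P2).range := by
  classical
  haveI : Finite (MulAut P2) := Finite.of_injective _ DFunLike.coe_injective
  haveI : Fact (Nat.Prime 2) := ⟨Nat.prime_two⟩
  have hinj := CIT.conj_injective_of_simple hna
  have hev : 2 ∣ Fintype.card F := hF ▸ dvd_pow_self 2 (by omega)
  have h4 : 4 ≤ Fintype.card F := hF ▸ le_trans (by norm_num) (Nat.pow_le_pow_right two_pos hn)
  refine inner_of_parts hin (fun σ hσ => ?_) fun g _ hg _ => hg (FiniteField.isSquare_of_char_two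
    (ringChar.eq F 2) _)
  by_contra hσ1
  have hr : r = 3 := eq_three_of_fix hinj hin hS hσ (fun e => hσ1 (eq_one_of_ind_one e))
    orderOf_twoEl orderOf_threeEl (field_fix σ).1 (field_fix σ).2
  subst hr
  -- the field has four elements
  have hgcd : Nat.gcd 2 (Fintype.card F - 1) = 1 :=
    Nat.coprime_two_left.2 (Nat.odd_iff.2 (by omega))
  have hq : Fintype.card F = 4 := by
    have h3 : 3 ∣ Fintype.card F - 1 ∨ 3 ∣ Fintype.card F + 1 := by
      have : Fintype.card F % 3 ≠ 0 := fun h => by
        have := Nat.prime_three.dvd_of_dvd_pow (hF ▸ Nat.dvd_of_mod_eq_zero h)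
        norm_num at this
      rcases (show Fintype.card F % 3 = 1 ∨ Fintype.card F % 3 = 2 by omega) with h | h
      · exact Or.inl (by omega)
      · exact Or.inr (by omega)
    have key : ∀ a, 3 ∣ a → a % 2 = 1 → (a ∣ Fintype.card F - 1 ∨ a ∣ Fintype.card F + 1) → a = 3 := by
      intro a ha ha2 hd
      have hmem : a ∈ Set.range (orderOf : P2 → ℕ) := by
        rw [Cfsg.Agent.S2475.result 2 h4, hgcd, Nat.div_one, Nat.div_one]
        exact Or.inr hd
      obtain ⟨x, hx⟩ := hmem
      have hxo := (orderOf_inner hinj hin x).trans hx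
      rcases hS.mult _ (hxo ▸ ha) with e | e <;> rw [hxo] at e <;> omega
    rcases h3 with h | h
    · have := key _ h (by omega) (Or.inl dvd_rfl); omega
    · have := key _ h (by omega) (Or.inr dvd_rfl); omega
  -- an element of order four
  have hσ2 : σ * σ = 1 := by
    haveI : Finite (RingAut F) := Finite.of_injective (fun τ : RingAut F => (τ : F → F)) DFunLike.coe_injective
    have h : Nat.card (RingAut F) = 2 := card_ringAut (p := 2) (by rw [hq]; norm_num)
    rw [← pow_two, ← h, pow_card_eq_one']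
  obtain ⟨a, ha⟩ : ∃ a, σ a ≠ a := by
    by_contra hcon
    push Not at hcon
    exact hσ1 (RingEquiv.ext hcon)
  set U := Matrix.SpecialLinearGroup.toGL (Qd.up a) with hU
  have hUm : ind U 1 ∈ 𝒢 := by
    rw [← indHom_apply, ← conj_proj]
    exact hin ⟨_, rfl⟩
  set b := ind (1 : GL (Fin 2) F) σ * ind U 1 with hb
  have hbm : b ∈ 𝒢 := mul_mem hσ hUm
  have hb2 : b ^ 2 = indHom (Matrix.SpecialLinearGroup.toGL (Qd.up (σ a + a))) := by
    rw [pow_two, hb, ind_mul, one_mul, mul_one, ind_mul, hσ2, indHom_apply]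
    refine congrArg (fun g => ind g 1) (Units.ext ?_)
    rw [Units.val_mul, glField_val, glField_val]
    show (U.1.map σ) * ((U.1.map σ).map σ) = !![(1 : F), σ a + a; 0, 1]
    have hσσ : σ (σ a) = a := congrArg (fun τ : RingAut F => τ a) hσ2
    ext i j
    fin_cases i <;> fin_cases j <;> simp [hU, Matrix.mul_apply, Fin.sum_univ_two, hσσ, add_comm]
  have hne : b ^ 2 ≠ 1 := fun e => by
    obtain ⟨c, hc⟩ := scalar_of_indHom le_rfl (hb2.symm.trans e)
    have := congrFun (congrFun hc 0) 1
    simp at this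
    exact ha (by rwa [CharTwo.add_eq_zero] at this)
  have hb4 : b ^ 4 = 1 := by
    rw [show (4 : ℕ) = 2 * 2 from rfl, pow_mul, hb2, ← map_pow, ← map_pow, pow_two,
      CfsgLib.SLTwoFpf.up_mul_self, map_one, map_one]
  have ho : orderOf (⟨b, hbm⟩ : 𝒢) = 4 := by
    rw [Subgroup.orderOf_mk]
    exact orderOf_eq_prime_pow (p := 2) (n := 1) (by rwa [pow_one]) hb4
  rcases hS.two _ (ho ▸ (by norm_num : 2 ∣ 4)) with e | e <;> omega

/-- The CIT case for five, seven and nine. -/
theorem inner_psl_two_small_of_cit (hin : (MulAut.conj : P2 →* MulAut P2).range ≤ 𝒢)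
    (hq : Fintype.card F = 5 ∨ Fintype.card F = 7 ∨ Fintype.card F = 9) (hc : CIT.IsCIT 𝒢)
    (h24 : ∀ x : 𝒢, 2 ∣ orderOf x → orderOf x = 2 ∨ orderOf x = 4) :
    𝒢 = (MulAut.conj : P2 →* MulAut P2).range := by
  classical
  haveI : Finite (MulAut P2) := Finite.of_injective _ DFunLike.coe_injective
  have hinj := CIT.conj_injective_of_simple hna
  have hodd : Fintype.card F % 2 = 1 := by rcases hq with h | h | h <;> rw [h]
  have hfix := fixTrivial_of_isCIT hinj hin hc
  refine inner_of_parts hin (fun σ hσ => eq_one_of_ind_one (hfix _ hσ _ _ orderOf_twoEl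
    (by rw [orderOf_threeEl]; decide) twoEl_threeEl_ne (field_fix σ).1 (field_fix σ).2))
    fun g σ hg hgm => ?_
  by_cases h9 : Fintype.card F = 9
  · obtain ⟨ν, hν⟩ := exists_unit_gen (F := F)
    rw [h9, show 9 - 1 = 8 from rfl] at hν
    have hns := not_isSquare_gen hodd (by rw [hν, h9])
    haveI : Fact (Nat.Prime 3) := ⟨Nat.prime_three⟩
    haveI : Finite (RingAut F) := Finite.of_injective (fun τ : RingAut F => (τ : F → F)) DFunLike.coe_injective
    by_cases hσ : σ = 1
    · subst hσ
      have hD : (diag2 ν (1 : Fˣ)).1.det = (ν : F) := by simp [diag2_val, Matrix.det_fin_two]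
      obtain ⟨x, hx⟩ := exists_mul_sq hodd hg hns
      have hmD := ind_mem_of_det hin hgm (H := diag2 ν 1) (by rw [hD]; exact hx)
      have ho : orderOf (⟨ind (diag2 ν 1) 1, hmD⟩ : 𝒢) = 8 := by
        rw [Subgroup.orderOf_mk, ← indHom_apply, ← hν]
        exact orderOf_injective diagAut diagAut_injective ν
      rcases h24 _ (ho ▸ (by norm_num : 2 ∣ 8)) with e | e <;> omega
    · -- an element of order eight
      haveI : CharP F 3 := charP_of_card_eq_prime_pow (f := 2) (by rw [h9]; norm_num)
      have hcard : Nat.card (RingAut F) = 2 := card_ringAut (p := 3) (by rw [h9]; norm_num)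
      have hfrob : (frobeniusEquiv F 3 : RingAut F) ≠ 1 := fun e => by
        have h3 : (ν : F) ^ 3 = ν := by
          rw [← frobeniusEquiv_def (R := F) (p := 3)]
          exact congrArg (fun τ : RingAut F => τ (ν : F)) e
        have h8 : ν ^ 2 = 1 := by
          refine mul_left_cancel (a := ν) (Units.ext ?_)
          rw [← pow_succ', Units.val_pow_eq_pow_val, h3, mul_one]
        have := orderOf_dvd_of_pow_eq_one h8
        rw [hν] at this
        norm_num at this
      have hσe : σ = frobeniusEquiv F 3 := by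
        obtain ⟨a, b, hab, hu⟩ := Nat.card_eq_two_iff.1 hcard
        have hall : ∀ τ : RingAut F, τ = a ∨ τ = b := fun τ => by
          have := hu ▸ Set.mem_univ τ
          simpa using this
        rcases hall σ with rfl | rfl <;> rcases hall (frobeniusEquiv F 3) with h | h <;>
          rcases hall 1 with h' | h' <;> simp_all
      have happly : σ (ν : F) = (ν : F) ^ 3 := by rw [hσe]; exact frobeniusEquiv_def _ _ (ν : F)
      let H : GL (Fin 2) F := Matrix.GeneralLinearGroup.mkOfDetNeZero !![0, (ν : F); 1, 0]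
        (by simp [Matrix.det_fin_two])
      have hHd : ¬ IsSquare H.1.det := by
        have hm1 : IsSquare (-1 : F) := FiniteField.isSquare_neg_one_iff.2 (by rw [h9]; decide)
        intro hs
        refine hns ?_
        have he : H.1.det = -(ν : F) := by simp [H, Matrix.det_fin_two]
        rw [he] at hs
        simpa using hm1.mul hs
      obtain ⟨x, hx⟩ := exists_mul_sq hodd hg hHd
      have hmH := ind_mem_of_det hin hgm (H := H) hx
      have hsq : (ind H σ) ^ 2 = diagAut (ν * ((ν ^ 3 : Fˣ))⁻¹) := by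
        rw [pow_two, ind_mul, show σ * σ = 1 by rw [← pow_two, ← hcard, pow_card_eq_one'],
          ← indHom_apply, ← indHom_diag2]
        refine congrArg indHom (Units.ext ?_)
        rw [Units.val_mul, glField_val, diag2_val, Units.val_pow_eq_pow_val, ← happly]
        show H.1 * H.1.map σ = _
        ext i j
        fin_cases i <;> fin_cases j <;> simp [H, Matrix.mul_apply, Fin.sum_univ_two]
      have h4 : orderOf ((ind H σ) ^ 2) = 4 := by
        rw [hsq, orderOf_injective diagAut diagAut_injective,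
          show ν * (ν ^ 3)⁻¹ = (ν ^ 2)⁻¹ by group, orderOf_inv,
          orderOf_pow_of_dvd two_ne_zero (by rw [hν]; norm_num), hν]
      have hdvd : orderOf ((ind H σ) ^ 2) ∣ orderOf (⟨ind H σ, hmH⟩ : 𝒢) := by
        rw [Subgroup.orderOf_mk]; exact orderOf_pow_dvd 2
      rw [h4] at hdvd
      rcases h24 _ ((by norm_num : 2 ∣ 4).trans hdvd) with e | e
      · rw [e] at hdvd; norm_num at hdvd
      · rw [Subgroup.orderOf_mk] at e
        rw [orderOf_pow_of_dvd two_ne_zero (by rw [e]; norm_num), e] at h4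
        norm_num at h4
  · -- an involution centralizing an element of order three
    have hp : (Fintype.card F).Prime := by
      rcases hq with h | h | h
      · rw [h]; norm_num
      · rw [h]; norm_num
      · exact absurd h h9
    obtain rfl := ringAut_eq_one_of_prime hp σ
    obtain ⟨p, hpc⟩ := CharP.exists F
    haveI := hpc
    obtain ⟨f, hpp, hf⟩ := FiniteField.card F p
    have hpF : p = Fintype.card F := by
      have h1 : (f : ℕ) = 1 := by
        by_contra h1
        exact Nat.Prime.not_prime_pow (show 2 ≤ (f : ℕ) by have := f.pos; omega) (hf ▸ hp)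
      rw [hf, h1, pow_one]
    have h3 : ¬ IsSquare (3 : F) := fun hs => by
      have h30 : (3 : F) ≠ 0 := fun e => by
        have : p ∣ 3 := (CharP.cast_eq_zero_iff F p 3).1 (by exact_mod_cast e)
        have := Nat.le_of_dvd (by norm_num) this
        omega
      have h1 := (FiniteField.isSquare_iff (ringChar_ne_two hodd) h30).1 hs
      rcases hq with h | h | h
      · rw [h] at h1
        have : p ∣ 8 := (CharP.cast_eq_zero_iff F p 8).1 (by
          push_cast; norm_num at h1; linear_combination h1)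
        rw [hpF, h] at this; norm_num at this
      · rw [h] at h1
        have : p ∣ 26 := (CharP.cast_eq_zero_iff F p 26).1 (by
          push_cast; norm_num at h1; linear_combination h1)
        rw [hpF, h] at this; norm_num at this
      · exact h9 h
    let M : GL (Fin 2) F := Matrix.GeneralLinearGroup.mkOfDetNeZero !![1, -2; 2, -1] (by
      intro e
      simp [Matrix.det_fin_two] at e
      exact h3 ⟨0, by linear_combination e⟩)
    have hM : M.1.det = 3 := by
      show (!![(1 : F), -2; 2, -1]).det = 3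
      simp [Matrix.det_fin_two]; norm_num
    obtain ⟨x, hx⟩ := exists_mul_sq hodd hg h3
    have hmM := ind_mem_of_det hin hgm (H := M) (by rw [hM]; exact hx)
    have h20 : (2 : F) ≠ 0 := Ring.two_ne_zero (ringChar_ne_two hodd)
    have hMo : orderOf (⟨ind M 1, hmM⟩ : 𝒢) = 2 := by
      haveI : Fact (Nat.Prime 2) := ⟨Nat.prime_two⟩
      rw [Subgroup.orderOf_mk, ← indHom_apply]
      refine orderOf_eq_prime ?_ fun e => ?_
      · rw [← map_pow]
        refine indHom_scalar le_rfl (c := (-3 : F)) ?_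
        rw [Units.val_pow_eq_pow_val, pow_two]
        show !![(1 : F), -2; 2, -1] * !![1, -2; 2, -1] = _
        ext i j
        fin_cases i <;> fin_cases j <;> simp [Matrix.mul_apply, Fin.sum_univ_two] <;> norm_num
      · obtain ⟨c, hc'⟩ := scalar_of_indHom le_rfl e
        have h10 := congrFun (congrFun hc' 1) 0
        simp [M, Matrix.GeneralLinearGroup.mkOfDetNeZero] at h10
        exact h20 h10
    have h := hc ⟨ind M 1, hmM⟩ ⟨MulAut.conj (proj threeEl : P2), hin ⟨_, rfl⟩⟩ hMo
      (by rw [orderOf_inner hinj hin, orderOf_threeEl]; decide) (Subtype.ext (by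
        show MulAut.conj (proj threeEl : P2) * ind M 1 = ind M 1 * MulAut.conj (proj threeEl)
        rw [conj_proj, ← indHom_apply, ← map_mul, ← map_mul]
        refine congrArg indHom (Units.ext ?_)
        show !![(0 : F), -1; 1, -1] * !![1, -2; 2, -1] = !![1, -2; 2, -1] * !![0, -1; 1, -1]
        ext i j
        fin_cases i <;> fin_cases j <;> simp [Matrix.mul_apply, Fin.sum_univ_two] <;> norm_num))
    have h' := hinj ((congrArg Subtype.val h).trans (map_one MulAut.conj).symm)
    have ho := orderOf_threeEl (F := F)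
    rw [h', orderOf_one] at ho
    omega

end SLTwo

end CfsgLib.OneComposite
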