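import Cfsg.Agent.Lib.OneComposite.Basic
import Cfsg.Agent.Lib.Coprime.PGroupFrattini
import Cfsg.Agent.Lib.Fusion.Transfer

/-!
# The weights of an elementary abelian 2-group on an `r`-group are fixed by the odd normalizing elements

If `f` has odd prime power order and moves the hyperplane `B` of a weight vector `v`, then `v * f` has
an order that the spectrum forbids.  So an `r`-group normalized by a perfect group's Sylow normalizer is
centralized by the Sylow subgroup.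
-/

set_option autoImplicit false
set_option linter.unusedSectionVars false
set_option linter.style.haveILetI false

namespace CfsgLib.OneComposite

open Subgroup
open scoped commutatorElement

universe u

variable {G : Type u} [Group G] [Finite G] {r : ℕ}

theorem normalizer_le_normalizer_map_char {P : Subgroup G} (K : Subgroup P) [K.Characteristic] :
    normalizer (P : Set G) ≤ normalizer (K.map P.subtype : Set G) := by
  intro g hg
  refine CIT.cj_eq_self_iff.1 (eq_of_le_of_card_ge ?_ (CIT.card_cj g _).ge)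
  let φ : MulAut P :=
    { toFun := fun x => ⟨g * x * g⁻¹, (mem_normalizer_iff.1 hg _).1 x.2⟩
      invFun := fun x => ⟨g⁻¹ * x * g, (mem_normalizer_iff''.1 hg _).1 x.2⟩
      left_inv := fun x => Subtype.ext (by simp [mul_assoc])
      right_inv := fun x => Subtype.ext (by simp [mul_assoc])
      map_mul' := fun x y => Subtype.ext (by simp [mul_assoc]) }
  have hK : K.map φ.toMonoidHom = K := Subgroup.characteristic_iff_map_eq.1 inferInstance φ
  rintro y ⟨x, hx, rfl⟩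
  obtain ⟨k, hk, rfl⟩ := Subgroup.mem_map.1 hx
  exact ⟨φ k, hK ▸ mem_map_of_mem φ.toMonoidHom hk, rfl⟩

/-- The weight lemma for an abelian group of exponent `r`. -/
theorem Spec.weight_abelian (h : Spec G r) {E P : Subgroup G} (hE : ∀ x ∈ E, x * x = 1)
    (hPc : ∀ x ∈ P, ∀ y ∈ P, x * y = y * x) (hPr : ∀ x ∈ P, x ^ r = 1)
    (hEP : E ≤ normalizer (P : Set G)) {f : G} (hfP : f ∈ normalizer (P : Set G))
    (hfE : f ∈ normalizer (E : Set G)) {s k : ℕ} (hs : s.Prime) (hs2 : s ≠ 2)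
    (hf : orderOf f = s ^ k) {v : G} (hv : v ∈ P) (hv1 : v ≠ 1)
    (hvw : ∀ e ∈ E, e * v * e⁻¹ = v ∨ e * v * e⁻¹ = v⁻¹) :
    f ∈ normalizer ((E ⊓ centralizer ({v} : Set G) : Subgroup G) : Set G) := by
  classical
  haveI : Fact s.Prime := ⟨hs⟩
  set B := E ⊓ centralizer ({v} : Set G) with hB
  by_contra hfB
  have hmemB : ∀ b ∈ E, (b ∈ B ↔ b * v * b⁻¹ = v) := fun b hb =>
    ⟨fun hbB => mul_inv_eq_iff_eq_mul.2 (mem_centralizer_singleton_iff.1 hbB.2),
      fun e => ⟨hb, mem_centralizer_singleton_iff.2 (mul_inv_eq_iff_eq_mul.1 e)⟩⟩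
  -- an inverting element
  obtain ⟨a, ha, haB⟩ : ∃ a ∈ E, a ∉ B := by
    by_contra hall
    push Not at hall
    refine hfB ?_
    rw [show B = E from le_antisymm inf_le_left hall]
    exact hfE
  have hav : ∀ x ∈ E, x ∉ B → x * v * x⁻¹ = v⁻¹ := fun x hx hxB =>
    (hvw x hx).resolve_left fun e => hxB ((hmemB x hx).2 e)
  -- the elements fixing `B` inside `⟨f⟩`
  have hstab : ∀ i : ℕ, f ^ i ≠ 1 → f ^ i ∉ normalizer (B : Set G) := by
    intro i hi1 hiB
    obtain ⟨j, hj, hj'⟩ := (Nat.dvd_prime_pow hs).1 (hf ▸ orderOf_pow_dvd (x := f) i)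
    rcases j with _ | j
    · exact hi1 (orderOf_eq_one_iff.1 (by rw [hj', pow_zero]))
    set z := (f ^ i) ^ s ^ j with hz
    have hzo : orderOf z = s := by
      rw [hz, orderOf_pow_of_dvd (pow_ne_zero _ hs.ne_zero) (hj' ▸ pow_dvd_pow s (Nat.le_succ j)), hj',
        pow_succ, Nat.mul_div_cancel_left _ (pow_pos hs.pos j)]
    by_cases hsr : s = r
    · subst hsr
      have hfr : f ^ s = 1 := h.exp_r hf
      have hcop : ¬ s ∣ i := fun hd => hi1 (by
        obtain ⟨c, rfl⟩ := hd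
        rw [pow_mul, hfr, one_pow])
      obtain ⟨m, -, hm⟩ := Nat.exists_mul_mod_eq_one_of_coprime
        ((hs.coprime_iff_not_dvd.2 hcop).symm) hs.one_lt
      refine hfB ?_
      have h1 : (f ^ i) ^ m = f := by
        rw [← pow_mul, ← Nat.div_add_mod (i * m) s, hm, pow_succ, pow_mul, hfr, one_pow, one_mul]
      rw [← h1]
      exact pow_mem hiB m
    · -- `z` fixes an element outside `B`
      have hzE : z ∈ normalizer (E : Set G) := pow_mem (pow_mem hfE i) _
      have hzB : zpowers z ≤ normalizer (B : Set G) := zpowers_le.2 (pow_mem hiB _)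
      have haN : a ∈ normalizer (B : Set G) := by
        refine mem_normalizer_iff.2 fun x => ?_
        constructor
        · intro hx
          rwa [comm_of_sq hE ha hx.1, mul_inv_cancel_right]
        · intro hx
          have h2 : a * x * a⁻¹ * a = a * (a * x * a⁻¹) := comm_of_sq hE hx.1 ha
          rw [inv_mul_cancel_right] at h2
          rwa [← mul_left_cancel h2] at hx
      have hfix : ∀ y ∈ zpowers z, y * a * y⁻¹ * a⁻¹ ∈ B := by
        intro y hy
        have hyE : y * a * y⁻¹ ∈ E :=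
          (mem_normalizer_iff.1 (zpowers_le.2 hzE hy) a).1 ha
        have hyB : y * a * y⁻¹ ∉ B := fun hh => haB ((mem_normalizer_iff.1 (hzB hy) a).2 hh)
        refine (hmemB _ (mul_mem hyE (inv_mem ha))).2 ?_
        rw [inv_eq_of_sq (hE a ha),
          show ∀ x : G, x * a * v * (x * a)⁻¹ = x * (a * v * a⁻¹) * x⁻¹ from fun x => by group,
          hav a ha haB, ← conj_inv, hav _ hyE hyB, inv_inv]
      have hcop : (Nat.card (zpowers z)).Coprime (Nat.card B) := by
        haveI : Fact (Nat.Prime 2) := ⟨Nat.prime_two⟩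
        obtain ⟨c, hc⟩ := (isPGroup_of_sq (E := B) fun x hx => hE x hx.1).exists_card_eq
        rw [Nat.card_zpowers, hzo, hc]
        exact Nat.Coprime.pow_right c ((Nat.coprime_primes hs Nat.prime_two).2 hs2)
      haveI : IsMulCommutative (zpowers z) := inferInstance
      obtain ⟨n, hn, hcent⟩ := Coprime.exists_fixed_in_coset hzB hcop
        (Or.inl (Coprime.isSolvable_of_isMulCommutative inferInstance)) haN hfix
      have hanE : a * n ∈ E := mul_mem ha hn.1
      have han1 : a * n ≠ 1 := fun e => haB (by rw [eq_inv_of_mul_eq_one_left e]; exact inv_mem hn)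
      rcases h.invol_pair (orderOf_of_sq (hE _ hanE) han1)
          (hzo ▸ hs.odd_of_ne_two hs2) (mem_centralizer_iff.1 hcent z (mem_zpowers z)).symm with e | e
      · rw [e, orderOf_one] at hzo
        exact hs.ne_one hzo.symm
      · exact hsr (hzo.symm.trans e)
  -- the averaging map
  letI : CommGroup P :=
    { (inferInstance : Group P) with mul_comm := fun x y => Subtype.ext (hPc x x.2 y y.2) }
  haveI := Fintype.ofFinite B
  let c : B → P →* P := fun b => MonoidHom.mk'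
    (fun u => ⟨(b : G) * u * (b : G)⁻¹, (mem_normalizer_iff.1 (hEP b.2.1) _).1 u.2⟩)
    (fun x y => Subtype.ext (by simp [mul_assoc]))
  let pr : P →* P := ∏ b : B, c b
  have hpr : ∀ u : P, pr u = ∏ b : B, c b u := fun u => MonoidHom.finsetProd_apply _ _ _
  set V : P := ⟨v, hv⟩ with hV
  have hprv : pr V = V ^ Fintype.card B := by
    rw [hpr, ← Finset.card_univ, ← Finset.prod_const]
    exact Finset.prod_congr rfl fun b _ => Subtype.ext ((hmemB b b.2.1).1 b.2)
  have hrpow : ∀ u : P, u ^ r = 1 := fun u => Subtype.ext (hPr u u.2)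
  have hprv1 : pr V ≠ 1 := by
    rw [hprv]
    intro e
    haveI : Fact (Nat.Prime 2) := ⟨Nat.prime_two⟩
    obtain ⟨j, hj⟩ := (isPGroup_of_sq (E := B) fun x hx => hE x hx.1).exists_card_eq
    rw [Nat.card_eq_fintype_card] at hj
    have h1 : orderOf V ∣ Fintype.card B := orderOf_dvd_of_pow_eq_one e
    have h2 : orderOf V ∣ r := orderOf_dvd_of_pow_eq_one (hrpow V)
    have h3 : (Fintype.card B).Coprime r :=
      hj ▸ Nat.Coprime.pow_left j (Nat.coprime_two_left.2 h.odd_prime)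
    exact hv1 (congrArg Subtype.val (orderOf_eq_one_iff.1 (Nat.eq_one_of_dvd_coprimes h3 h1 h2)))
  -- the conjugates of `v` are killed
  have hkill : ∀ i : ℕ, f ^ i ≠ 1 → ∀ (hu : f ^ i * v * (f ^ i)⁻¹ ∈ P),
      pr ⟨f ^ i * v * (f ^ i)⁻¹, hu⟩ = 1 := by
    intro i hi hu
    set g := f ^ i with hg
    have hgE : g ∈ normalizer (E : Set G) := pow_mem hfE i
    have hwt : ∀ e ∈ E, e * (g * v * g⁻¹) * e⁻¹ = g * v * g⁻¹ ∨
        e * (g * v * g⁻¹) * e⁻¹ = (g * v * g⁻¹)⁻¹ := by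
      intro e he
      have he' := (mem_normalizer_iff''.1 hgE _).1 he
      rw [show e * (g * v * g⁻¹) * e⁻¹ = g * (g⁻¹ * e * g * v * (g⁻¹ * e * g)⁻¹) * g⁻¹ by group]
      rcases hvw _ he' with e' | e' <;> rw [e']
      · exact Or.inl rfl
      · exact Or.inr (by group)
    obtain ⟨b0, hb0, hb0v⟩ : ∃ b0 : G, b0 ∈ B ∧ b0 * (g * v * g⁻¹) * b0⁻¹ ≠ g * v * g⁻¹ := by
      by_contra hall
      push Not at hall
      refine hstab i hi (CIT.cj_eq_self_iff.1 (eq_of_le_of_card_ge ?_ (CIT.card_cj g B).le).symm)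
      intro b hb
      refine CIT.mem_cj.2 ((hmemB _ ((mem_normalizer_iff''.1 hgE _).1 hb.1)).2 ?_)
      have h1 := hall b hb
      calc g⁻¹ * b * g * v * (g⁻¹ * b * g)⁻¹ = g⁻¹ * (b * (g * v * g⁻¹) * b⁻¹) * g := by group
        _ = v := by rw [h1]; group
    set U : P := ⟨g * v * g⁻¹, hu⟩ with hU
    have h2 : pr U = (pr U)⁻¹ := by
      rw [← map_inv, hpr, hpr, ← Equiv.prod_comp (Equiv.mulRight (⟨b0, hb0⟩ : B)) fun b => c b U]
      refine Finset.prod_congr rfl fun b _ => Subtype.ext ?_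
      show (b : G) * b0 * (g * v * g⁻¹) * ((b : G) * b0)⁻¹ = (b : G) * (g * v * g⁻¹)⁻¹ * (b : G)⁻¹
      rw [← (hwt b0 hb0.1).resolve_left hb0v]
      group
    have h3 : pr U * pr U = 1 := by rw [mul_eq_one_iff_eq_inv]; exact h2
    exact Subtype.ext (eq_one_of_sq_of_odd
      (h.odd_prime.of_dvd_nat (orderOf_dvd_of_pow_eq_one (hPr _ (pr U).2))) (congrArg Subtype.val h3))
  -- the powers of `v * f`
  have hf' : orderOf f = s ^ k := hf
  set N := s ^ k with hN
  have hstep : ∀ i, i + 1 ≤ N → ∃ w : P, (v * f) ^ (i + 1) = (w : G) * f ^ (i + 1) ∧ pr w = pr V := by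
    intro i
    induction i with
    | zero => exact fun _ => ⟨V, by simp [V], rfl⟩
    | succ i ih =>
      intro hi
      obtain ⟨w, hw, hpw⟩ := ih (by omega)
      have hi1 : f ^ (i + 1) ≠ 1 := fun e => by
        have := Nat.le_of_dvd (Nat.succ_pos i) (orderOf_dvd_of_pow_eq_one e)
        rw [hf] at this
        omega
      have hu : f ^ (i + 1) * v * (f ^ (i + 1))⁻¹ ∈ P :=
        (mem_normalizer_iff.1 (pow_mem hfP _) v).1 hv
      refine ⟨w * ⟨_, hu⟩, ?_, by rw [map_mul, hkill _ hi1 hu, mul_one, hpw]⟩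
      rw [pow_succ, hw, pow_succ f (i + 1)]
      show (w : G) * f ^ (i + 1) * (v * f) =
        (w : G) * (f ^ (i + 1) * v * (f ^ (i + 1))⁻¹) * (f ^ (i + 1) * f)
      group
  have hN1 : 1 ≤ N := Nat.one_le_pow _ _ hs.pos
  obtain ⟨w, hw, hpw⟩ := hstep (N - 1) (by omega)
  rw [Nat.sub_add_cancel hN1, ← hf, pow_orderOf_eq_one, mul_one, hf] at hw
  have hwP1 : (w : G) ≠ 1 := fun e => hprv1 (by rw [← hpw, show w = 1 from Subtype.ext e, map_one])
  have hwo : orderOf (w : G) = r := by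
    haveI : Fact r.Prime := ⟨h.prime⟩
    exact orderOf_eq_prime (hPr _ w.2) hwP1
  have hd : r ∣ orderOf (v * f) := hwo ▸ hw ▸ orderOf_pow_dvd N
  have hodd : Odd (orderOf (v * f)) := by
    refine Odd.of_dvd_nat ((hs.odd_of_ne_two hs2).pow.mul h.odd_prime) (orderOf_dvd_of_pow_eq_one
      (show (v * f) ^ (N * r) = 1 by rw [pow_mul, hw, hPr _ w.2]))
  have hgo : orderOf (v * f) = r := (h.mult _ hd).resolve_right fun e =>
    Nat.not_even_iff_odd.2 hodd ⟨r, by rw [e, two_mul]⟩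
  by_cases hsr : s = r
  · subst hsr
    have hk1 : k = 1 := by
      rcases k with _ | k
      · rw [hN, pow_zero, orderOf_eq_one_iff] at hf'
        exact (hfB (hf' ▸ one_mem _)).elim
      · have h1 := orderOf_dvd_of_pow_eq_one (h.exp_r (hf'.trans hN))
        rw [hf', hN] at h1
        have h2 := (Nat.pow_dvd_pow_iff_le_right hs.one_lt).1 (h1.trans (pow_one s).symm.dvd)
        omega
    rw [hk1, pow_one] at hN
    rw [hN] at hw
    exact hwP1 (by rw [← hw, ← hgo, pow_orderOf_eq_one])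
  · -- `f ^ r ∈ P`
    have hrN : ∀ i, ∃ w : P, (v * f) ^ i = (w : G) * f ^ i := by
      intro i
      induction i with
      | zero => exact ⟨1, by simp⟩
      | succ i ih =>
        obtain ⟨w, hw⟩ := ih
        refine ⟨w * ⟨_, (mem_normalizer_iff.1 (pow_mem hfP i) v).1 hv⟩, ?_⟩
        rw [pow_succ, hw, pow_succ f i]
        show (w : G) * f ^ i * (v * f) = (w : G) * (f ^ i * v * (f ^ i)⁻¹) * (f ^ i * f)
        group
    obtain ⟨w', hw'⟩ := hrN r
    rw [← hgo, pow_orderOf_eq_one, hgo] at hw'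
    have hfr : (f ^ r) ^ r = 1 := by
      rw [eq_inv_of_mul_eq_one_right hw'.symm, inv_pow, hPr _ w'.2, inv_one]
    have hf1 : f = 1 := by
      rw [← pow_mul] at hfr
      exact orderOf_eq_one_iff.1 (Nat.eq_one_of_dvd_coprimes
        (show (s ^ k).Coprime (r * r) from Nat.Coprime.pow_left k
          (((Nat.coprime_primes hs h.prime).2 hsr).mul_right ((Nat.coprime_primes hs h.prime).2 hsr)))
        hf.dvd (orderOf_dvd_of_pow_eq_one hfr))
    exact hfB (hf1 ▸ one_mem _)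

/-- A nontrivial action has a weight vector with an inverting element. -/
theorem exists_weight {E P : Subgroup G} (hE : ∀ x ∈ E, x * x = 1)
    (hPc : ∀ x ∈ P, ∀ y ∈ P, x * y = y * x) (hEP : E ≤ normalizer (P : Set G))
    {a₀ v₀ : G} (ha₀ : a₀ ∈ E) (hv₀ : v₀ ∈ P) (hne : a₀ * v₀ * a₀⁻¹ ≠ v₀) :
    ∃ v ∈ P, v ≠ 1 ∧ (∀ e ∈ E, e * v * e⁻¹ = v ∨ e * v * e⁻¹ = v⁻¹) ∧
      ∃ a ∈ E, a * v * a⁻¹ = v⁻¹ := by
  classical
  let S : Set G := {v | v ∈ P ∧ v ≠ 1 ∧ ∃ a ∈ E, a * v * a⁻¹ = v⁻¹}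
  have hS : S.Nonempty := by
    refine ⟨v₀⁻¹ * (a₀ * v₀ * a₀⁻¹), mul_mem (inv_mem hv₀)
      ((mem_normalizer_iff.1 (hEP ha₀) _).1 hv₀), fun e => hne (inv_mul_eq_one.1 e).symm, a₀, ha₀, ?_⟩
    calc a₀ * (v₀⁻¹ * (a₀ * v₀ * a₀⁻¹)) * a₀⁻¹
        = (a₀ * v₀ * a₀⁻¹)⁻¹ * ((a₀ * a₀) * v₀ * (a₀ * a₀)⁻¹) := by group
      _ = (a₀ * v₀ * a₀⁻¹)⁻¹ * v₀ := by rw [hE a₀ ha₀]; group
      _ = (v₀⁻¹ * (a₀ * v₀ * a₀⁻¹))⁻¹ := (by group)
  obtain ⟨v, hv, hmax⟩ := Set.exists_max_image S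
    (fun v => Nat.card (E ⊓ centralizer ({v} : Set G) : Subgroup G)) (Set.toFinite S) hS
  obtain ⟨hvP, hv1, a, ha, hav⟩ := hv
  refine ⟨v, hvP, hv1, fun e he => ?_, a, ha, hav⟩
  set v' := e * v * e⁻¹ with hv'
  have hv'P : v' ∈ P := (mem_normalizer_iff.1 (hEP he) _).1 hvP
  by_cases hu : v * v' = 1
  · exact Or.inr (eq_inv_of_mul_eq_one_right hu)
  refine Or.inl ?_
  have hu2 : a * (v * v') * a⁻¹ = (v * v')⁻¹ := by
    calc a * (v * v') * a⁻¹ = (a * v * a⁻¹) * ((a * e) * v * (a * e)⁻¹) := by rw [hv']; group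
      _ = v⁻¹ * ((e * a) * v * (e * a)⁻¹) := by rw [hav, comm_of_sq hE ha he]
      _ = v⁻¹ * (e * (a * v * a⁻¹) * e⁻¹) := by group
      _ = v⁻¹ * v'⁻¹ := by rw [hav, hv']; group
      _ = v'⁻¹ * v⁻¹ := hPc _ (inv_mem hvP) _ (inv_mem hv'P)
      _ = (v * v')⁻¹ := (mul_inv_rev v v').symm
  have hle : E ⊓ centralizer ({v} : Set G) ≤ E ⊓ centralizer ({v * v'} : Set G) := by
    intro x hx
    have hxv : x * v * x⁻¹ = v := mul_inv_eq_iff_eq_mul.2 (mem_centralizer_singleton_iff.1 hx.2)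
    refine ⟨hx.1, mem_centralizer_singleton_iff.2 (mul_inv_eq_iff_eq_mul.1 ?_)⟩
    calc x * (v * v') * x⁻¹ = (x * v * x⁻¹) * ((x * e) * v * (x * e)⁻¹) := by rw [hv']; group
      _ = v * ((e * x) * v * (e * x)⁻¹) := by rw [hxv, comm_of_sq hE hx.1 he]
      _ = v * (e * (x * v * x⁻¹) * e⁻¹) := by group
      _ = v * v' := by rw [hxv]
  have heq := eq_of_le_of_card_ge hle (hmax _ ⟨mul_mem hvP hv'P, hu, a, ha, hu2⟩)
  have hem : e ∈ E ⊓ centralizer ({v} : Set G) := by
    rw [heq]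
    refine ⟨he, mem_centralizer_singleton_iff.2 (mul_inv_eq_iff_eq_mul.1 ?_)⟩
    calc e * (v * v') * e⁻¹ = v' * ((e * e) * v * (e * e)⁻¹) := by rw [hv']; group
      _ = v' * v := by rw [hE e he]; group
      _ = v * v' := hPc _ hv'P _ hvP
  exact mul_inv_eq_iff_eq_mul.2 (mem_centralizer_singleton_iff.1 hem.2)

/-- If every hyperplane of `E` is moved by an odd element of prime power order normalizing `P` and
`E`, then `E` centralizes the `r`-group `P`. -/
theorem Spec.centralizes_of_moves (h : Spec G r) {E P : Subgroup G} (hE : ∀ x ∈ E, x * x = 1)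
    (hP : IsPGroup r P) (hEP : E ≤ normalizer (P : Set G))
    (hmove : ∀ B : Subgroup G, B ≤ E → B ≠ E → (∀ x ∈ E, ∀ y ∈ E, x ∉ B → y ∉ B → x * y ∈ B) →
      ∃ f s k : _, s.Prime ∧ s ≠ 2 ∧ orderOf f = s ^ k ∧ f ∈ normalizer (P : Set G) ∧
        f ∈ normalizer (E : Set G) ∧ f ∉ normalizer (B : Set G)) :
    E ≤ centralizer (P : Set G) := by
  classical
  haveI : Fact r.Prime := ⟨h.prime⟩
  set Φ := (frattini P).map P.subtype with hΦ
  set N := normalizer (Φ : Set G) with hN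
  have hNP : normalizer (P : Set G) ≤ N := normalizer_le_normalizer_map_char (frattini P)
  have hPN : P ≤ N := le_normalizer.trans hNP
  haveI hΦn : (Φ.subgroupOf N).Normal :=
    (normal_subgroupOf_iff_le_normalizer le_normalizer).2 le_rfl
  set q := QuotientGroup.mk' (Φ.subgroupOf N) with hq
  have hq1 : ∀ x : N, q x = 1 ↔ (x : G) ∈ Φ := fun x => (QuotientGroup.eq_one_iff x)
  have hSN : Spec (N ⧸ Φ.subgroupOf N) r :=
    (h.subgroup N).of_surjective q (QuotientGroup.mk'_surjective _)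
  set E' := (E.subgroupOf N).map q with hE'
  set P' := (P.subgroupOf N).map q with hP'
  have hE'sq : ∀ x ∈ E', x * x = 1 := by
    rintro _ ⟨x, hx, rfl⟩
    rw [← map_mul, show x * x = 1 from Subtype.ext (hE x (mem_subgroupOf.1 hx)), map_one]
  have hP'c : ∀ x ∈ P', ∀ y ∈ P', x * y = y * x := by
    rintro _ ⟨x, hx, rfl⟩ _ ⟨y, hy, rfl⟩
    rw [← commutatorElement_eq_one_iff_mul_comm, ← map_commutatorElement, hq1]
    refine ⟨⁅(⟨x, mem_subgroupOf.1 hx⟩ : P), ⟨y, mem_subgroupOf.1 hy⟩⁆, ?_, rfl⟩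
    exact CfsgLib.Coprime.commutator_le_frattini hP (commutator_mem_commutator (mem_top _) (mem_top _))
  have hP'r : ∀ x ∈ P', x ^ r = 1 := by
    rintro _ ⟨x, hx, rfl⟩
    rw [← map_pow, hq1]
    exact ⟨(⟨x, mem_subgroupOf.1 hx⟩ : P) ^ r, CfsgLib.Coprime.pow_mem_frattini hP _, rfl⟩
  have hnorm : ∀ {H : Subgroup G} {y : N}, (y : G) ∈ normalizer (H : Set G) →
      q y ∈ normalizer (((H.subgroupOf N).map q : Subgroup (N ⧸ Φ.subgroupOf N)) : Set _) := by
    intro H y hy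
    refine Subgroup.le_normalizer_map q ⟨y, mem_normalizer_iff.2 fun z => ?_, rfl⟩
    simpa [mem_subgroupOf] using mem_normalizer_iff.1 hy (z : G)
  have hE'P' : E' ≤ normalizer (P' : Set (N ⧸ Φ.subgroupOf N)) := by
    rintro _ ⟨x, hx, rfl⟩
    exact hnorm (hEP (mem_subgroupOf.1 hx))
  by_cases htriv : ∀ a ∈ E, ∀ v ∈ P, a * v * a⁻¹ * v⁻¹ ∈ Φ
  · refine Coprime.le_centralizer_of_trivial_on_frattini_quotient hEP ?_ htriv
    haveI : Fact (Nat.Prime 2) := ⟨Nat.prime_two⟩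
    obtain ⟨c, hc⟩ := (isPGroup_of_sq hE).exists_card_eq
    obtain ⟨d, hd⟩ := (hP.to_subgroup (frattini P)).exists_card_eq
    rw [hc, hd]
    exact ((Nat.coprime_two_left.2 h.odd_prime).pow c d)
  push Not at htriv
  obtain ⟨a, ha, v, hv, hne⟩ := htriv
  have hne' : q ⟨a, hNP (hEP ha)⟩ * q ⟨v, hPN hv⟩ * (q ⟨a, hNP (hEP ha)⟩)⁻¹ ≠ q ⟨v, hPN hv⟩ := by
    intro e
    rw [← map_inv, ← map_mul, ← map_mul, ← mul_inv_eq_one, ← map_inv, ← map_mul, hq1] at e
    exact hne e
  obtain ⟨w, hwP, hw1, hwt, c, hcE, hcw⟩ := exists_weight hE'sq hP'c hE'P'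
    (a₀ := q ⟨a, hNP (hEP ha)⟩) (v₀ := q ⟨v, hPN hv⟩)
    ⟨_, mem_subgroupOf.2 ha, rfl⟩ ⟨_, mem_subgroupOf.2 hv, rfl⟩ hne'
  set B := ((E.subgroupOf N) ⊓ (centralizer ({w} : Set (N ⧸ Φ.subgroupOf N))).comap q).map N.subtype
    with hBdef
  have hmemB : ∀ (x : G) (hx : x ∈ E),
      (x ∈ B ↔ q ⟨x, hNP (hEP hx)⟩ * w * (q ⟨x, hNP (hEP hx)⟩)⁻¹ = w) := by
    intro x hx
    constructor
    · rintro ⟨y, ⟨-, hy⟩, e⟩
      rw [← show y = ⟨x, hNP (hEP hx)⟩ from Subtype.ext e]
      exact mul_inv_eq_iff_eq_mul.2 (mem_centralizer_singleton_iff.1 hy)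
    · intro e
      exact ⟨⟨x, hNP (hEP hx)⟩, ⟨mem_subgroupOf.2 hx,
        mem_centralizer_singleton_iff.2 (mul_inv_eq_iff_eq_mul.1 e)⟩, rfl⟩
  have hBE : B ≤ E := by
    rintro _ ⟨y, hy, rfl⟩
    exact mem_subgroupOf.1 hy.1
  have hw2 : w⁻¹ ≠ w := fun e => hw1 (eq_one_of_sq_of_odd
    (h.odd_prime.of_dvd_nat (orderOf_dvd_of_pow_eq_one (hP'r w hwP)))
    (by nth_rw 1 [← e]; exact inv_mul_cancel w))
  obtain ⟨f, s, k, hs, hs2, hfo, hfP, hfE, hfB⟩ := hmove B hBE (fun e => by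
      obtain ⟨x, hx, rfl⟩ := hcE
      have := (hmemB x (mem_subgroupOf.1 hx)).1 (e.symm ▸ mem_subgroupOf.1 hx)
      rw [show (⟨(x : G), hNP (hEP (mem_subgroupOf.1 hx))⟩ : N) = x from rfl, hcw] at this
      exact hw2 this)
    (fun x hx y hy hxB hyB => by
      refine (hmemB _ (mul_mem hx hy)).2 ?_
      have h1 := (hwt _ ⟨⟨x, hNP (hEP hx)⟩, mem_subgroupOf.2 hx, rfl⟩).resolve_left
        fun e => hxB ((hmemB x hx).2 e)
      have h2 := (hwt _ ⟨⟨y, hNP (hEP hy)⟩, mem_subgroupOf.2 hy, rfl⟩).resolve_left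
        fun e => hyB ((hmemB y hy).2 e)
      rw [show (⟨x * y, hNP (hEP (mul_mem hx hy))⟩ : N) =
        ⟨x, hNP (hEP hx)⟩ * ⟨y, hNP (hEP hy)⟩ from rfl, map_mul,
        show ∀ A C : N ⧸ Φ.subgroupOf N, A * C * w * (A * C)⁻¹ = A * (C * w * C⁻¹) * A⁻¹ from
          fun A C => by group, h2, ← conj_inv, h1, inv_inv])
  obtain ⟨i, -, hi⟩ := (Nat.dvd_prime_pow hs).1 (hfo ▸
    ((orderOf_map_dvd q (⟨f, hNP hfP⟩ : N)).trans (Subgroup.orderOf_mk f (hNP hfP)).dvd))
  have key := hSN.weight_abelian hE'sq hP'c hP'r hE'P' (hnorm (y := ⟨f, hNP hfP⟩) hfP)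
    (hnorm (y := ⟨f, hNP hfP⟩) hfE) hs hs2 hi hwP hw1 hwt
  refine absurd (CIT.cj_eq_self_iff.1 (eq_of_le_of_card_ge (fun x hx => ?_) (CIT.card_cj f B).ge)) hfB
  have hx' : f⁻¹ * x * f ∈ B := CIT.mem_cj.1 hx
  have hxE : x ∈ E := by
    have := (mem_normalizer_iff.1 hfE _).1 (hBE hx')
    rwa [show f * (f⁻¹ * x * f) * f⁻¹ = x by group] at this
  refine (hmemB x hxE).2 (mul_inv_eq_iff_eq_mul.2 (mem_centralizer_singleton_iff.1 ?_))
  have hyE : q ⟨f⁻¹ * x * f, hNP (hEP (hBE hx'))⟩ ∈ E' ⊓ centralizer ({w} : Set _) :=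
    ⟨⟨_, mem_subgroupOf.2 (hBE hx'), rfl⟩,
      mem_centralizer_singleton_iff.2 (mul_inv_eq_iff_eq_mul.1 ((hmemB _ (hBE hx')).1 hx'))⟩
  have h3 := ((mem_normalizer_iff.1 key _).1 hyE).2
  rw [← map_inv, ← map_mul, ← map_mul] at h3
  rwa [show (⟨f, hNP hfP⟩ : N) * ⟨f⁻¹ * x * f, hNP (hEP (hBE hx'))⟩ * (⟨f, hNP hfP⟩ : N)⁻¹ =
    ⟨x, hNP (hEP hxE)⟩ from Subtype.ext (by simp [mul_assoc])] at h3

/-- An element is a product of its prime-power components, and membership can be tested on them. -/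
theorem mem_of_prime_pow_powers {H : Subgroup G} {g : G}
    (hg : ∀ y ∈ zpowers g, ∀ s k : ℕ, s.Prime → orderOf y = s ^ k → y ∈ H) : g ∈ H := by
  refine CfsgLib.PGroup.mem_of_forall_prime_pow_mem fun s hs => ?_
  set n := orderOf g with hn
  refine ⟨n / s ^ n.factorization s, Nat.not_dvd_ordCompl hs (orderOf_pos g).ne',
    hg _ (pow_mem (mem_zpowers g) _) s (n.factorization s) hs ?_⟩
  have hd : n / s ^ n.factorization s ∣ n := Nat.div_dvd_of_dvd (Nat.ordProj_dvd n s)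
  rw [orderOf_pow_of_dvd (fun e => by
      rw [Nat.div_eq_zero_iff] at e
      rcases e with e | e
      · exact pow_ne_zero _ hs.ne_zero e
      · exact absurd e (Nat.not_lt.2 (Nat.le_of_dvd (orderOf_pos g) (Nat.ordProj_dvd n s)))) hd,
    ← hn, Nat.div_div_self (Nat.ordProj_dvd n s) (orderOf_pos g).ne']

/-- In a perfect subgroup `K` with Sylow 2-subgroup `T`, an `r`-group normalized by `N_K(T)` and `T`
is centralized by `T`. -/
theorem Spec.centralizes_of_perfect (h : Spec G r) (K : Subgroup G) (hK : commutator K = ⊤)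
    (T : Sylow 2 K) {P : Subgroup G} (hP : IsPGroup r P)
    (hn : (normalizer ((T : Subgroup K) : Set K)).map K.subtype ≤ normalizer (P : Set G)) :
    (T : Subgroup K).map K.subtype ≤ centralizer (P : Set G) := by
  haveI : Fact (Nat.Prime 2) := ⟨Nat.prime_two⟩
  have hTsq : ∀ x ∈ (T : Subgroup K).map K.subtype, x * x = 1 := by
    rintro _ ⟨x, hx, rfl⟩
    exact congrArg Subtype.val ((h.subgroup K).sylow_sq T hx)
  refine h.centralizes_of_moves hTsq hP ((map_mono le_normalizer).trans hn) fun B hB hne hidx => ?_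
  by_contra hcon
  push Not at hcon
  -- every element of the Sylow normalizer fixes `B`
  have hall : ∀ g ∈ normalizer ((T : Subgroup K) : Set K), (g : G) ∈ normalizer (B : Set G) := by
    intro g hg
    refine mem_comap.1 (mem_of_prime_pow_powers (H := (normalizer (B : Set G)).comap K.subtype)
      fun y hy s k hs hyo => ?_)
    have hyN := zpowers_le.2 hg hy
    show (y : G) ∈ normalizer (B : Set G)
    by_cases hs2 : s = 2
    · subst hs2
      have hyT : y ∈ (T : Subgroup K) := CIT.mem_of_two_normalizer hyN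
        (IsPGroup.of_card (n := k) (by rw [Nat.card_zpowers, hyo]))
      refine mem_normalizer_iff.2 fun x => ?_
      have hyE : (y : G) ∈ (T : Subgroup K).map K.subtype := mem_map_of_mem _ hyT
      constructor <;> intro hx
      · rwa [comm_of_sq hTsq hyE (hB hx), mul_inv_cancel_right]
      · have h2 : (y : G) * x * (y : G)⁻¹ * y = y * (y * x * (y : G)⁻¹) :=
          comm_of_sq hTsq (hB hx) hyE
        rw [inv_mul_cancel_right] at h2
        rwa [← mul_left_cancel h2] at hx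
    · exact hcon y s k hs hs2 (by rw [Subgroup.orderOf_coe, hyo]) (hn (mem_map_of_mem _ hyN))
        (Subgroup.le_normalizer_map K.subtype (mem_map_of_mem _ hyN))
  have hab : IsMulCommutative (T : Subgroup K) :=
    ⟨⟨fun x y => Subtype.ext (comm_of_sq (fun _ => (h.subgroup K).sylow_sq T) x.2 y.2)⟩⟩
  have hle : (T : Subgroup K) ≤ B.subgroupOf K := by
    have h1 : (T : Subgroup K) ≤
        ⁅(T : Subgroup K), normalizer ((T : Subgroup K) : Set K)⁆ := by
      rw [← Fusion.inf_pResidual_abelian_sylow T hab]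
      exact le_inf le_rfl (le_top.trans (hK ▸ Fusion.commutator_le_pResidual_of_abelian T hab))
    refine h1.trans ?_
    rw [commutator_le]
    intro x hx g hg
    rw [mem_subgroupOf]
    show (x : G) * g * (x : G)⁻¹ * (g : G)⁻¹ ∈ B
    have hxE : (x : G) ∈ (T : Subgroup K).map K.subtype := mem_map_of_mem _ hx
    have hgN := hall g hg
    have hgxE : (g : G) * (x : G)⁻¹ * (g : G)⁻¹ ∈ (T : Subgroup K).map K.subtype :=
      mem_map_of_mem K.subtype ((mem_normalizer_iff.1 hg _).1 (inv_mem hx))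
    rw [show (x : G) * g * (x : G)⁻¹ * (g : G)⁻¹ = x * (g * (x : G)⁻¹ * (g : G)⁻¹) by group]
    by_cases hxB : (x : G) ∈ B
    · exact mul_mem hxB ((mem_normalizer_iff.1 hgN _).1 (inv_mem hxB))
    · exact hidx _ hxE _ hgxE hxB fun hh => hxB (inv_mem_iff.1 ((mem_normalizer_iff.1 hgN _).2 hh))
  exact hne (le_antisymm hB ((map_mono hle).trans (map_comap_le _ _)))

/-- In a simple group the Sylow 2-subgroup centralizes every `r`-group normalized by its normalizer. -/
theorem Spec.centralizes_of_simple [IsSimpleGroup G] (h : Spec G r) (hna : ¬ IsMulCommutative G)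
    (T : Sylow 2 G) {P : Subgroup G} (hP : IsPGroup r P)
    (hn : normalizer ((T : Subgroup G) : Set G) ≤ normalizer (P : Set G)) :
    (T : Subgroup G) ≤ centralizer (P : Set G) := by
  have hperf : commutator G = ⊤ := by
    refine ((inferInstance : (commutator G).Normal).eq_bot_or_eq_top).resolve_left fun e => ?_
    rw [commutator_eq_bot_iff] at e
    exact hna e
  have hS : Spec (⊤ : Subgroup G) r := h.subgroup ⊤
  have hK : commutator (⊤ : Subgroup G) = ⊤ := by
    refine (map_injective (f := (⊤ : Subgroup G).subtype) (subtype_injective _)) ?_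
    rw [map_subtype_commutator, ← MonoidHom.range_eq_map, range_subtype, ← commutator_def, hperf]
  have key := h.centralizes_of_perfect ⊤ hK (T.subtype le_top) hP ?_
  · rwa [Sylow.coe_subtype, map_subgroupOf_eq_of_le le_top] at key
  · refine (Subgroup.le_normalizer_map _).trans ?_
    rwa [Sylow.coe_subtype, map_subgroupOf_eq_of_le le_top]

end CfsgLib.OneComposite
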